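import Groth.Agent.CdDev9.ResidueStep
import Groth.Agent.GalEt.PVanish
import Groth.Agent.HopfQuot.UnitComponent
import Groth.Agent.Inters29.CohFlat

/-!
`cd_ℓ(k) + 1 ≤ cd_ℓ(K)` for henselian discrete valuation rings with `ℓ` invertible.
-/

set_option autoImplicit false
set_option linter.all false
set_option backward.isDefEq.respectTransparency.types false
set_option backward.isDefEq.respectTransparency false
set_option synthInstance.maxHeartbeats 400000
set_option maxHeartbeats 1000000

universe u

open CategoryTheory CategoryTheory.Limits AlgebraicGeometry Opposite IsLocalRing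
open Groth.Agent.Et18

noncomputable section

namespace Groth.Agent.CdDev9.Residue

open Groth.Agent.GalEt Groth.Agent.Et18.CdField

/-- Transport of constant coefficients along an isomorphism of fields. -/
theorem subsingleton_H_const_of_equiv {X Y : Scheme.{u}} (f : Y ⟶ X) [IsIso f] (M : Type) [AddCommGroup M] (q : ℕ)
    (h : Subsingleton (EtCoh.H X (EtCoh.const X M) q)) : Subsingleton (EtCoh.H Y (EtCoh.const Y M) q) := by
  haveI : IsIntegralHom f := inferInstance
  refine (subsingleton_H_push_iff f _ q).1 (subsingleton_H_of_iso ?_ q h)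
  haveI := pull_isEquivalence_of_universalHomeomorph f
  haveI : IsIso ((EtCoh.pullPushAdj f).unit.app (EtCoh.const X M)) := inferInstance
  exact asIso ((EtCoh.pullPushAdj f).unit.app (EtCoh.const X M)) ≪≫ (EtCoh.push f).mapIso (EtCore.pullConst f M)

/-- Unramified extensions of henselian discrete valuation rings. -/
theorem exists_unramified (R : Type u) [CommRing R] [IsDomain R] [IsDiscreteValuationRing R]
    [HenselianLocalRing R] (L : Type u) [Field L] [Algebra (ResidueField R) L] [Module.Finite (ResidueField R) L]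
    [Algebra.IsSeparable (ResidueField R) L] :
    ∃ (S : Type u) (_ : CommRing S) (_ : IsDomain S) (_ : IsDiscreteValuationRing S) (_ : HenselianLocalRing S)
      (_ : Algebra R S) (_ : Module.Finite R S),
      Function.Injective (algebraMap R S) ∧ Nonempty (ResidueField S ≃+* L) := by
  obtain ⟨α, hα⟩ := Field.exists_primitive_element (ResidueField R) L
  have hint : IsIntegral (ResidueField R) α := Algebra.IsIntegral.isIntegral α
  let p := minpoly (ResidueField R) α
  have hp : Irreducible p := minpoly.irreducible hint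
  obtain ⟨f, hf, -, hfm⟩ := Polynomial.lifts_and_degree_eq_and_monic
    (Polynomial.mem_lifts p |>.2 (Polynomial.map_surjective _ residue_surjective p)) (minpoly.monic hint)
  haveI : Fact (Irreducible p) := ⟨hp⟩
  have hfi : Irreducible f := hfm.irreducible_of_irreducible_map (residue R) f (hf.symm ▸ hp)
  let S := AdjoinRoot f
  haveI : IsLocalRing S := Inters29.isLocalRing_adjoinRoot (residue R) residue_surjective
    (fun N hN => by rw [IsLocalRing.ker_residue]; exact IsLocalRing.eq_maximalIdeal hN) f hfm p hf
  haveI : IsDomain S := AdjoinRoot.isDomain_of_prime hfi.prime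
  haveI : Module.Finite R S := hfm.finite_adjoinRoot
  haveI : HenselianLocalRing S := HopfQuot.UnitComp.henselianLocalRing_of_finite (R := R) S
  haveI : IsNoetherianRing S := IsNoetherianRing.of_finite R S
  let ρ : S →+* L := AdjoinRoot.lift ((algebraMap (ResidueField R) L).comp (residue R)) α (by
    rw [← Polynomial.eval₂_map, hf]; exact minpoly.aeval _ α)
  have hρ : Function.Surjective ρ := fun z => by
    have hz : z ∈ (IntermediateField.adjoin (ResidueField R) {α}).toSubalgebra := by rw [hα]; trivial
    rw [IntermediateField.adjoin_simple_toSubalgebra_of_isAlgebraic hint.isAlgebraic,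
      Algebra.adjoin_singleton_eq_range_aeval] at hz
    obtain ⟨g, rfl⟩ := hz
    obtain ⟨g', rfl⟩ := Polynomial.map_surjective _ residue_surjective g
    refine ⟨AdjoinRoot.mk f g', ?_⟩
    rw [AdjoinRoot.lift_mk, ← Polynomial.eval₂_map]
    rfl
  have hker : RingHom.ker ρ = maximalIdeal S :=
    IsLocalRing.eq_maximalIdeal (RingHom.ker_isMaximal_of_surjective ρ hρ)
  obtain ⟨π, hπ⟩ := IsDiscreteValuationRing.exists_irreducible R
  have hmax : maximalIdeal S = Ideal.span {algebraMap R S π} := by
    refine le_antisymm (fun x hx => ?_) ?_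
    · obtain ⟨g, rfl⟩ := AdjoinRoot.mk_surjective x
      rw [← hker, RingHom.mem_ker, AdjoinRoot.lift_mk, ← Polynomial.eval₂_map] at hx
      obtain ⟨q, hq⟩ : p ∣ g.map (residue R) := minpoly.dvd _ α hx
      obtain ⟨q', rfl⟩ := Polynomial.map_surjective _ residue_surjective q
      have h0 : (g - f * q').map (residue R) = 0 := by
        rw [Polynomial.map_sub, Polynomial.map_mul, hf, hq, sub_self]
      have hd : Polynomial.C π ∣ g - f * q' := by
        rw [Polynomial.C_dvd_iff_dvd_coeff]
        intro i
        have h1 : residue R ((g - f * q').coeff i) = 0 := by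
          rw [← Polynomial.coeff_map, h0, Polynomial.coeff_zero]
        rw [IsLocalRing.residue_eq_zero_iff, hπ.maximalIdeal_eq, Ideal.mem_span_singleton] at h1
        exact h1
      obtain ⟨r, hr⟩ := hd
      refine Ideal.mem_span_singleton.2 ⟨AdjoinRoot.mk f r, ?_⟩
      have := congrArg (AdjoinRoot.mk f) hr
      rw [map_sub, map_mul, map_mul, AdjoinRoot.mk_self, zero_mul, sub_zero] at this
      exact this
    · rw [Ideal.span_singleton_le_iff_mem, ← hker, RingHom.mem_ker]
      show ρ (AdjoinRoot.of f π) = 0
      rw [AdjoinRoot.lift_of]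
      show algebraMap (ResidueField R) L (residue R π) = 0
      rw [(IsLocalRing.residue_eq_zero_iff π).2 (by rw [hπ.maximalIdeal_eq]; exact Ideal.mem_span_singleton_self π),
        map_zero]
  have hdeg : f.degree ≠ 0 := fun h0 => by
    have h1 : p.degree = 0 := by rw [← hf, hfm.degree_map]; exact h0
    exact (minpoly.degree_pos hint).ne' h1
  have hinj : Function.Injective (algebraMap R S) := AdjoinRoot.of.injective_of_degree_ne_zero hdeg
  have hnf : ¬ IsField S := fun h => by
    have h1 := IsLocalRing.isField_iff_maximalIdeal_eq.1 h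
    rw [hmax, Ideal.span_singleton_eq_bot] at h1
    exact hπ.ne_zero (hinj (h1.trans (map_zero _).symm))
  haveI : IsDiscreteValuationRing S :=
    ((IsDiscreteValuationRing.TFAE S hnf).out 4 0).mp (show (maximalIdeal S).IsPrincipal from ⟨_, hmax⟩)
  exact ⟨S, inferInstance, inferInstance, inferInstance, inferInstance, inferInstance, inferInstance, hinj,
    ⟨(Ideal.quotEquivOfEq hker.symm).trans (RingHom.quotientKerEquivOfSurjective hρ)⟩⟩

/-- `cd_ℓ(k) + 1 ≤ cd_ℓ(K)`. -/
theorem cohDim_residue (R K : Type u) [CommRing R] [IsDomain R] [IsDiscreteValuationRing R] [HenselianLocalRing R]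
    [Field K] [Algebra R K] [IsFractionRing R K] {ℓ : ℕ} (hℓ : ℓ.Prime) (hu : IsUnit (ℓ : R)) {d : ℕ}
    (hK : Dix.CohDimLEAt (Spec (CommRingCat.of K)) ℓ d) :
    1 ≤ d ∧ Dix.CohDimLEAt (Spec (CommRingCat.of (ResidueField R))) ℓ (d - 1) := by
  have hℓ' : EtAcyc.PrimesIn ({ℓ} : Set ℕ) ℓ := ⟨hℓ.pos, fun p hp hd => (Nat.prime_dvd_prime_iff_eq hp hℓ).1 hd⟩
  let e : FractionRing R ≃+* K := (FractionRing.algEquiv R K).toRingEquiv
  let π : Spec (CommRingCat.of (FractionRing R)) ⟶ Spec (CommRingCat.of K) :=
    Spec.map e.toCommRingCatIso.inv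
  haveI : IsFinite π := inferInstance
  have hR : CdKilled (Spec (CommRingCat.of (FractionRing R))) ℓ d :=
    (Transc.cdKilled_of_cohDimLEAt hK hℓ').of_finite π
  have hd := (main R hℓ hu hR).1
  refine ⟨hd, ?_⟩
  let k := ResidueField R
  have hall : ∀ (L : Type u) [Field L] [Algebra k L] [Module.Finite k L] [Algebra.IsSeparable k L],
      Subsingleton (EtCoh.H (Spec (CommRingCat.of L)) (EtCoh.const _ (ZMod ℓ)) d) := by
    intro L _ _ _ _
    obtain ⟨S, _, _, _, _, _, _, hinj, ⟨eL⟩⟩ := exists_unramified R L
    have huS : IsUnit (ℓ : S) := by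
      have := hu.map (algebraMap R S)
      rwa [map_natCast] at this
    haveI : FaithfulSMul R S := (faithfulSMul_iff_algebraMap_injective R S).2 hinj
    letI := FractionRing.liftAlgebra R (FractionRing S)
    haveI : Algebra.IsAlgebraic (FractionRing R) (FractionRing S) := inferInstance
    let g : Spec (CommRingCat.of (FractionRing S)) ⟶ Spec (CommRingCat.of (FractionRing R)) :=
      H8Lim.algSpec (FractionRing R) (FractionRing S)
    haveI : IsIntegralHom g := IsIntegralHom.SpecMap_iff.2 (algebraMap_isIntegral_iff.2 inferInstance)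
    obtain ⟨-, h1⟩ := main S hℓ huS (hR.of_finite g)
    let s : X S := IsLocalRing.closedPoint S
    obtain ⟨eZ⟩ := nonempty_ZN_iso (Spec ((X S).residueField s)) ℓ
    have h2 : Subsingleton (EtCoh.H (Spec ((X S).residueField s)) (EtCoh.const _ (ZMod ℓ)) d) :=
      subsingleton_H_of_iso eZ d h1
    let eR : ResidueField S ≃+* (maximalIdeal S).ResidueField :=
      RingEquiv.ofBijective (algebraMap (S ⧸ maximalIdeal S) _)
        (maximalIdeal S).bijective_algebraMap_quotient_residueField
    let f : Spec (CommRingCat.of L) ⟶ Spec ((X S).residueField s) :=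
      Spec.map ((Scheme.Spec.residueFieldIso (CommRingCat.of S) s).hom ≫
        (eR.symm.trans eL).toCommRingCatIso.hom)
    exact subsingleton_H_const_of_equiv f (ZMod ℓ) d h2
  obtain ⟨n, rfl⟩ : ∃ n, d = n + 1 := ⟨d - 1, by omega⟩
  have hcdl : CdL (Spec (CommRingCat.of k)) {ℓ} n := GalEt.subsingleton_H_of_ge k n fun G hG =>
    GalEt.subsingleton_H_of_constructible k hℓ (n + 1)
      (GalEt.subsingleton_H_constructible_of_all k hℓ (n + 1) hall) G hG
  intro F hF q hq
  exact hcdl F ((isLTorsion_iff hℓ F).1 hF) q (by omega)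

end Groth.Agent.CdDev9.Residue
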