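import Groth.Agent.CdDev9.FiniteDevissage
import Groth.Agent.AlgSpLib.DimBasic

/-!
Devissage with the dimension as dimension function.
-/

set_option autoImplicit false
set_option linter.all false
universe u

open CategoryTheory CategoryTheory.Limits AlgebraicGeometry Opposite
open Groth.Agent.Et18

namespace Groth.Agent.CdDev9

/-- The dimension as a natural number. -/
noncomputable def dimNat (Y : Scheme.{u}) : ℕ := ((topologicalKrullDim Y).unbotD 0).toNat

theorem dimNat_spec {Y : Scheme.{u}} [Nonempty Y] {n : ℕ} (h : topologicalKrullDim Y ≤ n) :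
    topologicalKrullDim Y = (dimNat Y : ℕ) := by
  have h0 : (0 : WithBot ℕ∞) ≤ topologicalKrullDim Y := by
    rw [DimLib.topologicalKrullDim_eq_krullDim]
    exact Order.krullDim_nonneg
  revert h h0
  unfold dimNat
  generalize topologicalKrullDim Y = d
  intro h h0
  induction d using WithBot.recBotCoe with
  | bot => simp at h0
  | coe d =>
    have hd : d ≤ (n : ℕ∞) := WithBot.coe_le_coe.1 h
    simp only [WithBot.unbotD_coe]
    rw [← ENat.coe_toNat (ne_top_of_le_ne_top (ENat.coe_ne_top n) hd)]
    rfl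

/-- A proper closed integral subscheme has smaller dimension. -/
theorem dim_add_one_le {Y₁ Y₂ : Scheme.{u}} [IsIntegral Y₁] [IsIntegral Y₂] (m : Y₁ ⟶ Y₂) [IsClosedImmersion m]
    (hm : ¬ IsIso m) : topologicalKrullDim Y₁ + 1 ≤ topologicalKrullDim Y₂ := by
  have hη : genericPoint Y₂ ∉ Set.range m := fun h => by
    refine hm (haveI : Surjective m := ⟨fun y => ?_⟩; isIso_of_isClosedImmersion_of_surjective m)
    exact (genericPoint_specializes y).mem_closed m.isClosedEmbedding.isClosed_range h
  rw [DimLib.topologicalKrullDim_eq_krullDim, DimLib.topologicalKrullDim_eq_krullDim, ← Order.krullDim_WithTop]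
  refine Order.krullDim_le_of_strictMono (fun a => WithTop.recTopCoe (genericPoint Y₂) (fun b => m b) a) ?_
  intro a b hab
  induction b using WithTop.recTopCoe with
  | top =>
    induction a using WithTop.recTopCoe with
    | top => exact absurd hab (lt_irrefl _)
    | coe a =>
      refine lt_of_le_not_ge (show genericPoint Y₂ ⤳ m a from genericPoint_specializes _) fun h => hη ?_
      exact ⟨a, ((show m a ⤳ genericPoint Y₂ from h).antisymm (genericPoint_specializes _)).eq⟩
  | coe b =>
    induction a using WithTop.recTopCoe with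
    | top => exact absurd hab not_top_lt
    | coe a => exact AlgSpLib.strictMono_of_isIntegralHom m (WithTop.coe_lt_coe.1 hab)

/-- `cd_p(X) ≤ dim X + c` if this holds for constant coefficients on integral schemes finite over `X`. -/
theorem cohDimLEAt_of_const {X : Scheme.{u}} [AlgebraicGeometry.IsNoetherian X] (p : ℕ) (hp : p.Prime) (n c : ℕ)
    (hn : topologicalKrullDim X ≤ n)
    (hconst : ∀ (Y : Scheme.{u}) (g : Y ⟶ X) [IsIntegral Y] [IsFinite g] (d : ℕ),
      topologicalKrullDim Y ≤ d → ∀ q, d + c < q → Subsingleton (EtCoh.H Y (EtCoh.const Y (ZMod p)) q)) :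
    Dix.CohDimLEAt X p (n + c) := by
  intro F hF q hq
  have hdim : ∀ (Y : Scheme.{u}) (g : Y ⟶ X) [IsIntegral Y] [IsFinite g],
      topologicalKrullDim Y = (dimNat Y : ℕ) ∧ dimNat Y ≤ n := fun Y g _ _ => by
    have h := (AlgSpLib.topologicalKrullDim_le_of_isIntegralHom g).trans hn
    refine ⟨dimNat_spec h, ?_⟩
    rw [dimNat_spec h] at h
    exact_mod_cast h
  refine claim (ℓ := p) (φ := fun Y _ => dimNat Y + c) hp ?_ ?_ q X (𝟙 X) F
    ((CdField.isLTorsion_iff hp F).1 hF) (fun Z e _ _ _ => ?_) q le_rfl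
  · intro Y₁ Y₂ g₁ g₂ _ _ _ _ m e
    obtain ⟨h₁, -⟩ := hdim Y₁ g₁
    obtain ⟨h₂, -⟩ := hdim Y₂ g₂
    haveI : IsFinite (m ≫ g₂) := by rw [e]; infer_instance
    haveI : IsFinite m := IsFinite.of_comp m g₂
    refine ⟨?_, fun hm hiso => ?_⟩
    · have := AlgSpLib.topologicalKrullDim_le_of_isIntegralHom m
      rw [h₁, h₂] at this
      exact Nat.add_le_add_right (by exact_mod_cast this) c
    · have := dim_add_one_le m hiso
      rw [h₁, h₂] at this
      exact Nat.add_lt_add_right (Nat.lt_of_succ_le (by exact_mod_cast this)) c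
  · intro Y g _ _ q hq
    exact hconst Y g (dimNat Y) (hdim Y g).1.le q hq
  · exact lt_of_le_of_lt (Nat.add_le_add_right (hdim Z (e ≫ 𝟙 X)).2 c) hq

end Groth.Agent.CdDev9
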