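import Groth.Prelude.Def_FEt
import Groth.Agent.Et18.FiniteEtaleCard
import Mathlib.AlgebraicGeometry.Morphisms.FlatRank
import Mathlib.AlgebraicGeometry.Fiber
import Groth.Agent.SGA3cLib.MonoClosed

/-!
Finite étale covers of discrete schemes with separably closed residue fields.
-/

set_option autoImplicit false
set_option linter.all false
set_option backward.isDefEq.respectTransparency.types false
set_option backward.isDefEq.respectTransparency false
set_option maxHeartbeats 1000000

universe u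

open CategoryTheory CategoryTheory.Limits AlgebraicGeometry Opposite TopologicalSpace

noncomputable section

namespace Groth.Agent.CdDev9

theorem isSepClosed_ringEquiv {K L : Type u} [Field K] [Field L] (e : K ≃+* L) [IsSepClosed K] : IsSepClosed L :=
  IsSepClosed.of_exists_root _ fun p _ _ hsep => by
    by_cases hd : p.degree = 0
    · exact absurd hd (by
        intro h; exact (‹Irreducible p›.degree_pos).ne' h)
    obtain ⟨x, hx⟩ := IsSepClosed.exists_root (p.map e.symm.toRingHom)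
      (by rwa [Polynomial.degree_map]) (Polynomial.Separable.map hsep)
    refine ⟨e x, ?_⟩
    have := congrArg e hx.eq_zero
    rw [map_zero, Polynomial.eval_map] at this
    rw [← this]
    show p.eval (e x) = e.toRingHom (Polynomial.eval₂ e.symm.toRingHom x p)
    rw [Polynomial.hom_eval₂, RingEquiv.toRingHom_eq_coe, RingEquiv.toRingHom_eq_coe, RingEquiv.comp_symm]
    rfl

theorem card_preimage {A M : Scheme.{u}} (π : A ⟶ M) [IsFinite π] [Etale π] (m : M) [IsSepClosed (M.residueField m)] :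
    (π ⁻¹' {m}).Finite ∧ Nat.card (π ⁻¹' {m}) = π.finrank m := by
  haveI : IsSepClosed (IsLocalRing.ResidueField (M.presheaf.stalk m)) := ‹IsSepClosed (M.residueField m)›
  have h := Et18.card_pointLift π (M.fromSpecResidueField m : Spec (CommRingCat.of (M.residueField m)) ⟶ M)
  have e : (M.fromSpecResidueField m : Spec (CommRingCat.of (M.residueField m)) ⟶ M) default = m :=
    Scheme.fromSpecResidueField_apply _ _
  have hfin : (π ⁻¹' {m}).Finite := π.finite_preimage_singleton m
  exact ⟨hfin, (Nat.card_congr (π.fiberHomeo m).toEquiv).symm.trans (h.2.2.trans (congrArg _ e))⟩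

variable {A B M : Scheme.{u}} [DiscreteTopology M] (π : A ⟶ M) [IsFinite π] [Etale π]
  (hsep : ∀ m : M, IsSepClosed (M.residueField m))

include π in
theorem discrete_source : DiscreteTopology A := by
  refine discreteTopology_iff_isOpen_singleton.2 fun a => ?_
  have hfin := π.finite_preimage_singleton (π a)
  have hopen : IsOpen (π ⁻¹' {π a}) := (isOpen_discrete _).preimage π.continuous
  have hclosed : ∀ c ∈ π ⁻¹' {π a}, IsClosed ({c} : Set A) := by
    intro c hc
    refine closure_subset_iff_isClosed.1 fun d hd => ?_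
    have hcd : c ⤳ d := specializes_iff_mem_closure.2 hd
    have he : π c = π d := ((hcd.map π.continuous).mem_closed (isClosed_discrete {π c}) rfl).symm
    exact (SGA3cLib.eq_of_specializes_of_isIntegralHom π hcd he).symm
  have hcl : IsClosed ((π ⁻¹' {π a}) \ {a}) := by
    rw [← Set.biUnion_of_singleton ((π ⁻¹' {π a}) \ {a})]
    exact (hfin.diff.isClosed_biUnion) fun c hc => hclosed c hc.1
  convert hopen.sdiff hcl using 1
  ext c
  simp only [Set.mem_singleton_iff, Set.mem_diff, Set.mem_preimage, not_and, not_not]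
  constructor
  · rintro rfl; exact ⟨rfl, fun _ => rfl⟩
  · exact fun h => h.2 h.1

/-- The open point. -/
def ptOpen (T : Scheme.{u}) [DiscreteTopology T] (t : T) : T.Opens := ⟨{t}, isOpen_discrete _⟩

/-- The map of an open point to the open point below. -/
def ptMap [DiscreteTopology A] (a : A) : (ptOpen A a).toScheme ⟶ (ptOpen M (π a)).toScheme :=
  IsOpenImmersion.lift (ptOpen M (π a)).ι ((ptOpen A a).ι ≫ π) (by
    rw [Scheme.Opens.range_ι]
    rintro _ ⟨x, rfl⟩
    rw [Scheme.Hom.comp_apply]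
    exact congrArg π (x.2 : x.1 = a))

theorem ptMap_fac [DiscreteTopology A] (a : A) : ptMap π a ≫ (ptOpen M (π a)).ι = (ptOpen A a).ι ≫ π :=
  IsOpenImmersion.lift_fac _ _ _

include hsep in
theorem isIso_ptMap [DiscreteTopology A] (a : A) : IsIso (ptMap π a) := by
  let q := ptMap π a
  haveI : IsClosedImmersion (ptOpen A a).ι := IsClosedImmersion.of_isPreimmersion _
    (by rw [Scheme.Opens.range_ι]; exact isClosed_discrete _)
  haveI : IsFinite (ptMap π a ≫ (ptOpen M (π a)).ι) := by rw [ptMap_fac]; infer_instance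
  haveI : IsFinite q := IsFinite.of_comp _ (ptOpen M (π a)).ι
  haveI : Etale (ptMap π a ≫ (ptOpen M (π a)).ι) := by rw [ptMap_fac]; infer_instance
  haveI : Etale q := Etale.of_comp _ (ptOpen M (π a)).ι
  rw [Scheme.Hom.isIso_iff_finrank_eq]
  funext v
  haveI : IsSepClosed ((ptOpen M (π a)).toScheme.residueField v) := by
    haveI := hsep ((ptOpen M (π a)).ι v)
    exact isSepClosed_ringEquiv (asIso ((ptOpen M (π a)).ι.residueFieldMap v)).commRingCatIsoToRingEquiv
  obtain ⟨-, hc⟩ := card_preimage q v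
  rw [Pi.one_apply, ← hc, Nat.card_eq_one_iff_unique]
  exact ⟨⟨fun x y => Subtype.ext (Subtype.ext ((x.1.2 : x.1.1 = a).trans (y.1.2 : y.1.1 = a).symm))⟩,
    ⟨⟨⟨a, rfl⟩, Subtype.ext ((q ⟨a, rfl⟩).2.trans (v.2 : v.1 = π a).symm)⟩⟩⟩

include hsep in
theorem exists_hom_of_equiv (ρ : B ⟶ M) [IsFinite ρ] [Etale ρ] [DiscreteTopology A] [DiscreteTopology B]
    (β : A → B) (hβ : ∀ a, ρ (β a) = π a) :
    ∃ θ : A ⟶ B, θ ≫ ρ = π ∧ ∀ a, θ a = β a := by
  have hq : ∀ b, IsIso (ptMap ρ b) := fun b => isIso_ptMap ρ hsep b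
  let 𝒰 : A.OpenCover := A.openCoverOfIsOpenCover (ptOpen A)
    (.mk (by ext x; simp [ptOpen]))
  let c : ∀ a : A, (ptOpen A a).toScheme ⟶ (ptOpen M (ρ (β a))).toScheme := fun a =>
    ptMap π a ≫ (M.isoOfEq (show ptOpen M (π a) = ptOpen M (ρ (β a)) by rw [hβ])).hom
  have hc : ∀ a, c a ≫ (ptOpen M (ρ (β a))).ι = (ptOpen A a).ι ≫ π := fun a => by
    rw [Category.assoc, Scheme.isoOfEq_hom_ι, ptMap_fac]
  let g : ∀ a : A, (ptOpen A a).toScheme ⟶ B := fun a =>
    c a ≫ (haveI := hq (β a); inv (ptMap ρ (β a))) ≫ (ptOpen B (β a)).ι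
  let θ : A ⟶ B := 𝒰.glueMorphisms g (fun a a' => by
    by_cases h : a = a'
    · subst h
      have : pullback.fst (ptOpen A a).ι (ptOpen A a).ι = pullback.snd (ptOpen A a).ι (ptOpen A a).ι :=
        (cancel_mono (ptOpen A a).ι).1 pullback.condition
      exact congrArg (fun w => w ≫ g a) this
    · haveI : IsEmpty ↥(pullback (ptOpen A a).ι (ptOpen A a').ι) := ⟨fun z => h (by
        have := congrArg (fun w : _ ⟶ A => w z) (pullback.condition (f := (ptOpen A a).ι) (g := (ptOpen A a').ι))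
        simp only [Scheme.Hom.comp_apply] at this
        exact ((pullback.fst (ptOpen A a).ι (ptOpen A a').ι z).2 : _ = a).symm.trans
          (this.trans ((pullback.snd (ptOpen A a).ι (ptOpen A a').ι z).2 : _ = a')))⟩
      exact (isInitialOfIsEmpty (X := pullback (ptOpen A a).ι (ptOpen A a').ι)).hom_ext _ _)
  have hθ : ∀ a, (ptOpen A a).ι ≫ θ = g a := fun a => 𝒰.ι_glueMorphisms _ _ a
  refine ⟨θ, 𝒰.hom_ext _ _ fun a => ?_, fun a => ?_⟩
  · show (ptOpen A a).ι ≫ θ ≫ ρ = (ptOpen A a).ι ≫ π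
    haveI := hq (β a)
    rw [← Category.assoc, hθ]
    simp only [g, Category.assoc]
    rw [← ptMap_fac ρ (β a), IsIso.inv_hom_id_assoc, hc]
  · have := congrArg (fun w : _ ⟶ B => w (⟨a, rfl⟩ : (ptOpen A a).toScheme)) (hθ a)
    simp only [Scheme.Hom.comp_apply] at this
    refine this.trans ?_
    exact Subtype.prop (_ : (ptOpen B (β a)).toScheme)

include hsep in
/-- Covers with the same degree everywhere are isomorphic. -/
theorem nonempty_iso_of_finrank (ρ : B ⟶ M) [IsFinite ρ] [Etale ρ] (h : π.finrank = ρ.finrank) :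
    ∃ e : A ≅ B, e.hom ≫ ρ = π := by
  haveI := discrete_source π
  haveI := discrete_source ρ
  have hm : ∀ m, Nonempty ((π ⁻¹' {m} : Set A) ≃ (ρ ⁻¹' {m} : Set B)) := fun m => by
    haveI := hsep m
    obtain ⟨h1, h1'⟩ := card_preimage π m
    obtain ⟨h2, h2'⟩ := card_preimage ρ m
    haveI := h1.to_subtype
    haveI := h2.to_subtype
    exact ⟨(Finite.card_eq.1 (h1'.trans ((congrFun h m).trans h2'.symm))).some⟩
  let em := fun m => (hm m).some
  let β : A ≃ B := ((Equiv.sigmaFiberEquiv (fun a => π a)).symm.trans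
    (Equiv.sigmaCongrRight em)).trans (Equiv.sigmaFiberEquiv (fun b => ρ b))
  have hβ : ∀ a, ρ (β a) = π a := fun a => (em (π a) ⟨a, rfl⟩).2
  have hβ' : ∀ b, π (β.symm b) = ρ b := fun b => by
    conv_rhs => rw [← β.apply_symm_apply b, hβ]
  obtain ⟨θ, hθ, hθa⟩ := exists_hom_of_equiv π hsep ρ β hβ
  obtain ⟨θ', hθ', hθb⟩ := exists_hom_of_equiv ρ hsep π β.symm hβ'
  have key : ∀ {C : Scheme.{u}} [DiscreteTopology C] (γ : C ⟶ M) [IsFinite γ] [Etale γ] (w : C ⟶ C),
      w ≫ γ = γ → (∀ x, w x = x) → w = 𝟙 C := by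
    intro C _ γ _ _ w hw hx
    refine (C.openCoverOfIsOpenCover (ptOpen C) (.mk (by ext x; simp [ptOpen]))).hom_ext _ _ fun x => ?_
    show (ptOpen C x).ι ≫ w = (ptOpen C x).ι ≫ 𝟙 C
    let w₀ : (ptOpen C x).toScheme ⟶ (ptOpen C x).toScheme :=
      IsOpenImmersion.lift (ptOpen C x).ι ((ptOpen C x).ι ≫ w) (by
        rw [Scheme.Opens.range_ι]
        rintro _ ⟨y, rfl⟩
        rw [Scheme.Hom.comp_apply, hx]
        exact y.2)
    have h0 : w₀ ≫ (ptOpen C x).ι = (ptOpen C x).ι ≫ w := IsOpenImmersion.lift_fac _ _ _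
    haveI := isIso_ptMap γ hsep x
    have : w₀ = 𝟙 _ := by
      rw [← cancel_mono (ptMap γ x), Category.id_comp, ← cancel_mono (ptOpen M (γ x)).ι, Category.assoc,
        ptMap_fac, ← Category.assoc, h0, Category.assoc, hw]
    rw [← h0, this, Category.id_comp, Category.comp_id]
  refine ⟨⟨θ, θ', key π _ ?_ fun a => ?_, key ρ _ ?_ fun b => ?_⟩, hθ⟩
  · rw [Category.assoc, hθ', hθ]
  · rw [Scheme.Hom.comp_apply, hθa, hθb, β.symm_apply_apply]
  · rw [Category.assoc, hθ, hθ']
  · rw [Scheme.Hom.comp_apply, hθb, hθa, β.apply_symm_apply]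

end Groth.Agent.CdDev9
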