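import Groth.Agent.FlatMorPush.Instances
import Groth.Agent.FlatMorPush.Props
import Groth.Agent.S7181
import Groth.Agent.Props12.KerReduced
import Mathlib.AlgebraicGeometry.Morphisms.QuasiFinite
import Mathlib.AlgebraicGeometry.Morphisms.Finite
import Mathlib.AlgebraicGeometry.Morphisms.Proper

/-!
The double of a reduced scheme along a closed subscheme.
-/

set_option autoImplicit false
set_option linter.all false
set_option backward.isDefEq.respectTransparency.types false
set_option backward.isDefEq.respectTransparency false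
set_option synthInstance.maxHeartbeats 400000
set_option maxHeartbeats 1000000

universe u

open CategoryTheory CategoryTheory.Limits AlgebraicGeometry Opposite TopologicalSpace

noncomputable section

namespace Groth.Agent.CdDev9

/-- A scheme is reduced if it is a pushout of reduced schemes. -/
theorem isReduced_of_isPushout {T X Y P : Scheme.{u}} [IsReduced X] [IsReduced Y] {i : T ⟶ X} {j : T ⟶ Y}
    {a : X ⟶ P} {b : Y ⟶ P} (h : IsPushout i j a b) : IsReduced P := by
  let I := Scheme.IdealSheafData.vanishingIdeal (⊤ : Closeds P)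
  haveI : IsReduced I.subscheme := Props12.isReduced_subscheme_vanishingIdeal _
  have hle : ∀ {W : Scheme.{u}} [IsReduced W] (f : W ⟶ P), I.subschemeι.ker ≤ f.ker := by
    intro W _ f
    rw [Scheme.IdealSheafData.ker_subschemeι, Props12.ker_eq_vanishingIdeal]
    exact Scheme.IdealSheafData.vanishingIdeal_antimono le_top
  let a' := IsClosedImmersion.lift I.subschemeι a (hle a)
  let b' := IsClosedImmersion.lift I.subschemeι b (hle b)
  have e : i ≫ a' = j ≫ b' := by
    rw [← cancel_mono I.subschemeι, Category.assoc, Category.assoc, IsClosedImmersion.lift_fac,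
      IsClosedImmersion.lift_fac, h.w]
  let s := h.desc a' b' e
  have hs : s ≫ I.subschemeι = 𝟙 P := by
    refine h.hom_ext ?_ ?_
    · rw [← Category.assoc, h.inl_desc, IsClosedImmersion.lift_fac, Category.comp_id]
    · rw [← Category.assoc, h.inr_desc, IsClosedImmersion.lift_fac, Category.comp_id]
  haveI : IsSplitEpi I.subschemeι := ⟨⟨⟨s, hs⟩⟩⟩
  haveI : IsIso I.subschemeι := isIso_of_mono_of_isSplitEpi _
  exact isReduced_of_isOpenImmersion (inv I.subschemeι)

/-- The double along a closed subscheme, with its retraction. -/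
theorem exists_double {Z T : Scheme.{u}} [IsLocallyNoetherian Z] [IsReduced Z] (i : T ⟶ Z) [IsClosedImmersion i] :
    ∃ (D : Scheme.{u}) (a b : Z ⟶ D) (r : D ⟶ Z), IsClosedImmersion a ∧ IsClosedImmersion b ∧ IsFinite r ∧
      IsReduced D ∧ a ≫ r = 𝟙 Z ∧ b ≫ r = 𝟙 Z ∧ IsPullback i i a b ∧ Set.range a ∪ Set.range b = Set.univ := by
  haveI := FlatMorPush.hasPairs_of_isClosedImmersion i i
  let a := FlatMorPush.inl i i
  let b := FlatMorPush.inr i i
  have hP := FlatMorPush.isPushout i i
  haveI : IsClosedImmersion a := FlatMorPush.isClosedImmersion_inl i i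
  haveI : IsClosedImmersion b := FlatMorPush.isClosedImmersion_inr i i
  let r := hP.desc (𝟙 Z) (𝟙 Z) rfl
  have ha : a ≫ r = 𝟙 Z := hP.inl_desc _ _ _
  have hb : b ≫ r = 𝟙 Z := hP.inr_desc _ _ _
  have hu : Set.range a ∪ Set.range b = Set.univ := Set.eq_univ_of_forall fun w => by
    obtain ⟨x, rfl⟩ := ((FlatMorPush.surjective_coprod' (i := i) (j := i))).surj w
    obtain ⟨c, rfl⟩ := (coprodMk Z Z).surjective x
    rcases c with c | c
    · exact Or.inl ⟨c, by rw [coprodMk_inl, ← Scheme.Hom.comp_apply, coprod.inl_desc]⟩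
    · exact Or.inr ⟨c, by rw [coprodMk_inr, ← Scheme.Hom.comp_apply, coprod.inr_desc]⟩
  haveI : LocallyOfFiniteType (a ≫ r) := ha ▸ inferInstance
  haveI : LocallyOfFiniteType (b ≫ r) := hb ▸ inferInstance
  haveI : LocallyOfFiniteType r := FlatMorPush.locallyOfFiniteType_out (i := i) (j := i) r
  haveI : IsSeparated r := (S7181.result i i (fun y => by
    obtain ⟨U, hU, hyU, -⟩ := exists_isAffineOpen_mem_and_subset (x := y) (U := ⊤) trivial
    exact ⟨U, hU, fun t ht => show i t ∈ U from (ht : i t = y) ▸ hyU⟩) a b hP (𝟙 Z) (𝟙 Z) r ha hb).1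
      ⟨inferInstance, inferInstance⟩
  haveI : Surjective (coprod.desc a b) := (FlatMorPush.surjective_coprod' (i := i) (j := i))
  have hcov : coprod.desc a b ≫ r = coprod.desc (𝟙 Z) (𝟙 Z) := by
    rw [coprod.desc_comp, ha, hb]
  haveI : IsFinite (coprod.desc (𝟙 Z) (𝟙 Z)) := inferInstance
  haveI : QuasiCompact (coprod.desc a b ≫ r) := hcov ▸ inferInstance
  haveI : UniversallyClosed (coprod.desc a b ≫ r) := hcov ▸ inferInstance
  haveI : UniversallyClosed r := UniversallyClosed.of_comp_surjective (coprod.desc a b) r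
  haveI : QuasiCompact r := inferInstance
  haveI : IsProper r := { }
  have hfin : ∀ z, (r ⁻¹' {z}).Finite := fun z => by
    refine ((Set.finite_singleton (a z)).union (Set.finite_singleton (b z))).subset fun w hw => ?_
    rcases hu.ge (Set.mem_univ w) with ⟨c, rfl⟩ | ⟨c, rfl⟩
    · exact Or.inl (congrArg a ((Scheme.Hom.comp_apply a r c).symm.trans (by rw [ha]; rfl) |>.symm.trans hw))
    · exact Or.inr (congrArg b ((Scheme.Hom.comp_apply b r c).symm.trans (by rw [hb]; rfl) |>.symm.trans hw))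
  haveI : LocallyQuasiFinite r := LocallyQuasiFinite.of_finite_preimage_singleton r hfin
  haveI : IsFinite r := IsFinite.of_isProper_of_locallyQuasiFinite r
  exact ⟨_, a, b, r, inferInstance, inferInstance, inferInstance, isReduced_of_isPushout hP, ha, hb,
    FlatMorPush.isPullback i i, hu⟩

/-- The open part of a double is open in it. -/
theorem isOpenImmersion_into_double {Z T W D : Scheme.{u}} {i : T ⟶ Z} {a b : Z ⟶ D} [IsClosedImmersion a]
    [IsClosedImmersion b] [IsReduced D] (hpb : IsPullback i i a b) (hu : Set.range a ∪ Set.range b = Set.univ)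
    (jj : W ⟶ Z) [IsOpenImmersion jj] (hT : Set.range i = (Set.range jj)ᶜ) :
    IsOpenImmersion (jj ≫ b) ∧ Set.range (jj ≫ b) = (Set.range a)ᶜ := by
  let V : D.Opens := ⟨(Set.range a)ᶜ, a.isClosedEmbedding.isClosed_range.isOpen_compl⟩
  have hpre : b ⁻¹ᵁ V = jj.opensRange := by
    refine Opens.ext (Set.ext fun x => ⟨fun hx => ?_, fun hx h => ?_⟩)
    · by_contra h
      obtain ⟨t, rfl⟩ : x ∈ Set.range i := hT ▸ h
      exact hx ⟨i t, by rw [← Scheme.Hom.comp_apply, hpb.w, Scheme.Hom.comp_apply]⟩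
    · obtain ⟨y, hy⟩ := h
      obtain ⟨t, -, ht⟩ := Scheme.exists_preimage_of_isPullback hpb y x hy
      exact (hT ▸ ⟨t, ht⟩ : x ∈ (Set.range jj)ᶜ) hx
  haveI : Surjective (b ∣_ V) := ⟨fun v => by
    rcases hu.ge (Set.mem_univ v.1) with h | ⟨x, hx⟩
    · exact absurd h v.2
    · refine ⟨⟨x, show b x ∈ V from hx ▸ v.2⟩, Subtype.ext ?_⟩
      rw [morphismRestrict_base]; exact hx⟩
  haveI : IsClosedImmersion (b ∣_ V) := IsZariskiLocalAtTarget.restrict ‹IsClosedImmersion b› V
  haveI : IsIso (b ∣_ V) := isIso_of_isClosedImmersion_of_surjective (b ∣_ V)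
  let l : W ⟶ (b ⁻¹ᵁ V).toScheme := IsOpenImmersion.lift (b ⁻¹ᵁ V).ι jj (by rw [Scheme.Opens.range_ι, hpre]; rfl)
  have hl : l ≫ (b ⁻¹ᵁ V).ι = jj := IsOpenImmersion.lift_fac _ _ _
  haveI : IsOpenImmersion (l ≫ (b ⁻¹ᵁ V).ι) := hl.symm ▸ inferInstance
  haveI : IsOpenImmersion l := IsOpenImmersion.of_comp l (b ⁻¹ᵁ V).ι
  have e : jj ≫ b = l ≫ (b ∣_ V) ≫ V.ι := by rw [morphismRestrict_ι, ← Category.assoc, hl]
  refine ⟨e.symm ▸ inferInstance, Set.Subset.antisymm ?_ fun v hv => ?_⟩
  · rintro _ ⟨w, rfl⟩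
    exact (show jj w ∈ b ⁻¹ᵁ V from hpre.symm ▸ ⟨w, rfl⟩)
  · rcases hu.ge (Set.mem_univ v) with h | ⟨x, hx⟩
    · exact absurd h hv
    · obtain ⟨w, rfl⟩ : x ∈ jj.opensRange := hpre ▸ (show b x ∈ V from hx ▸ hv)
      exact ⟨w, hx⟩

end Groth.Agent.CdDev9
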