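import Groth.Agent.S0212
import Groth.Agent.CdCurve24.Basic
import Groth.Agent.GalEt.CdArtin
import Groth.Agent.EtStalkLib.StalkRpush
import Groth.Agent.EtStalkLib.StrictSystem
import Groth.Agent.HenselLib.HullWEt
import Groth.Agent.HenselLib.StrictTransfer
import Groth.Agent.Et18.SHClosedPoint
import Groth.Agent.Et18.TorsionColim
import Groth.Agent.Et18.ClosedPointSupport
import Groth.Agent.H8Lim.GeomConnected

/-!
Cohomological dimension of finitely generated field extensions.
-/

set_option autoImplicit false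
set_option linter.all false
set_option backward.isDefEq.respectTransparency.types false
set_option backward.isDefEq.respectTransparency false
set_option backward.defeqAttrib.useBackward true
set_option synthInstance.maxHeartbeats 400000
set_option maxHeartbeats 1000000

universe u

open CategoryTheory CategoryTheory.Limits CategoryTheory.Abelian AlgebraicGeometry Opposite IsLocalRing
open Groth.Agent.Et18
open scoped TensorProduct

noncomputable section

namespace Groth.Agent.CdDev9.Transc

open Groth.Agent.GalEt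

variable {X Y : Scheme.{u}}

/-- One step of Leray for sheaves killed by an integer. -/
theorem subsingleton_H_of_killed (f : X ⟶ Y) {N d : ℕ} (hY : CdKilled Y N d) (G : EtCoh.Ab X)
    (hG : N • 𝟙 G = 0)
    (hR : ∀ C : EtCoh.Ab X, ∀ (ι : G ⟶ Injective.under G) (π : Injective.under G ⟶ C) (w : ι ≫ π = 0),
      (ShortComplex.mk ι π w).ShortExact → ∀ q, IsZero ((EtCoh.Rpush f (q + 1)).obj C))
    (q : ℕ) (hq : d + 1 < q) : Subsingleton (EtCoh.H X G q) := by
  let ι := Injective.ι G
  let C := cokernel ι
  let π : Injective.under G ⟶ C := cokernel.π ι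
  have hS : (ShortComplex.mk ι π (cokernel.condition _)).ShortExact := CdField.shortExact_cokernel ι
  obtain ⟨n, rfl⟩ : ∃ n, q = n + 1 := ⟨q - 1, by omega⟩
  refine CdCurve24.subsingleton_left hS ?_ (CdCurve24.subsingleton_H_injective (Injective.under G) n)
  show Subsingleton (EtCoh.H X C n)
  haveI : (EtCoh.pull f).PreservesMonomorphisms := inferInstance
  haveI : (EtCoh.push f).PreservesInjectiveObjects :=
    Functor.preservesInjectiveObjects_of_adjunction_of_preservesMonomorphisms (EtCoh.pullPushAdj f)
  haveI : (EtCoh.push f).Additive := inferInstance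
  have hpush : Subsingleton (EtCoh.H Y ((EtCoh.push f).obj C) n) := by
    have h0 : ι ≫ (N • 𝟙 (Injective.under G)) = 0 := by
      rw [Preadditive.comp_nsmul, Category.comp_id, ← Category.id_comp ι, ← Preadditive.nsmul_comp, hG, zero_comp]
    let h : C ⟶ Injective.under G := cokernel.desc ι _ h0
    have hπh : π ≫ h = N • 𝟙 _ := cokernel.π_desc _ _ _
    have hhπ : h ≫ π = N • 𝟙 C := by
      rw [← cancel_epi π, ← Category.assoc, hπh, Preadditive.nsmul_comp, Category.id_comp, Preadditive.comp_nsmul,
        Category.comp_id]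
    let b := (EtCoh.push f).map π
    have hcok : N • 𝟙 (cokernel b) = 0 := by
      rw [← cancel_epi (cokernel.π b), comp_zero, Preadditive.comp_nsmul, Category.comp_id]
      calc N • cokernel.π b = (EtCoh.push f).map (N • 𝟙 C) ≫ cokernel.π b := by
            rw [Functor.map_nsmul, CategoryTheory.Functor.map_id, Preadditive.nsmul_comp, Category.id_comp]
        _ = 0 := by rw [← hhπ, Functor.map_comp, Category.assoc, cokernel.condition, comp_zero]
    have hker : N • 𝟙 (kernel b) = 0 := by
      rw [← cancel_mono (kernel.ι b), zero_comp, Preadditive.nsmul_comp, Category.id_comp]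
      calc N • kernel.ι b = kernel.ι b ≫ (EtCoh.push f).map (N • 𝟙 (Injective.under G)) := by
            rw [Functor.map_nsmul, CategoryTheory.Functor.map_id, Preadditive.comp_nsmul, Category.comp_id]
        _ = 0 := by rw [← hπh, Functor.map_comp, ← Category.assoc, kernel.condition, zero_comp]
    haveI : Injective ((EtCoh.push f).obj (Injective.under G)) :=
      Functor.PreservesInjectiveObjects.injective_obj inferInstance
    let p := Abelian.factorThruImage b
    have hkp : kernel.ι b ≫ p = 0 := by
      rw [← cancel_mono (Abelian.image.ι b), Category.assoc, Abelian.image.fac, kernel.condition, zero_comp]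
    let S₁ := ShortComplex.mk (kernel.ι b) p hkp
    have hS₁ : S₁.ShortExact :=
      { exact := by
          refine ShortComplex.exact_of_f_is_kernel _ (KernelFork.IsLimit.ofι' (kernel.ι b) hkp fun {W} t ht =>
            ⟨kernel.lift b t ?_, kernel.lift_ι _ _ _⟩)
          have ht' : t ≫ p = 0 := ht
          rw [← Abelian.image.fac b, ← Category.assoc, ht', zero_comp]
        mono_f := inferInstanceAs (Mono (kernel.ι b))
        epi_g := inferInstanceAs (Epi (Abelian.factorThruImage b)) }
    let S₂ := ShortComplex.mk (Abelian.image.ι b) (cokernel.π b) (kernel.condition _)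
    have hS₂ : S₂.ShortExact :=
      { exact := ShortComplex.exact_kernel _
        mono_f := inferInstanceAs (Mono (Abelian.image.ι b))
        epi_g := inferInstanceAs (Epi (cokernel.π b)) }
    refine CdField.subsingleton_of_shortExact hS₂ ?_ (hY _ hcok n (by omega))
    obtain ⟨m, rfl⟩ : ∃ m, n = m + 1 := ⟨n - 1, by omega⟩
    exact CdCurve24.subsingleton_right hS₁ (CdCurve24.subsingleton_H_injective _ m) (hY _ hker (m + 1 + 1) (by omega))
  let e := SiteCoh.extAdjEquiv (EtCoh.pullPushAdj f) (F := C) (hR C ι π _ hS) (EtCoh.const Y ℤ) n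
  have h2 := e.toEquiv.subsingleton_congr.1 hpush
  refine ⟨fun a b => ?_⟩
  let c := EtCore.pullConst f ℤ
  have h0 : (Ext.mk₀ c.hom).comp a (zero_add n) = (Ext.mk₀ c.hom).comp b (zero_add n) :=
    @Subsingleton.elim _ h2 _ _
  have h1 := congrArg (fun w => (Ext.mk₀ c.inv).comp w (zero_add n)) h0
  simpa only [Ext.mk₀_comp_mk₀_assoc, Iso.inv_hom_id, Ext.mk₀_id_comp] using h1

/-- `R^q f_* C = 0` for the quotient of an injective embedding, tested at a strict henselization. -/
theorem isZero_stalk_Rpush (f : X ⟶ Y) [QuasiCompact f] [QuasiSeparated f] (s : Y) (R : Type u) [CommRing R]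
    [IsLocalRing R] [Algebra (Y.presheaf.stalk s) R] [IsSepClosed (ResidueField R)]
    [IsLocalHom (algebraMap (Y.presheaf.stalk s) R)] [Hensel.IsStrictHenselization (Y.presheaf.stalk s) R]
    {N : ℕ} (hP : CdKilled (pullback f (Hens2.specOf Y s R)) N 1) {G I C : EtCoh.Ab X} [Injective I]
    (hG : N • 𝟙 G = 0) {ι : G ⟶ I} {π : I ⟶ C} {w : ι ≫ π = 0} (hS : (ShortComplex.mk ι π w).ShortExact) (q : ℕ) :
    IsZero ((EtCoh.stalk (Hens2.geomPt Y s R)).obj ((EtCoh.Rpush f (q + 1)).obj C)) := by
  obtain ⟨e⟩ := EtStalkLib.nonempty_stalk_Rpush_iso f s R (q + 1)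
  let g := pullback.fst f (Hens2.specOf Y s R)
  haveI : (EtCoh.pull g).Additive := inferInstance
  haveI : PreservesFiniteLimits (EtCoh.pull g) := inferInstance
  have hT := hS.map_of_exact (EtCoh.pull g)
  have hI : Subsingleton (EtCoh.H (pullback f (Hens2.specOf Y s R)) ((EtCoh.pull g).obj I) (q + 1)) :=
    EtStalkLib.subsingleton_H_pull_injective f s R I q
  have hC : Subsingleton (EtCoh.H (pullback f (Hens2.specOf Y s R)) ((EtCoh.pull g).obj C) (q + 1)) :=
    CdCurve24.subsingleton_right hT hI (hP _ (map_killed (EtCoh.pull g) hG) (q + 1 + 1) (by omega))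
  exact IsZero.of_iso (@AddCommGrpCat.isZero_of_subsingleton
    ((EtCoh.HF (pullback f (Hens2.specOf Y s R)) (q + 1)).obj ((EtCoh.pull g).obj C)) hC) (e.app C)

section Tsen

/-- Extensions of transcendence degree at most one of a separably closed field. -/
theorem cdKilled_of_trdeg_le_one (K T : Type u) [Field K] [IsSepClosed K] [Field T] [Algebra K T] {j : ℕ}
    (hj : Algebra.trdeg K T = j) (hj1 : j ≤ 1) (N : ℕ) (hN : 0 < N) : CdKilled (Spec (CommRingCat.of T)) N 1 := by
  let E := AlgebraicClosure T
  let L := algebraicClosure K E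
  let T' := perfectClosure T E
  haveI : IsAlgClosure K L := algebraicClosure.isAlgClosure K E
  haveI : IsAlgClosed L := IsAlgClosure.isAlgClosed K
  have hmem : ∀ x : L, (x : E) ∈ T' := fun x => by
    let q := ringExpChar K
    haveI : ExpChar T q := expChar_of_injective_algebraMap (algebraMap K T).injective q
    haveI : IsPurelyInseparable K L := inferInstance
    obtain ⟨n, y, hy⟩ := IsPurelyInseparable.pow_mem K q x
    refine (mem_perfectClosure_iff_pow_mem q).2 ⟨n, algebraMap K T y, ?_⟩
    rw [← IsScalarTower.algebraMap_apply, IsScalarTower.algebraMap_apply K L E, hy]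
    simp
  letI : Algebra L T' := ((algebraMap L E).codRestrict T' hmem).toAlgebra
  haveI : IsScalarTower K L T' := IsScalarTower.of_algebraMap_eq fun x => Subtype.ext (by
    show algebraMap K E x = algebraMap L E (algebraMap K L x)
    exact IsScalarTower.algebraMap_apply K L E x)
  have h1 : Algebra.trdeg K T' = j := by
    rw [← trdeg_add_eq K T (A := T'), hj, trdeg_eq_zero, add_zero]
  have h2 : Algebra.trdeg L T' = j := by
    rw [← h1, ← trdeg_add_eq K L (A := T'), trdeg_eq_zero (R := K) (A := L), zero_add]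
  have h3 := Groth.Agent.S0212.result L T' j h2
  have hBr : BrTrivial T' := brTrivial_of_isCr_one fun n d g hg hd hn => by
    obtain ⟨a, ha, ha'⟩ := h3 1 n (fun _ => g) (fun _ => d) (fun _ => hg) (fun _ => hd) (by
      simp only [Fin.sum_univ_one, pow_one] at hn ⊢
      exact lt_of_le_of_lt ((Nat.pow_le_pow_right hd hj1).trans (le_of_eq (pow_one d))) hn)
    exact ⟨a, ha, ha' 0⟩
  have hT' : CdKilled (Spec (CommRingCat.of T')) N 1 := fun F hF q hq => by
    refine subsingleton_H_torsion hBr F ?_ q hq
    rw [TorsionColim.isTorsion_iff, isLTorsion_iff_stalks]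
    intro Ω _ _ ξ t
    refine ⟨N, ⟨hN, fun _ _ _ => trivial⟩, ?_⟩
    haveI : (EtCoh.stalk ξ).Additive := Functor.additive_of_preserves_binary_products _
    have h := map_killed (EtCoh.stalk ξ) hF
    exact congrArg (fun φ => φ t) h
  let π : Spec (CommRingCat.of T') ⟶ Spec (CommRingCat.of T) := H8Lim.algSpec T T'
  haveI : IsIntegralHom π := IsIntegralHom.SpecMap_iff.2 (algebraMap_isIntegral_iff.2 inferInstance)
  haveI : UniversallyInjective π := H8Lim.universallyInjective_algSpec T T'
  haveI : Surjective π := ⟨fun z => ⟨Classical.arbitrary _, Subsingleton.elim _ _⟩⟩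
  exact hT'.of_universalHomeomorph π

end Tsen

section Transcendental

variable {k k' : Type u} [Field k] [Field k'] [Algebra k k'] {x : k'}

theorem isDomain_tensor (hx : Transcendental k x)
    (hgen : ∀ z : k', ∃ p q : Polynomial k, Polynomial.aeval x q ≠ 0 ∧ z * Polynomial.aeval x q = Polynomial.aeval x p)
    (K : Type u) [Field K] [Algebra k K] : IsDomain (k' ⊗[k] K) := by
  let a : Polynomial k →ₐ[k] k' := Polynomial.aeval x
  let φ : Polynomial k ⊗[k] K →ₐ[k] k' ⊗[k] K := Algebra.TensorProduct.map a (AlgHom.id k K)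
  have hφ : Function.Injective φ := by
    have h := Module.Flat.rTensor_preserves_injective_linearMap (M := K) a.toLinearMap
      (transcendental_iff_injective.1 hx)
    exact h
  haveI : IsDomain (Polynomial k ⊗[k] K) :=
    ((Algebra.TensorProduct.comm k (Polynomial k) K).trans (polyEquivTensor k K).symm).toMulEquiv.isDomain
  have key : ∀ z : k' ⊗[k] K, ∃ (c : Polynomial k ⊗[k] K) (q : Polynomial k),
      a q ≠ 0 ∧ (a q ⊗ₜ[k] (1 : K)) * z = φ c := by
    intro z
    induction z using TensorProduct.induction_on with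
    | zero => exact ⟨0, 1, by simp, by simp⟩
    | tmul z c =>
      obtain ⟨p, q, hq, h⟩ := hgen z
      refine ⟨p ⊗ₜ c, q, hq, ?_⟩
      rw [Algebra.TensorProduct.tmul_mul_tmul, one_mul, mul_comm]
      show _ = a p ⊗ₜ[k] c
      rw [show z * a q = a p from h]
    | add z w hz hw =>
      obtain ⟨c, q, hq, h⟩ := hz
      obtain ⟨c', q', hq', h'⟩ := hw
      refine ⟨(q' ⊗ₜ 1) * c + (q ⊗ₜ 1) * c', q * q', by rw [map_mul]; exact mul_ne_zero hq hq', ?_⟩
      have e1 : φ (q' ⊗ₜ[k] (1 : K)) = a q' ⊗ₜ[k] (1 : K) := rfl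
      have e2 : φ (q ⊗ₜ[k] (1 : K)) = a q ⊗ₜ[k] (1 : K) := rfl
      have e3 : (a (q * q') ⊗ₜ[k] (1 : K)) = (a q ⊗ₜ[k] (1 : K)) * (a q' ⊗ₜ[k] (1 : K)) := by
        rw [Algebra.TensorProduct.tmul_mul_tmul, one_mul, map_mul]
      rw [map_add, map_mul φ, map_mul φ, ← h, ← h', e1, e2, e3]
      ring
  have hu : ∀ q : Polynomial k, a q ≠ 0 → IsUnit (a q ⊗ₜ[k] (1 : K)) := fun q hq =>
    (isUnit_iff_ne_zero.2 hq).map (Algebra.TensorProduct.includeLeft : k' →ₐ[k] k' ⊗[k] K)
  haveI : Nontrivial (k' ⊗[k] K) := hφ.nontrivial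
  haveI : NoZeroDivisors (k' ⊗[k] K) := ⟨fun {z w} hzw => by
    obtain ⟨c, q, hq, h⟩ := key z
    obtain ⟨c', q', hq', h'⟩ := key w
    have h0 : φ (c * c') = 0 := by
      rw [map_mul, ← h, ← h']
      rw [mul_mul_mul_comm, hzw, mul_zero]
    rcases mul_eq_zero.1 (hφ (h0.trans (map_zero φ).symm)) with h1 | h1
    · exact Or.inl ((hu q hq).mul_right_eq_zero.1 (by rw [h, h1, map_zero]))
    · exact Or.inr ((hu q' hq').mul_right_eq_zero.1 (by rw [h', h1, map_zero]))⟩
  exact NoZeroDivisors.to_isDomain _

theorem trdeg_eq_one (hx : Transcendental k x)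
    (hgen : ∀ z : k', ∃ p q : Polynomial k, Polynomial.aeval x q ≠ 0 ∧ z * Polynomial.aeval x q = Polynomial.aeval x p) :
    Algebra.trdeg k k' = 1 := by
  letI : Algebra (Polynomial k) k' := (Polynomial.aeval x).toRingHom.toAlgebra
  haveI : IsScalarTower k (Polynomial k) k' := IsScalarTower.of_algebraMap_eq fun r =>
    (Polynomial.aeval_C x r).symm
  haveI : FaithfulSMul (Polynomial k) k' :=
    (faithfulSMul_iff_algebraMap_injective _ _).2 (transcendental_iff_injective.1 hx)
  haveI : Algebra.IsAlgebraic (Polynomial k) k' := ⟨fun z => by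
    obtain ⟨p, q, hq, h⟩ := hgen z
    refine ⟨Polynomial.C q * Polynomial.X - Polynomial.C p, fun h0 => ?_, ?_⟩
    · have := congrArg (Polynomial.coeff · 1) h0
      simp at this
      exact hq (by rw [this, map_zero])
    · simp only [map_sub, map_mul, Polynomial.aeval_C, Polynomial.aeval_X]
      show Polynomial.aeval x q * z - Polynomial.aeval x p = 0
      rw [mul_comm, h, sub_self]⟩
  rw [← trdeg_add_eq k (Polynomial k) (A := k'), Polynomial.trdeg_of_isDomain, trdeg_eq_zero, add_zero]

/-- The transcendental step. -/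
theorem cdKilled_transcendental (hx : Transcendental k x)
    (hgen : ∀ z : k', ∃ p q : Polynomial k, Polynomial.aeval x q ≠ 0 ∧ z * Polynomial.aeval x q = Polynomial.aeval x p)
    {N d : ℕ} (hN : 0 < N) (h : CdKilled (Spec (CommRingCat.of k)) N d) :
    CdKilled (Spec (CommRingCat.of k')) N (d + 1) := by
  let Y := Spec (CommRingCat.of k)
  let s : Y := closedPoint (CommRingCat.of k)
  let A : Type u := Y.presheaf.stalk s
  let ε : A ≃+* k := (stalkClosedPointIso (CommRingCat.of k)).commRingCatIsoToRingEquiv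
  let K : Type u := SeparableClosure k
  let ψ : A →+* K := (algebraMap k K).comp ε.toRingHom
  letI : Algebra (Y.presheaf.stalk s) K := ψ.toAlgebra
  letI : Algebra (Y.presheaf.stalk s) k := ε.toRingHom.toAlgebra
  haveI : IsScalarTower (Y.presheaf.stalk s) k K := IsScalarTower.of_algebraMap_eq' rfl
  haveI : Algebra.WeaklyEtale (Y.presheaf.stalk s) k :=
    HenselLib.weaklyEtale_of_equiv (R := Y.presheaf.stalk s) (S := Y.presheaf.stalk s) (T := k)
      (AlgEquiv.ofBijective (Algebra.ofId (Y.presheaf.stalk s) k) ε.bijective)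
  haveI : Algebra.WeaklyEtale k K := Et18.SHClosed.weaklyEtale_of_isSeparable k K
  haveI : Algebra.WeaklyEtale (Y.presheaf.stalk s) K := Algebra.WeaklyEtale.trans (Y.presheaf.stalk s) k K
  haveI : IsLocalHom (algebraMap (Y.presheaf.stalk s) K) := ⟨fun a ha => by
    have h1 : ε a ≠ 0 := fun h0 => ha.ne_zero (by
      show algebraMap k K (ε a) = 0
      rw [h0, map_zero])
    simpa using (isUnit_iff_ne_zero.2 h1).map ε.symm⟩
  haveI : IsSepClosed (ResidueField K) := by
    let e : K ≃+* ResidueField K :=
      RingEquiv.ofBijective (residue K) ⟨(residue K).injective, residue_surjective⟩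
    refine IsSepClosed.of_exists_root _ fun f hfm hfi hfs => ?_
    obtain ⟨a, ha⟩ := IsSepClosed.exists_root (f.map e.symm.toRingHom)
      (by rw [Polynomial.degree_map]; exact (hfi.degree_pos).ne') (hfs.map)
    exact ⟨e a, by
      have h := congrArg e.toRingHom ha
      rw [← Polynomial.eval₂_at_apply, Polynomial.eval₂_eq_eval_map, Polynomial.map_map] at h
      simpa using h⟩
  haveI := HenselLib.StrictTransfer.isStrictHenselization_of_weaklyEtale (Y.presheaf.stalk s) K
  let f : Spec (CommRingCat.of k') ⟶ Y := H8Lim.algSpec k k'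
  have hspec : Hens2.specOf Y s K = H8Lim.algSpec k K := by
    show Spec.map (CommRingCat.ofHom ψ) ≫ Y.fromSpecStalk s = _
    rw [← Spec_stalkClosedPointIso, ← Spec.map_comp]
    congr 1
    refine CommRingCat.hom_ext (RingHom.ext fun r => ?_)
    show algebraMap k K ((stalkClosedPointIso (CommRingCat.of k)).hom
      ((stalkClosedPointIso (CommRingCat.of k)).inv r)) = _
    rw [← CategoryTheory.comp_apply, Iso.inv_hom_id]
    rfl
  haveI := isDomain_tensor hx hgen K
  have hF : IsField (k' ⊗[k] K) :=
    Algebra.TensorProduct.isField_of_isAlgebraic k k' K (Or.inr inferInstance)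
  have hP : CdKilled (pullback f (Hens2.specOf Y s K)) N 1 := by
    letI : Field (k' ⊗[k] K) := hF.toField
    letI : Algebra K (k' ⊗[k] K) := Algebra.TensorProduct.rightAlgebra
    have h0 : Algebra.trdeg k (k' ⊗[k] K) = 1 := by
      haveI : Algebra.IsAlgebraic k' (k' ⊗[k] K) := inferInstance
      rw [← trdeg_add_eq k k' (A := k' ⊗[k] K), trdeg_eq_one hx hgen, trdeg_eq_zero, add_zero]
    have h1 : Algebra.trdeg K (k' ⊗[k] K) = ((1 : ℕ) : Cardinal.{u}) := by
      rw [Nat.cast_one, ← h0, ← trdeg_add_eq k K (A := k' ⊗[k] K), trdeg_eq_zero (R := k) (A := K), zero_add]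
    have hT := cdKilled_of_trdeg_le_one K (k' ⊗[k] K) h1 le_rfl N hN
    let e : pullback f (Hens2.specOf Y s K) ≅ Spec (CommRingCat.of (k' ⊗[k] K)) :=
      pullback.congrHom rfl hspec ≪≫ pullbackSpecIso k k' K
    exact hT.of_finite e.hom
  intro G hG q hq
  refine subsingleton_H_of_killed f h G hG (fun C ι π w hS p => ?_) q hq
  refine ClosedPointSupport.isZero_of_supp_empty (Set.eq_empty_iff_forall_notMem.2 fun y hy => ?_)
  exact (mem_supp_iff _ (Hens2.geomPt Y s K)
    ((EtStalkLib.geomPt_default Y s K).trans (Subsingleton.elim (α := PrimeSpectrum k) _ _))).1 hy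
    (isZero_stalk_Rpush f s K hP hG hS p)

end Transcendental

/-- Adjoining generators one at a time. -/
theorem exists_trdeg_cdKilled {N : ℕ} (hN : 0 < N) : ∀ (n : ℕ) (k k' : Type u) [Field k] [Field k'] [Algebra k k']
    (s : Finset k'), s.card ≤ n → IntermediateField.adjoin k (s : Set k') = ⊤ → ∀ d : ℕ,
    CdKilled (Spec (CommRingCat.of k)) N d →
    ∃ t : ℕ, Algebra.trdeg k k' = t ∧ CdKilled (Spec (CommRingCat.of k')) N (d + t) := by
  classical
  intro n
  induction n with
  | zero =>
    intro k k' _ _ _ s hs htop d h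
    obtain rfl : s = ∅ := Finset.card_eq_zero.1 (Nat.le_zero.1 hs)
    rw [Finset.coe_empty, IntermediateField.adjoin_empty] at htop
    have hsur : Function.Surjective (algebraMap k k') := fun z => IntermediateField.mem_bot.1 (htop ▸ trivial)
    haveI : Module.Finite k k' := Module.Finite.of_surjective (Algebra.linearMap k k') hsur
    refine ⟨0, by rw [trdeg_eq_zero, Nat.cast_zero], ?_⟩
    haveI : IsFinite (H8Lim.algSpec k k') := (IsFinite.SpecMap_iff _).2 (RingHom.finite_algebraMap.2 inferInstance)
    exact h.of_finite (H8Lim.algSpec k k')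
  | succ n ih =>
    intro k k' _ _ _ s hs htop d h
    rcases s.eq_empty_or_nonempty with rfl | ⟨x, hx⟩
    · exact ih k k' ∅ (by simp) htop d h
    let K := IntermediateField.adjoin k ({x} : Set k')
    have htop' : IntermediateField.adjoin K ((s.erase x : Finset k') : Set k') = ⊤ := by
      apply IntermediateField.restrictScalars_injective k
      rw [IntermediateField.adjoin_adjoin_left, IntermediateField.restrictScalars_top, ← htop]
      congr 1
      rw [Finset.coe_erase, Set.union_diff_self, Set.union_eq_self_of_subset_left (Set.singleton_subset_iff.2 hx)]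
    have hcard : (s.erase x).card ≤ n := by
      rw [Finset.card_erase_of_mem hx]
      omega
    obtain ⟨e, he, hK⟩ : ∃ e : ℕ, Algebra.trdeg k K = e ∧ CdKilled (Spec (CommRingCat.of K)) N (d + e) := by
      by_cases hxt : IsAlgebraic k x
      · haveI : FiniteDimensional k K := IntermediateField.adjoin.finiteDimensional hxt.isIntegral
        refine ⟨0, by rw [trdeg_eq_zero, Nat.cast_zero], ?_⟩
        haveI : IsFinite (H8Lim.algSpec k K) := (IsFinite.SpecMap_iff _).2 (RingHom.finite_algebraMap.2 inferInstance)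
        exact h.of_finite (H8Lim.algSpec k K)
      · let g : K := ⟨x, IntermediateField.mem_adjoin_simple_self k x⟩
        have hval : ∀ p : Polynomial k, ((Polynomial.aeval g p : K) : k') = Polynomial.aeval x p := fun p =>
          (Polynomial.aeval_algHom_apply K.val g p).symm
        have hg : Transcendental k g := fun h0 => hxt (h0.algHom K.val)
        have hgen : ∀ z : K, ∃ p q : Polynomial k, Polynomial.aeval g q ≠ 0 ∧
            z * Polynomial.aeval g q = Polynomial.aeval g p := by
          intro z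
          obtain ⟨p, q, hz⟩ := (IntermediateField.mem_adjoin_simple_iff (F := k) (x := (z : k'))).1 z.2
          by_cases hq : Polynomial.aeval x q = 0
          · refine ⟨0, 1, by simp, ?_⟩
            have : z = 0 := Subtype.ext (by rw [hz, hq, div_zero]; rfl)
            simp [this]
          · refine ⟨p, q, fun h0 => hq (by rw [← hval, h0]; rfl), Subtype.ext ?_⟩
            show (z : k') * ((Polynomial.aeval g q : K) : k') = _
            rw [hval, hval, hz, div_mul_cancel₀ _ hq]
        exact ⟨1, by rw [trdeg_eq_one hg hgen, Nat.cast_one], cdKilled_transcendental hg hgen hN h⟩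
    obtain ⟨t, ht, hk'⟩ := ih K k' (s.erase x) hcard htop' (d + e) hK
    refine ⟨e + t, ?_, ?_⟩
    · rw [Nat.cast_add, ← he, ← ht, trdeg_add_eq k K (A := k')]
    · rwa [add_assoc] at hk'

/-- Vanishing for torsion sheaves from the vanishing for killed sheaves. -/
theorem cohDimLEAt_of_cdKilled {X : Scheme.{u}} [CompactSpace X] [QuasiSeparatedSpace X] {ℓ d : ℕ} (hℓ : ℓ.Prime)
    (h : ∀ m : ℕ, EtAcyc.PrimesIn {ℓ} m → CdKilled X m d) : Dix.CohDimLEAt X ℓ d := by
  intro F hF q hq
  have hF' := (CdField.isLTorsion_iff hℓ F).1 hF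
  have := EtCechLib.preservesColimitsOfShape_HF (X := X) q (TorsionColim.LNum.{u} {ℓ})
  refine subsingleton_of_forall_eq 0 fun z => ?_
  obtain ⟨m, b, hb⟩ := Concrete.isColimit_exists_rep _
    (isColimitOfPreserves (EtCoh.HF X q) (TorsionColim.isColimit {ℓ} F hF'))
    (show ((EtCoh.HF X q).obj F : Type (u + 1)) from z)
  let κ : kernel (m.val • 𝟙 F) ⟶ F := kernel.ι _
  have hK : m.val • 𝟙 (kernel (m.val • 𝟙 F)) = 0 := by
    rw [← cancel_mono κ, Preadditive.nsmul_comp, Category.id_comp, zero_comp]
    exact (TorsionColim.nsmul_id_comp _ _).symm.trans (kernel.condition _)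
  have hv : Subsingleton (EtCoh.H X (kernel (m.val • 𝟙 F)) q) := h m.val m.prop _ hK q hq
  show (show ((EtCoh.HF X q).obj F : Type (u + 1)) from z) = 0
  rw [← hb]
  exact (congrArg _ (@Subsingleton.elim _ hv (show EtCoh.H X (kernel (m.val • 𝟙 F)) q from b) 0)).trans
    (map_zero _)

theorem cdKilled_of_cohDimLEAt {X : Scheme.{u}} {ℓ d : ℕ} (h : Dix.CohDimLEAt X ℓ d) {m : ℕ}
    (hm : EtAcyc.PrimesIn {ℓ} m) : CdKilled X m d :=
  cdKilled_of_cdLEAt m hm.1 fun p hp hd => by
    obtain rfl : p = ℓ := hm.2 p hp hd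
    exact h

end Groth.Agent.CdDev9.Transc
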