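import Groth.Agent.S3491
import Groth.Agent.S0148
import Groth.Agent.S19255
import Groth.Agent.Et18.CdSHFrac
import Groth.Agent.Et18.KPiFinite
import Groth.Agent.DimLib.Algebra
import Groth.Prelude.Def_EGA4b

/-!
Etale cohomological dimension of punctured two dimensional henselian singularities.
-/

set_option autoImplicit false
set_option linter.all false
set_option backward.isDefEq.respectTransparency.types false
set_option backward.isDefEq.respectTransparency false
set_option synthInstance.maxHeartbeats 400000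
set_option maxHeartbeats 1000000

universe u

open CategoryTheory CategoryTheory.Limits AlgebraicGeometry Opposite IsLocalRing
open Groth.Agent.Et18

noncomputable section

namespace Groth.Agent.CdDev9.Loc2

open Groth.Agent.GalEt

/-- Height one localizations of normal noetherian domains. -/
theorem isDVR_atPrime {B : Type u} [CommRing B] [IsDomain B] [IsNoetherianRing B] [IsIntegrallyClosed B]
    (P : Ideal B) [P.IsPrime] (hne : P ≠ ⊥) (hht : P.height ≤ 1) :
    IsDiscreteValuationRing (Localization.AtPrime P) := by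
  let S := Localization.AtPrime P
  haveI : IsDomain S := IsLocalization.isDomain_localization P.primeCompl_le_nonZeroDivisors
  haveI : IsNoetherianRing S := IsLocalization.isNoetherianRing P.primeCompl S inferInstance
  haveI : IsIntegrallyClosed S := isIntegrallyClosed_of_isLocalization S P.primeCompl P.primeCompl_le_nonZeroDivisors
  have hmax : maximalIdeal S ≠ ⊥ := fun h => by
    have h1 := IsLocalization.AtPrime.comap_maximalIdeal (S := S) P
    rw [h, Ideal.under_def, Ideal.comap_bot_of_injective _ (IsLocalization.injective S P.primeCompl_le_nonZeroDivisors)] at h1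
    exact hne h1.symm
  have hnf : ¬ IsField S := fun hf => hmax (IsLocalRing.isField_iff_maximalIdeal_eq.1 hf)
  refine (List.TFAE.out (IsDiscreteValuationRing.TFAE S hnf) 0 3 : IsDiscreteValuationRing S ↔ (IsIntegrallyClosed S ∧ ∃! P : Ideal S, P ≠ ⊥ ∧ P.IsPrime)).2
    ⟨inferInstance, maximalIdeal S, ⟨hmax, inferInstance⟩, fun q hq => ?_⟩
  obtain ⟨hq0, hqp⟩ := hq
  haveI := hqp
  have hle : q.comap (algebraMap B S) ≤ P :=
    (Ideal.comap_mono (IsLocalRing.le_maximalIdeal hqp.ne_top)).trans (IsLocalization.AtPrime.comap_maximalIdeal (S := S) P).le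
  have hq' : q.comap (algebraMap B S) ≠ ⊥ := fun h => hq0 (by
    rw [← IsLocalization.map_comap P.primeCompl S q, Ideal.under_def, h, Ideal.map_bot])
  by_contra hne'
  have hlt : q.comap (algebraMap B S) < P := lt_of_le_of_ne hle fun h => hne' (by
    rw [← IsLocalization.map_comap P.primeCompl S q, Ideal.under_def, h, IsLocalization.AtPrime.map_eq_maximalIdeal P S])
  haveI : (q.comap (algebraMap B S)).IsPrime := Ideal.IsPrime.comap _
  have h1 : (1 : ℕ∞) ≤ (q.comap (algebraMap B S)).height :=
    ENat.one_le_iff_ne_zero.2 fun h => hq' (Ideal.height_eq_zero_iff_eq_bot.1 h)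
  have h2 := Ideal.height_strict_mono_of_isPrime hlt
  exact absurd (lt_of_le_of_lt h1 (lt_of_lt_of_le h2 hht)) (lt_irrefl _)

/-- Strict henselizations of discrete valuation rings. -/
theorem isDVR_strict (A R : Type u) [CommRing A] [IsDomain A] [IsDiscreteValuationRing A] [CommRing R]
    [IsLocalRing R] [Algebra A R] [IsLocalHom (algebraMap A R)] [Hensel.IsStrictHenselization A R] :
    ∃ _ : IsDomain R, IsDiscreteValuationRing R := by
  haveI := CdDev9.weaklyEtale_strict A R
  haveI := CdDev9.isNoetherianRing_strict A R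
  obtain ⟨ϖ, hϖ⟩ := IsDiscreteValuationRing.exists_irreducible A
  let π : R := algebraMap A R ϖ
  have hm : maximalIdeal R = Ideal.span {π} := by
    rw [← HenselLib.WEtNoeth.map_maximalIdeal (A := A) (B := R), hϖ.maximalIdeal_eq, Ideal.map_span, Set.image_singleton]
  have hreg : ∀ a : R, π * a = 0 → a = 0 := fun a ha => by
    have h : IsSMulRegular R (algebraMap A R ϖ) :=
      (IsSMulRegular.of_ne_zero hϖ.ne_zero : IsSMulRegular A ϖ).of_flat
    exact h (show π • a = π • (0 : R) by rw [smul_eq_mul, smul_eq_mul, mul_zero]; exact ha)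
  have hdec : ∀ a : R, a ≠ 0 → ∃ (n : ℕ) (v : R), IsUnit v ∧ a = v * π ^ n := fun a ha => by
    have hne : ∃ n, a ∉ (maximalIdeal R) ^ n := by
      by_contra h
      push Not at h
      refine ha (Ideal.mem_bot.1 ?_)
      rw [← Ideal.iInf_pow_eq_bot_of_isLocalRing (maximalIdeal R) (IsLocalRing.maximalIdeal.isMaximal R).ne_top]
      exact Ideal.mem_iInf.2 h
    classical
    let n := Nat.find hne
    have hn0 : n ≠ 0 := fun h0 => Nat.find_spec hne (by rw [show Nat.find hne = 0 from h0, pow_zero, Ideal.one_eq_top]; trivial)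
    have hmem : a ∈ (maximalIdeal R) ^ (n - 1) := not_not.1 (Nat.find_min hne (by omega))
    rw [hm, Ideal.span_singleton_pow, Ideal.mem_span_singleton'] at hmem
    obtain ⟨v, hva⟩ := hmem
    refine ⟨n - 1, v, ?_, hva.symm⟩
    by_contra hv
    have hv' : v ∈ maximalIdeal R := hv
    refine Nat.find_spec hne ?_
    have hn' : Nat.find hne = 1 + (n - 1) := by show n = 1 + (n - 1); omega
    rw [hn', pow_add, pow_one, ← hva]
    refine Ideal.mul_mem_mul hv' ?_
    rw [hm, Ideal.span_singleton_pow]
    exact Ideal.mem_span_singleton_self _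
  have hpow : ∀ n, ∀ a : R, π ^ n * a = 0 → a = 0 := by
    intro n
    induction n with
    | zero => intro a ha; simpa using ha
    | succ n ih => intro a ha; exact hreg a (ih _ (by rw [← mul_assoc, ← pow_succ]; exact ha))
  haveI : NoZeroDivisors R := ⟨fun {a b} hab => by
    by_cases ha : a = 0
    · exact Or.inl ha
    obtain ⟨n, v, hv, rfl⟩ := hdec a ha
    exact Or.inr (hpow n b (hv.mul_right_eq_zero.1 (by rw [← mul_assoc]; exact hab)))⟩
  haveI : IsDomain R := NoZeroDivisors.to_isDomain R
  refine ⟨inferInstance, ?_⟩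
  have hnf : ¬ IsField R := fun hf => by
    have h0 : π = 0 := by
      have : π ∈ maximalIdeal R := hm ▸ Ideal.mem_span_singleton_self π
      rwa [IsLocalRing.isField_iff_maximalIdeal_eq.1 hf, Ideal.mem_bot] at this
    exact one_ne_zero (hreg 1 (by rw [h0, zero_mul]))
  exact (List.TFAE.out (IsDiscreteValuationRing.TFAE R hnf) 0 4 : IsDiscreteValuationRing R ↔ (maximalIdeal R).IsPrincipal).2
    ⟨⟨π, hm⟩⟩

variable {k : Type u} [Field k] [CharZero k]
  {R₀ : Type u} [CommRing R₀] [IsDomain R₀] [Algebra k R₀] [IsIntegrallyClosed R₀]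
  {K : Type u} [Field K] [Algebra R₀ K] [Algebra (FractionRing R₀) K]
  [IsScalarTower R₀ (FractionRing R₀) K] [FiniteDimensional (FractionRing R₀) K]

include k in
/-- Sheaves killed by a positive integer have no cohomology above degree three. -/
theorem cdKilled_three (hexc : EGA4.IsExcellent R₀) (hdim : ringKrullDim R₀ = 2)
    (U : (Spec (CommRingCat.of ↥(integralClosure R₀ K))).Opens)
    (hU : ∀ x : ↥(Spec (CommRingCat.of ↥(integralClosure R₀ K))), x ∈ U →
      ¬ IsClosed ({x} : Set ↥(Spec (CommRingCat.of ↥(integralClosure R₀ K)))))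
    (hcdK : EtCoh.CohDimLE (Spec (CommRingCat.of K)) 2)
    (hcdv : ∀ x : ↥(↑U : Scheme.{u}), IsClosed ({x} : Set ↥(↑U : Scheme.{u})) →
      EtCoh.CohDimLE (Spec ((↑U : Scheme.{u}).residueField x)) 1) :
    AlgebraicGeometry.IsNoetherian (↑U : Scheme.{u}) ∧ topologicalKrullDim (↑U : Scheme.{u}) ≤ 1 ∧
      (∀ N : ℕ, 0 < N → IsUnit (N : Γ((↑U : Scheme.{u}), ⊤))) ∧
      EtCoh.CohDimLE (↑U : Scheme.{u}) 3 := by
  haveI : IsNoetherianRing R₀ := hexc.1
  let B := ↥(integralClosure R₀ K)
  haveI : CharZero (FractionRing R₀) :=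
    charZero_of_injective_ringHom (((algebraMap R₀ (FractionRing R₀)).comp (algebraMap k R₀)).injective)
  haveI : Module.Finite R₀ B := IsIntegralClosure.finite R₀ (FractionRing R₀) K B
  haveI : IsNoetherianRing B := IsNoetherianRing.of_finite R₀ B
  haveI : IsFractionRing B K := integralClosure.isFractionRing_of_finite_extension (FractionRing R₀) K
  haveI : IsIntegrallyClosed B := integralClosure.isIntegrallyClosedOfFiniteExtension (FractionRing R₀)
  have hinj : Function.Injective (algebraMap R₀ B) := by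
    refine Function.Injective.of_comp (f := algebraMap B K) ?_
    rw [← RingHom.coe_comp, ← IsScalarTower.algebraMap_eq R₀ B K, IsScalarTower.algebraMap_eq R₀ (FractionRing R₀) K,
      RingHom.coe_comp]
    exact (algebraMap (FractionRing R₀) K).injective.comp (IsFractionRing.injective R₀ (FractionRing R₀))
  haveI : FaithfulSMul R₀ B := (faithfulSMul_iff_algebraMap_injective R₀ B).2 hinj
  have hBdim : ringKrullDim B = 2 := by
    rw [← DimLib.ringKrullDim_eq_of_isIntegral (R := R₀) (S := B) hinj, hdim]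
  let S := Spec (CommRingCat.of B)
  haveI : IsLocallyNoetherian (↑U : Scheme.{u}) := LocallyOfFiniteType.isLocallyNoetherian U.ι
  haveI : AlgebraicGeometry.IsNoetherian S := { }
  haveI : CompactSpace (↑U : Scheme.{u}) := QuasiCompact.compactSpace_of_compactSpace U.ι
  haveI : AlgebraicGeometry.IsNoetherian (↑U : Scheme.{u}) := { }
  let P : (↑U : Scheme.{u}) → Ideal B := fun y => (show PrimeSpectrum B from U.ι y).asIdeal
  have hPp : ∀ y, (P y).IsPrime := fun y => (show PrimeSpectrum B from U.ι y).2
  have hPle : ∀ x y, x ⤳ y → P x ≤ P y := fun x y h =>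
    (PrimeSpectrum.le_iff_specializes (show PrimeSpectrum B from U.ι x) (show PrimeSpectrum B from U.ι y)).2
      (h.map U.ι.continuous)
  have hPinj : ∀ x y, P x = P y → x = y := fun x y h => U.ι.isOpenEmbedding.injective (PrimeSpectrum.ext h)
  have hnm : ∀ y, ¬ (P y).IsMaximal := fun y hm => hU (U.ι y) y.2
    ((PrimeSpectrum.isClosed_singleton_iff_isMaximal _).2 hm)
  have hht : ∀ y, (P y).height ≤ 1 := fun y => by
    haveI := hPp y
    obtain ⟨M, hM, hle⟩ := Ideal.exists_le_maximal _ (hPp y).ne_top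
    have hlt : P y < M := lt_of_le_of_ne hle fun h => hnm y (h ▸ hM)
    have h2 : (M.height : WithBot ℕ∞) ≤ ringKrullDim B := Ideal.height_le_ringKrullDim_of_ne_top hM.ne_top
    rw [hBdim] at h2
    have h2' : M.height ≤ 2 := WithBot.coe_le_coe.1 h2
    have h3 : (P y).height < 2 := lt_of_lt_of_le (Ideal.height_strict_mono_of_isPrime hlt) h2'
    exact Order.le_of_lt_add_one (by rwa [show (1 : ℕ∞) + 1 = 2 from one_add_one_eq_two])
  have hbot : ∀ x y, x ⤳ y → x ≠ y → P x = ⊥ ∧ P y ≠ ⊥ := fun x y h hne => by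
    haveI := hPp x
    haveI := hPp y
    have hlt : P x < P y := lt_of_le_of_ne (hPle x y h) fun e => hne (hPinj x y e)
    refine ⟨?_, ne_bot_of_gt hlt⟩
    have h1 : (P x).height < 1 := lt_of_lt_of_le (Ideal.height_strict_mono_of_isPrime hlt) (hht y)
    exact Ideal.height_eq_zero_iff_eq_bot.1 (ENat.lt_one_iff_eq_zero.1 h1)
  have hclosed : ∀ y, P y ≠ ⊥ → IsClosed ({y} : Set (↑U : Scheme.{u})) := fun y hy => by
    refine closure_subset_iff_isClosed.1 fun z hz => ?_
    by_contra hne
    exact hy (hbot y z (specializes_iff_mem_closure.2 hz) (Ne.symm hne)).1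
  have hdimU : topologicalKrullDim (↑U : Scheme.{u}) ≤ 1 := by
    rw [DimLib.topologicalKrullDim_eq_krullDim, Order.krullDim]
    refine iSup_le fun l => ?_
    by_contra hlen
    have h2 : 2 ≤ l.length := by
      by_contra h
      exact hlen (by exact_mod_cast (show l.length ≤ 1 by omega))
    let a := l ⟨0, by omega⟩
    let b := l ⟨1, by omega⟩
    let c := l ⟨2, by omega⟩
    have hab : a < b := l.strictMono (by simp [Fin.lt_def])
    have hbc : b < c := l.strictMono (by simp [Fin.lt_def])
    have h1 := (hbot b a (Scheme.le_iff_specializes.1 hab.le) hab.ne').2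
    have h3 := (hbot c b (Scheme.le_iff_specializes.1 hbc.le) hbc.ne').2
    have h4 := (hbot c b (Scheme.le_iff_specializes.1 hbc.le) hbc.ne').1
    exact h3 (hbot b a (Scheme.le_iff_specializes.1 hab.le) hab.ne').1
  refine ⟨inferInstance, hdimU, fun N hN => ?_, ?_⟩
  · let ρ : k →+* Γ((↑U : Scheme.{u}), ⊤) := U.ι.appTop.hom.comp ((Scheme.ΓSpecIso (CommRingCat.of B)).inv.hom.comp
      ((algebraMap R₀ B).comp (algebraMap k R₀)))
    have := (isUnit_iff_ne_zero.2 (Nat.cast_ne_zero.2 hN.ne' : (N : k) ≠ 0)).map ρ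
    rwa [map_natCast] at this
  refine S0148.cohDimLE_of_cdKilled fun m hm => cdKilled_of_cdLEAt m hm fun ℓ hℓ _ => ?_
  classical
  intro F hF q hq
  refine S3491.result (↑U : Scheme.{u}) ℓ hℓ (fun y => if P y = ⊥ then 3 else 1) (fun y => ?_) ?_ F hF q
    fun y _ => lt_of_le_of_lt (by split_ifs <;> omega) hq
  · -- residue fields
    refine Transc.cohDimLEAt_of_cdKilled hℓ fun r hr => ?_
    by_cases hy : P y = ⊥
    · rw [if_pos hy]
      intro G hG i hi
      haveI := hPp y
      let κ := (P y).ResidueField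
      have hB : Function.Injective (algebraMap B κ) := by
        rw [injective_iff_map_eq_zero]
        intro b hb
        have : b ∈ P y := Ideal.algebraMap_residueField_eq_zero.1 hb
        rwa [hy] at this
      let e₀ : K →+* κ := IsFractionRing.lift hB
      have hsur : Function.Surjective e₀ := fun z => by
        obtain ⟨c, d, -, rfl⟩ := IsFractionRing.div_surjective (B ⧸ P y) z
        obtain ⟨c, rfl⟩ := Ideal.Quotient.mk_surjective c
        obtain ⟨d, rfl⟩ := Ideal.Quotient.mk_surjective d
        refine ⟨algebraMap B K c / algebraMap B K d, ?_⟩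
        rw [map_div₀, IsFractionRing.lift_algebraMap, IsFractionRing.lift_algebraMap,
          Ideal.algebraMap_quotient_residueField_mk, Ideal.algebraMap_quotient_residueField_mk]
      let π : Spec ((↑U : Scheme.{u}).residueField y) ⟶ Spec (CommRingCat.of K) :=
        Spec.map (CommRingCat.ofHom e₀ ≫ (Scheme.Spec.residueFieldIso (CommRingCat.of B) (U.ι y)).inv ≫
          U.ι.residueFieldMap y)
      haveI : IsIso (U.ι.residueFieldMap y) := inferInstance
      haveI : IsClosedImmersion (Spec.map (CommRingCat.ofHom e₀)) := IsClosedImmersion.spec_of_surjective _ hsur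
      haveI : IsFinite π := by
        show IsFinite (Spec.map _)
        rw [Spec.map_comp]
        infer_instance
      exact ((S0148.cdKilled_of_cohDimLE hcdK hr.1).of_finite π) G hG i (by omega)
    · rw [if_neg hy]
      exact S0148.cdKilled_of_cohDimLE (hcdv y (hclosed y hy)) hr.1
  · -- strict localizations
    intro x y hxy hne R _ _ _ _ _ Q hQ
    obtain ⟨hx, hy⟩ := hbot x y hxy hne
    refine ⟨1, by rw [if_pos hx, if_neg hy], ?_⟩
    haveI := hPp y
    let A := (↑U : Scheme.{u}).presheaf.stalk y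
    let e : A ≃+* Localization.AtPrime (P y) :=
      ((U.stalkIso y) ≪≫ Spec.stalkIso (R := CommRingCat.of B) (x := U.ι y)).commRingCatIsoToRingEquiv
    haveI : IsDomain (Localization.AtPrime (P y)) :=
      IsLocalization.isDomain_localization (P y).primeCompl_le_nonZeroDivisors
    haveI : IsDomain A := e.toMulEquiv.isDomain
    haveI := isDVR_atPrime (P y) hy (hht y)
    haveI : IsDiscreteValuationRing A := IsDiscreteValuationRing.RingEquivClass.isDiscreteValuationRing e.symm
    obtain ⟨_, _⟩ := isDVR_strict A R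
    haveI := (‹Hensel.IsStrictHenselization ((↑U : Scheme.{u}).presheaf.stalk y) R›).henselian
    haveI : IsSepClosed (ResidueField R) :=
      (‹Hensel.IsStrictHenselization ((↑U : Scheme.{u}).presheaf.stalk y) R›).isSepClosure.sep_closed
    haveI := CdDev9.weaklyEtale_strict A R
    haveI := hQ.1.1
    have hQ0 : Q = ⊥ := by
      obtain ⟨p₀, hp₀⟩ : ∃ p₀ : Spec (CommRingCat.of A), (↑U : Scheme.{u}).fromSpecStalk y p₀ = x := by
        have h : x ∈ Set.range ((↑U : Scheme.{u}).fromSpecStalk y) := by
          rw [Scheme.range_fromSpecStalk]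
          exact hxy
        exact h
      subst hp₀
      rw [CycLib28.ker_specMap p₀ hxy] at hQ
      obtain ⟨-, hQc⟩ := (HenselLib.WEt.mem_minimalPrimes_map_iff _ _).1 hQ
      by_contra hQne
      have hbot' : (⊥ : Ideal R).comap (algebraMap A R) ≠ Q.comap (algebraMap A R) := fun h =>
        hQne (HenselLib.WEt.eq_of_le_of_comap_eq (A := A) bot_le h).symm
      have hp0 : p₀.asIdeal ≠ ⊥ := fun h => hbot' (le_antisymm (Ideal.comap_mono bot_le) (by rw [hQc, h]; exact bot_le))
      have hcl : p₀ = IsLocalRing.closedPoint A := PrimeSpectrum.ext (((p₀.2).isMaximal hp0).eq_of_le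
        (IsLocalRing.maximalIdeal.isMaximal A).ne_top (IsLocalRing.le_maximalIdeal p₀.2.ne_top))
      rw [hcl] at hne
      exact hne Scheme.fromSpecStalk_closedPoint
    subst hQ0
    refine Transc.cohDimLEAt_of_cdKilled hℓ fun r hr G hG i hi => ?_
    let ε : FractionRing (R ⧸ (⊥ : Ideal R)) ≃+* FractionRing R :=
      IsFractionRing.ringEquivOfRingEquiv (RingEquiv.quotientBot R)
    let π : Spec (CommRingCat.of (FractionRing (R ⧸ (⊥ : Ideal R)))) ⟶ Spec (CommRingCat.of (FractionRing R)) :=
      Spec.map ε.toCommRingCatIso.inv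
    haveI : IsFinite π := inferInstance
    haveI : NeZero r := ⟨hr.1.ne'⟩
    have hru : IsUnit (r : R) := by
      let ρ : k →+* R := (algebraMap A R).comp ((e.symm.toRingHom).comp
        ((algebraMap B (Localization.AtPrime (P y))).comp ((algebraMap R₀ B).comp (algebraMap k R₀))))
      have := (isUnit_iff_ne_zero.2 (Nat.cast_ne_zero.2 hr.1.ne' : (r : k) ≠ 0)).map ρ
      rwa [map_natCast] at this
    have hcd : CdKilled (Spec (CommRingCat.of (FractionRing R))) r 1 := fun G' hG' i' hi' =>
      CdSHFrac.subsingleton_H R (FractionRing R) r hru G' (KPiFinite.killedBy_of_nsmul_id hG') i' hi'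
    exact hcd.of_finite π G hG i hi

include k in
/-- The multiplicative group has no cohomology above degree three. -/
theorem subsingleton_H_Gm (hexc : EGA4.IsExcellent R₀) (hdim : ringKrullDim R₀ = 2)
    (U : (Spec (CommRingCat.of ↥(integralClosure R₀ K))).Opens)
    (hU : ∀ x : ↥(Spec (CommRingCat.of ↥(integralClosure R₀ K))), x ∈ U →
      ¬ IsClosed ({x} : Set ↥(Spec (CommRingCat.of ↥(integralClosure R₀ K)))))
    (hcdK : EtCoh.CohDimLE (Spec (CommRingCat.of K)) 2)
    (hcdv : ∀ x : ↥(↑U : Scheme.{u}), IsClosed ({x} : Set ↥(↑U : Scheme.{u})) →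
      EtCoh.CohDimLE (Spec ((↑U : Scheme.{u}).residueField x)) 1)
    (r : ℕ) (hr : 4 ≤ r) :
    Subsingleton (EtCoh.H (↑U : Scheme.{u}) (EtCoh.Gm (↑U : Scheme.{u})) r) := by
  obtain ⟨hN, hd, hunit, hcd⟩ := cdKilled_three (k := k) hexc hdim U hU hcdK hcdv
  haveI := hN
  have htor : IsAddTorsion (EtCoh.H (↑U : Scheme.{u}) (EtCoh.Gm (↑U : Scheme.{u})) r) := by
    refine S19255.isAddTorsion_H_of_low 2 _ (fun y _ => ?_) r (by omega)
    have h : (Order.height y : WithBot ℕ∞) ≤ (1 : ℕ∞) := by
      rw [DimLib.topologicalKrullDim_eq_krullDim] at hd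
      exact (Order.height_le_krullDim y).trans hd
    obtain ⟨a, ha, had⟩ := ENat.le_natCast_iff.1 (show Order.height y ≤ ((1 : ℕ) : ℕ∞) from WithBot.coe_le_coe.1 h)
    exact ⟨a, ha, by omega⟩
  refine GalEt.subsingleton_of_forall_eq_zero fun z => ?_
  obtain ⟨m, hm, h0⟩ := isOfFinAddOrder_iff_nsmul_eq_zero.1 (htor z)
  haveI : Epi (m • 𝟙 (EtCoh.Gm (↑U : Scheme.{u}))) := HenselLib.Kummer.epi_powMap m (hunit m hm)
  exact GalEt.eq_zero_of_kummer _ m r (S0148.cdKilled_of_cohDimLE hcd hm _ (GalEt.killed_kernel _ m) r (by omega)) z h0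

end Groth.Agent.CdDev9.Loc2
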