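import Groth.Agent.CdDev9.StrictDim
import Groth.Agent.CdDev9.Loc2
import Groth.Agent.Et18.CdSHFrac
import Groth.Agent.EGA43.DimFormula.Ring

/-!
Cohomological dimension of the residue fields of strict henselizations over a field or a discrete valuation ring.
-/

set_option autoImplicit false
set_option linter.all false
set_option backward.isDefEq.respectTransparency.types false
set_option backward.isDefEq.respectTransparency false
set_option synthInstance.maxHeartbeats 400000
set_option maxHeartbeats 1000000

universe u

open CategoryTheory CategoryTheory.Limits AlgebraicGeometry Opposite IsLocalRing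
open Groth.Agent.Et18

noncomputable section

namespace Groth.Agent.CdDev9.DvrBase

open Groth.Agent.GalEt

/-- Residue extensions of algebras essentially of finite type. -/
theorem trdeg_residueField {A B : Type u} [CommRing A] [CommRing B] [Algebra A B] [Algebra.EssFiniteType A B]
    (p : Ideal A) [p.IsPrime] (q : PrimeSpectrum B) [q.asIdeal.LiesOver p] :
    letI : Algebra (Localization.AtPrime p) (Localization.AtPrime q.asIdeal) :=
      Localization.AtPrime.algebraOfLiesOver p q.asIdeal
    Algebra.trdeg p.ResidueField q.asIdeal.ResidueField = (EGA43.FibDepth.trd A q : ℕ) := by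
  letI : Algebra (Localization.AtPrime p) (Localization.AtPrime q.asIdeal) :=
    Localization.AtPrime.algebraOfLiesOver p q.asIdeal
  haveI : Algebra.EssFiniteType A q.asIdeal.ResidueField := Algebra.EssFiniteType.comp A B _
  haveI : Algebra.EssFiniteType p.ResidueField q.asIdeal.ResidueField := Algebra.EssFiniteType.of_comp A _ _
  have h := trdeg_lt_aleph0 p.ResidueField q.asIdeal.ResidueField
  rw [EGA43.FibDepth.trd_eq_trdegHom q (p := p) Ideal.LiesOver.over, ← Cardinal.cast_toNat_of_lt_aleph0 h]
  rw [show Ideal.ResidueField.map p q.asIdeal (algebraMap A B) Ideal.LiesOver.over =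
      algebraMap p.ResidueField q.asIdeal.ResidueField from Ideal.ResidueField.ringHom_ext (RingHom.ext fun a => by
        rw [RingHom.comp_apply, RingHom.comp_apply, Ideal.ResidueField.map_algebraMap,
          ← IsScalarTower.algebraMap_apply, ← IsScalarTower.algebraMap_apply]),
    DimLib.trdegHom_algebraMap]

/-- The transcendence degree over the base of a residue field of a strict henselization. -/
theorem trdeg_strict_residueField {A B R : Type u} [CommRing A] [CommRing B] [IsLocalRing B] [Algebra A B]
    [Algebra.EssFiniteType A B] [CommRing R] [IsLocalRing R] [Algebra B R] [Algebra A R] [IsScalarTower A B R]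
    [IsLocalHom (algebraMap B R)] [Hensel.IsStrictHenselization B R]
    (p : Ideal A) [p.IsPrime] (P : Ideal R) [P.IsPrime] [P.LiesOver p] :
    letI : Algebra (Localization.AtPrime p) (Localization.AtPrime P) := Localization.AtPrime.algebraOfLiesOver p P
    Algebra.trdeg p.ResidueField P.ResidueField =
      (EGA43.FibDepth.trd A (⟨P.under B, inferInstance⟩ : PrimeSpectrum B) : ℕ) := by
  haveI := weaklyEtale_strict B R
  let q : PrimeSpectrum B := ⟨P.under B, inferInstance⟩
  haveI : P.LiesOver q.asIdeal := ⟨rfl⟩
  haveI : q.asIdeal.LiesOver p := ⟨by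
    show p = (P.comap (algebraMap B R)).comap (algebraMap A B)
    rw [Ideal.comap_comap, ← IsScalarTower.algebraMap_eq]
    exact Ideal.LiesOver.over⟩
  letI : Algebra (Localization.AtPrime p) (Localization.AtPrime q.asIdeal) :=
    Localization.AtPrime.algebraOfLiesOver p q.asIdeal
  letI : Algebra (Localization.AtPrime q.asIdeal) (Localization.AtPrime P) :=
    Localization.AtPrime.algebraOfLiesOver q.asIdeal P
  letI : Algebra (Localization.AtPrime p) (Localization.AtPrime P) := Localization.AtPrime.algebraOfLiesOver p P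
  haveI : IsScalarTower p.ResidueField q.asIdeal.ResidueField P.ResidueField :=
    IsScalarTower.of_algebraMap_eq' (Ideal.ResidueField.ringHom_ext (RingHom.ext fun a => by
      rw [RingHom.comp_apply, RingHom.comp_apply, RingHom.comp_apply, ← IsScalarTower.algebraMap_apply A p.ResidueField,
        ← IsScalarTower.algebraMap_apply A p.ResidueField q.asIdeal.ResidueField,
        IsScalarTower.algebraMap_apply A B q.asIdeal.ResidueField, ← IsScalarTower.algebraMap_apply B _ P.ResidueField,
        ← IsScalarTower.algebraMap_apply]))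
  haveI := FieldBase.isAlgebraic_residueField q.asIdeal P
  rw [← trdeg_add_eq p.ResidueField q.asIdeal.ResidueField (A := P.ResidueField),
    trdeg_eq_zero (R := q.asIdeal.ResidueField) (A := P.ResidueField), add_zero]
  exact trdeg_residueField p q

/-- Fields of transcendence degree `j` over a field with `cd ≤ e`. -/
theorem cohDimLEAt_of_trdeg {K L : Type u} [Field K] [Field L] [Algebra K L] {ℓ j e d : ℕ} (hℓ : ℓ.Prime)
    (hj : Algebra.trdeg K L = j) (h : ∀ m : ℕ, EtAcyc.PrimesIn {ℓ} m → CdKilled (Spec (CommRingCat.of K)) m e)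
    (hd : e + j ≤ d) : Dix.CohDimLEAt (Spec (CommRingCat.of L)) ℓ d :=
  Transc.cohDimLEAt_of_cdKilled hℓ fun m hm F hF r hr =>
    FieldBase.cdKilled_of_trdeg hj hm.1 (h m hm) F hF r (by omega)

/-- Isomorphic fields. -/
theorem cohDimLEAt_ringEquiv {K L : Type u} [Field K] [Field L] {ℓ d : ℕ} (hℓ : ℓ.Prime) (e : L ≃+* K)
    (h : Dix.CohDimLEAt (Spec (CommRingCat.of K)) ℓ d) : Dix.CohDimLEAt (Spec (CommRingCat.of L)) ℓ d := by
  let π : Spec (CommRingCat.of L) ⟶ Spec (CommRingCat.of K) := Spec.map e.toCommRingCatIso.inv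
  haveI : IsFinite π := inferInstance
  exact Transc.cohDimLEAt_of_cdKilled hℓ fun m hm => (Transc.cdKilled_of_cohDimLEAt h hm).of_finite π

/-- The residue field over the closed point. -/
theorem cohDim_of_under_eq {A B R : Type u} [CommRing A] [IsLocalRing A] [IsNoetherianRing A]
    [CommRing B] [IsLocalRing B] [Algebra A B] [Algebra.EssFiniteType A B] [IsLocalHom (algebraMap A B)]
    [CommRing R] [IsLocalRing R] [Algebra B R] [Algebra A R] [IsScalarTower A B R]
    [IsLocalHom (algebraMap B R)] [Hensel.IsStrictHenselization B R] {ℓ : ℕ} (hℓ : ℓ.Prime) {d : ℕ}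
    (hd : ringKrullDim B ≤ d) (P : Ideal R) [P.IsPrime] [P.LiesOver (maximalIdeal A)] :
    Dix.CohDimLEAt (Spec (CommRingCat.of (FractionRing (R ⧸ P)))) ℓ d := by
  have hR := ‹Hensel.IsStrictHenselization B R›
  haveI := hR.henselian
  haveI := hR.isSepClosure
  haveI : IsSepClosed (ResidueField R) := IsSepClosure.sep_closed (ResidueField B)
  haveI : (maximalIdeal R).LiesOver (maximalIdeal A) := ⟨by
    rw [Ideal.under_def, IsScalarTower.algebraMap_eq A B R]
    exact (maximalIdeal_comap _).symm⟩
  let k := (maximalIdeal A).ResidueField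
  let q : PrimeSpectrum B := ⟨P.under B, inferInstance⟩
  let s := EGA43.FibDepth.trd A q
  let t := EGA43.FibDepth.trd A (closedPoint B)
  have hst : s ≤ d + t := by
    have h1 := EGA43.DimFormula.fibre_prime_formula (A := A) q (by
      show (P.comap (algebraMap B R)).comap (algebraMap A B) = _
      rw [Ideal.comap_comap, ← IsScalarTower.algebraMap_eq]
      exact (Ideal.LiesOver.over (P := P) (p := maximalIdeal A)).symm)
    have h2 : (s : WithBot ℕ∞) ≤ ((d + t : ℕ) : WithBot ℕ∞) := by
      rw [← h1, Nat.cast_add]
      exact add_le_add ((ringKrullDim_quotient_le _).trans hd) le_rfl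
    exact_mod_cast h2
  letI : Algebra (Localization.AtPrime (maximalIdeal A)) (Localization.AtPrime P) :=
    Localization.AtPrime.algebraOfLiesOver (maximalIdeal A) P
  letI : Algebra (Localization.AtPrime (maximalIdeal A)) (Localization.AtPrime (maximalIdeal R)) :=
    Localization.AtPrime.algebraOfLiesOver (maximalIdeal A) (maximalIdeal R)
  have hM : Algebra.trdeg k P.ResidueField = (s : ℕ) := trdeg_strict_residueField (B := B) (maximalIdeal A) P
  let R' := R ⧸ P
  haveI : IsLocalRing R' := IsLocalRing.of_surjective' (Ideal.Quotient.mk P) Ideal.Quotient.mk_surjective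
  haveI : HenselianLocalRing R' := HopfQuot.UnitComp.henselianLocalRing_of_finite (R := R) R'
  haveI : IsLocalHom (Ideal.Quotient.mk P) := IsLocalHom.of_surjective _ Ideal.Quotient.mk_surjective
  letI : Field (A ⧸ maximalIdeal A) := Ideal.Quotient.field _
  let e₀ : A ⧸ maximalIdeal A ≃+* k :=
    RingEquiv.ofBijective (algebraMap (A ⧸ maximalIdeal A) k)
      (Ideal.bijective_algebraMap_quotient_residueField _)
  let ψ : k →+* R' := (Ideal.Quotient.lift (maximalIdeal A) (algebraMap A R') fun a ha =>
    Ideal.Quotient.eq_zero_iff_mem.2 ((Ideal.mem_of_liesOver P (maximalIdeal A) a).1 ha)).comp e₀.symm.toRingHom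
  have hψ : ∀ a, ψ (algebraMap A k a) = algebraMap A R' a := fun a => by
    simp only [ψ, RingHom.comp_apply]
    rw [show e₀.symm.toRingHom (algebraMap A k a) = Ideal.Quotient.mk _ a from e₀.symm_apply_eq.2 rfl]
    rfl
  letI : Algebra k R' := ψ.toAlgebra
  let φ : ResidueField R →+* ResidueField R' := IsLocalRing.ResidueField.map (Ideal.Quotient.mk P)
  have hφ : Function.Surjective φ := fun z => by
    obtain ⟨a, rfl⟩ := residue_surjective z
    obtain ⟨a, rfl⟩ := Ideal.Quotient.mk_surjective a
    exact ⟨residue R a, rfl⟩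
  let eφ : ResidueField R ≃+* ResidueField R' := RingEquiv.ofBijective φ ⟨φ.injective, hφ⟩
  haveI : IsSepClosed (ResidueField R') := CdDev9.isSepClosed_ringEquiv eφ
  have ht : Algebra.trdeg k (ResidueField R') = (t : ℕ) := by
    have h1 : Algebra.trdeg k (maximalIdeal R).ResidueField = (t : ℕ) := by
      have h := trdeg_strict_residueField (B := B) (maximalIdeal A) (maximalIdeal R)
      have hc : (⟨(maximalIdeal R).under B, inferInstance⟩ : PrimeSpectrum B) = closedPoint B :=
        PrimeSpectrum.ext (maximalIdeal_comap (algebraMap B R))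
      rwa [hc] at h
    let e₁ : ResidueField R ≃+* (maximalIdeal R).ResidueField :=
      RingEquiv.ofBijective (algebraMap (R ⧸ maximalIdeal R) (maximalIdeal R).ResidueField)
        (Ideal.bijective_algebraMap_quotient_residueField _)
    let e : (maximalIdeal R).ResidueField ≃+* ResidueField R' := e₁.symm.trans eφ
    have he : (e : (maximalIdeal R).ResidueField →+* ResidueField R').comp (algebraMap k _) = algebraMap k _ := by
      refine Ideal.ResidueField.ringHom_ext (RingHom.ext fun a => ?_)
      show e (algebraMap k (maximalIdeal R).ResidueField (algebraMap A k a)) = residue R' (ψ (algebraMap A k a))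
      rw [hψ, ← IsScalarTower.algebraMap_apply, IsScalarTower.algebraMap_apply A R (maximalIdeal R).ResidueField]
      show eφ (e₁.symm (algebraMap R _ (algebraMap A R a))) = _
      rw [show e₁.symm (algebraMap R _ (algebraMap A R a)) = residue R (algebraMap A R a) from
        e₁.symm_apply_eq.2 rfl]
      rfl
    exact (AlgEquiv.ofRingEquiv (f := e) fun x => RingHom.congr_fun he x).trdeg_eq.symm.trans h1
  obtain ⟨E, _, _, _, g, hg⟩ := FieldBase.exists_sepClosed_subfield k R' ht
  let M := P.ResidueField
  letI : Algebra E M := ((algebraMap R' M).comp g.toRingHom).toAlgebra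
  haveI : IsScalarTower k E M := IsScalarTower.of_algebraMap_eq' (Ideal.ResidueField.ringHom_ext
    (RingHom.ext fun a => by
      show algebraMap k M (algebraMap A k a) = algebraMap R' M (g (algebraMap k E (algebraMap A k a)))
      rw [g.commutes, show algebraMap k R' (algebraMap A k a) = algebraMap A R' a from hψ a,
        ← IsScalarTower.algebraMap_apply, IsScalarTower.algebraMap_apply A R M]
      rfl))
  have hadd := trdeg_add_eq k E (A := M)
  rw [hM] at hadd
  obtain ⟨i, hi⟩ := Cardinal.lt_aleph0.1 (lt_of_le_of_lt (self_le_add_right _ _)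
    (hadd ▸ Cardinal.natCast_lt_aleph0 (n := s)))
  obtain ⟨j, hj⟩ := Cardinal.lt_aleph0.1 (lt_of_le_of_lt (self_le_add_left _ _)
    (hadd ▸ Cardinal.natCast_lt_aleph0 (n := s)))
  rw [hi, hj, ← Nat.cast_add, Nat.cast_inj] at hadd
  rw [hi, Nat.cast_le] at hg
  exact cohDimLEAt_ringEquiv hℓ (FractionRing.algEquiv R' M).toRingEquiv
    (cohDimLEAt_of_trdeg hℓ hj (fun m _ => FieldBase.cdKilled_sepClosed E m) (show 0 + j ≤ d by omega))

/-- Residual polynomials lift to a discrete valuation ring inside a local domain. -/
theorem exists_dvr {A T : Type u} [CommRing A] [IsDomain A] [IsDiscreteValuationRing A] [CommRing T] [IsDomain T]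
    [IsLocalRing T] [Algebra A T] [IsLocalHom (algebraMap A T)] [FaithfulSMul A T] (t : ℕ)
    (ht : Algebra.trdeg (ResidueField A) (ResidueField T) = t) :
    ∃ (W : Type u) (_ : CommRing W) (_ : IsDomain W) (_ : IsDiscreteValuationRing W) (_ : Algebra A W)
      (ψ : W →ₐ[A] T) (y : Fin t → W), IsLocalHom ψ.toRingHom ∧ Function.Injective ψ ∧
      AlgebraicIndependent A y := by
  classical
  obtain ⟨b, hb⟩ := exists_isTranscendenceBasis (ResidueField A) (ResidueField T)
  haveI : Finite b := Cardinal.lt_aleph0_iff_finite.mp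
    ((hb.cardinalMk_eq_trdeg.trans ht) ▸ Cardinal.natCast_lt_aleph0)
  letI := Fintype.ofFinite b
  have hcard : Fintype.card b = t := by
    have := hb.cardinalMk_eq_trdeg.trans ht
    rw [Cardinal.mk_fintype] at this
    exact_mod_cast this
  let σ : Fin t ≃ b := (Fintype.equivFinOfCardEq hcard).symm
  have hind : AlgebraicIndependent (ResidueField A) (fun i => (σ i : ResidueField T)) :=
    hb.1.comp σ σ.injective
  choose a ha using fun i => residue_surjective (σ i : ResidueField T)
  let S := MvPolynomial (Fin t) A
  let φ : S →ₐ[A] T := MvPolynomial.aeval a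
  let Pm : Ideal S := (maximalIdeal T).comap φ.toRingHom
  haveI : Pm.IsPrime := Ideal.IsPrime.comap _
  have hres : ∀ f : S, residue T (φ f) =
      MvPolynomial.aeval (fun i => (σ i : ResidueField T)) (MvPolynomial.map (residue A) f) := fun f => by
    induction f using MvPolynomial.induction_on with
    | C r =>
      rw [show φ (MvPolynomial.C r) = algebraMap A T r from φ.commutes r, MvPolynomial.map_C, MvPolynomial.aeval_C]
      rfl
    | add p q hp hq => simp only [map_add, hp, hq]
    | mul_X p i hp => simp only [map_mul, hp, MvPolynomial.map_X, MvPolynomial.aeval_X]; rw [show φ (MvPolynomial.X i) = a i from MvPolynomial.aeval_X a i, ha]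
  obtain ⟨π, hπ⟩ := IsDiscreteValuationRing.exists_irreducible A
  have hPm : Pm = Ideal.span {MvPolynomial.C π} := by
    have h1 : Pm = RingHom.ker (MvPolynomial.map (residue A) : S →+* _) := by
      ext f
      show φ f ∈ maximalIdeal T ↔ MvPolynomial.map (residue A) f = 0
      rw [← residue_eq_zero_iff, hres]
      exact ⟨fun h => (algebraicIndependent_iff_injective_aeval.1 hind) (h.trans (map_zero _).symm),
        fun h => by rw [h, map_zero]⟩
    rw [h1, MvPolynomial.ker_map, ker_residue, hπ.maximalIdeal_eq, Ideal.map_span, Set.image_singleton]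
  have hπ0 : (MvPolynomial.C π : S) ≠ 0 := fun h => hπ.ne_zero (MvPolynomial.C_eq_zero.1 h)
  haveI : IsDiscreteValuationRing (Localization.AtPrime Pm) := by
    refine Loc2.isDVR_atPrime Pm (fun h => hπ0 ?_) ?_
    · rw [← Ideal.mem_bot, ← h, hPm]
      exact Ideal.mem_span_singleton_self _
    · rw [hPm]
      refine Ideal.height_le_one_of_isPrincipal_of_mem_minimalPrimes (Ideal.span {(MvPolynomial.C π : S)}) _ ?_
      haveI : (Ideal.span {(MvPolynomial.C π : S)}).IsPrime := hPm ▸ ‹Pm.IsPrime›
      rw [Ideal.minimalPrimes_eq_subsingleton_self]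
      rfl
  let W := Localization.AtPrime Pm
  let ψ : W →ₐ[A] T := IsLocalization.liftAlgHom (M := Pm.primeCompl) (f := φ) fun z =>
    IsLocalRing.notMem_maximalIdeal.1 z.2
  have hψ : ∀ f : S, ψ (algebraMap S W f) = φ f := fun f => IsLocalization.lift_eq _ f
  haveI hloc : IsLocalHom ψ.toRingHom := ⟨fun z hz => by
    obtain ⟨c, e, rfl⟩ := IsLocalization.exists_mk'_eq Pm.primeCompl z
    refine (IsLocalization.AtPrime.isUnit_mk'_iff W Pm c e).2 fun hc => ?_
    have h1 : ψ (IsLocalization.mk' W c e) * ψ (algebraMap S W e) = ψ (algebraMap S W c) := by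
      rw [← map_mul, IsLocalization.mk'_spec]
    rw [hψ, hψ] at h1
    exact (IsLocalRing.mem_maximalIdeal _).1 hc (h1 ▸ hz.mul (IsLocalRing.notMem_maximalIdeal.1 e.2))⟩
  have hinj : Function.Injective ψ := by
    rw [show Function.Injective ψ ↔ Function.Injective ψ.toRingHom from Iff.rfl, RingHom.injective_iff_ker_eq_bot]
    by_contra hne
    obtain ⟨_, hu⟩ : ∃ _ : (RingHom.ker ψ.toRingHom).IsPrime, True := ⟨RingHom.ker_isPrime _, trivial⟩
    have hmax : RingHom.ker ψ.toRingHom = maximalIdeal W :=
      eq_maximalIdeal (Ideal.IsPrime.isMaximal (RingHom.ker_isPrime _) hne)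
    have h1 : algebraMap A W π ∈ maximalIdeal W := by
      rw [IsScalarTower.algebraMap_apply A S W]
      exact (IsLocalization.AtPrime.to_map_mem_maximal_iff W Pm _).2 (hPm ▸ Ideal.mem_span_singleton_self _)
    rw [← hmax, RingHom.mem_ker] at h1
    have h2 : algebraMap A T π = 0 := (ψ.commutes π).symm.trans h1
    exact hπ.ne_zero ((map_eq_zero_iff _ (FaithfulSMul.algebraMap_injective A T)).1 h2)
  refine ⟨W, inferInstance, inferInstance, inferInstance, inferInstance, ψ,
    fun i => algebraMap S W (MvPolynomial.X i), hloc, hinj, ?_⟩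
  rw [algebraicIndependent_iff_injective_aeval]
  have h : MvPolynomial.aeval (R := A) (fun i => algebraMap S W (MvPolynomial.X i)) = IsScalarTower.toAlgHom A S W :=
    MvPolynomial.algHom_ext fun i => by simp [S]
  rw [h]
  exact IsLocalization.injective W Pm.primeCompl_le_nonZeroDivisors

/-- The residue field over the generic point of a discrete valuation ring. -/
theorem cohDim_of_under_bot {A B R : Type u} [CommRing A] [IsDomain A] [IsDiscreteValuationRing A]
    [CommRing B] [IsLocalRing B] [Algebra A B] [Algebra.EssFiniteType A B] [IsLocalHom (algebraMap A B)]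
    [CommRing R] [IsLocalRing R] [Algebra B R] [Algebra A R] [IsScalarTower A B R]
    [IsLocalHom (algebraMap B R)] [Hensel.IsStrictHenselization B R] {ℓ : ℕ} (hℓ : ℓ.Prime) (hu : IsUnit (ℓ : A))
    {d : ℕ} (hd : ringKrullDim B ≤ d) (P : Ideal R) [P.IsPrime] [P.LiesOver (⊥ : Ideal A)] :
    Dix.CohDimLEAt (Spec (CommRingCat.of (FractionRing (R ⧸ P)))) ℓ d := by
  have hR := ‹Hensel.IsStrictHenselization B R›
  haveI := hR.henselian
  haveI := hR.isSepClosure
  haveI : IsSepClosed (ResidueField R) := IsSepClosure.sep_closed (ResidueField B)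
  haveI : (maximalIdeal R).LiesOver (maximalIdeal A) := ⟨by
    rw [Ideal.under_def, IsScalarTower.algebraMap_eq A B R]
    exact (maximalIdeal_comap _).symm⟩
  let q : PrimeSpectrum B := ⟨P.under B, inferInstance⟩
  let s := EGA43.FibDepth.trd A q
  let t := EGA43.FibDepth.trd A (closedPoint B)
  have hq : q.asIdeal.comap (algebraMap A B) = ⊥ := by
    show (P.comap (algebraMap B R)).comap (algebraMap A B) = _
    rw [Ideal.comap_comap, ← IsScalarTower.algebraMap_eq]
    exact (Ideal.LiesOver.over (P := P) (p := (⊥ : Ideal A))).symm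
  have hst : 1 + s ≤ d + t := by
    haveI := CAlgH3.isCohenMacaulayRing_of_isRegularRing (R := A)
    have h1 := (EGA43.DimFormula.prime_formula (A := A) q).2
      (EGA43.DimFormula.isUniversallyCatenary_quotient CAlgH3.isUniversallyCatenary_of_cm _)
    have h3 : ringKrullDim (A ⧸ q.asIdeal.comap (algebraMap A B)) = 1 := by
      rw [ringKrullDim_eq_of_ringEquiv ((Ideal.quotEquivOfEq hq).trans (RingEquiv.quotientBot A))]
      exact IsPrincipalIdealRing.ringKrullDim_eq_one A (IsDiscreteValuationRing.not_isField A)
    rw [h3] at h1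
    have h2 : ((1 + s : ℕ) : WithBot ℕ∞) ≤ ((d + t : ℕ) : WithBot ℕ∞) := by
      push_cast
      rw [← h1]
      exact add_le_add ((ringKrullDim_quotient_le _).trans hd) le_rfl
    exact_mod_cast h2
  letI : Algebra (Localization.AtPrime (⊥ : Ideal A)) (Localization.AtPrime P) :=
    Localization.AtPrime.algebraOfLiesOver (⊥ : Ideal A) P
  letI : Algebra (Localization.AtPrime (maximalIdeal A)) (Localization.AtPrime (maximalIdeal R)) :=
    Localization.AtPrime.algebraOfLiesOver (maximalIdeal A) (maximalIdeal R)
  let M := P.ResidueField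
  haveI : FaithfulSMul A M := (faithfulSMul_iff_algebraMap_injective A M).2 ((injective_iff_map_eq_zero _).2
    fun a ha => by
      rw [IsScalarTower.algebraMap_apply A R M, Ideal.algebraMap_residueField_eq_zero,
        ← Ideal.mem_of_liesOver P (⊥ : Ideal A) a] at ha
      exact Ideal.mem_bot.1 ha)
  have hM : Algebra.trdeg A M = (s : ℕ) := by
    haveI : FaithfulSMul A (⊥ : Ideal A).ResidueField := (faithfulSMul_iff_algebraMap_injective A _).2
      ((injective_iff_map_eq_zero _).2 fun a ha => Ideal.mem_bot.1 (Ideal.algebraMap_residueField_eq_zero.1 ha))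
    haveI : IsFractionRing A (⊥ : Ideal A).ResidueField := inferInstance
    haveI : Algebra.IsAlgebraic A (⊥ : Ideal A).ResidueField := IsLocalization.isAlgebraic _ (nonZeroDivisors A)
    rw [← trdeg_add_eq A (⊥ : Ideal A).ResidueField (A := M), trdeg_eq_zero (R := A) (A := (⊥ : Ideal A).ResidueField),
      zero_add]
    exact trdeg_strict_residueField (B := B) (⊥ : Ideal A) P
  let R' := R ⧸ P
  haveI : IsLocalRing R' := IsLocalRing.of_surjective' (Ideal.Quotient.mk P) Ideal.Quotient.mk_surjective
  haveI : HenselianLocalRing R' := HopfQuot.UnitComp.henselianLocalRing_of_finite (R := R) R'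
  haveI : IsLocalHom (Ideal.Quotient.mk P) := IsLocalHom.of_surjective _ Ideal.Quotient.mk_surjective
  haveI : FaithfulSMul A R' := (faithfulSMul_iff_algebraMap_injective A R').2 fun a b h =>
    FaithfulSMul.algebraMap_injective A M (by
      rw [IsScalarTower.algebraMap_apply A R' M, h, ← IsScalarTower.algebraMap_apply])
  haveI : IsLocalHom (algebraMap A R') := ⟨fun a ha => by
    have h1 : IsUnit (algebraMap A R a) := isUnit_of_map_unit (Ideal.Quotient.mk P) _ ha
    rw [IsScalarTower.algebraMap_apply A B R] at h1
    exact isUnit_of_map_unit (algebraMap A B) a (isUnit_of_map_unit (algebraMap B R) _ h1)⟩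
  let φ : ResidueField R →+* ResidueField R' := IsLocalRing.ResidueField.map (Ideal.Quotient.mk P)
  have hφ : Function.Surjective φ := fun z => by
    obtain ⟨a, rfl⟩ := residue_surjective z
    obtain ⟨a, rfl⟩ := Ideal.Quotient.mk_surjective a
    exact ⟨residue R a, rfl⟩
  let eφ : ResidueField R ≃+* ResidueField R' := RingEquiv.ofBijective φ ⟨φ.injective, hφ⟩
  haveI : IsSepClosed (ResidueField R') := CdDev9.isSepClosed_ringEquiv eφ
  have ht : Algebra.trdeg (ResidueField A) (ResidueField R') = (t : ℕ) := by
    have h1 : Algebra.trdeg (maximalIdeal A).ResidueField (maximalIdeal R).ResidueField = (t : ℕ) := by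
      have h := trdeg_strict_residueField (B := B) (maximalIdeal A) (maximalIdeal R)
      have hc : (⟨(maximalIdeal R).under B, inferInstance⟩ : PrimeSpectrum B) = closedPoint B :=
        PrimeSpectrum.ext (maximalIdeal_comap (algebraMap B R))
      rwa [hc] at h
    let eA : ResidueField A ≃+* (maximalIdeal A).ResidueField :=
      RingEquiv.ofBijective (algebraMap (A ⧸ maximalIdeal A) (maximalIdeal A).ResidueField)
        (Ideal.bijective_algebraMap_quotient_residueField _)
    let eR : ResidueField R ≃+* (maximalIdeal R).ResidueField :=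
      RingEquiv.ofBijective (algebraMap (R ⧸ maximalIdeal R) (maximalIdeal R).ResidueField)
        (Ideal.bijective_algebraMap_quotient_residueField _)
    rw [← h1]
    refine EGA43.Chevalley.trdeg_eq_of_ringEquiv eA (eφ.symm.trans eR) (RingHom.ext fun a => ?_)
    obtain ⟨a, rfl⟩ := residue_surjective a
    show eR (eφ.symm (residue R' (algebraMap A R' a))) = algebraMap _ _ (eA (residue A a))
    rw [show eφ.symm (residue R' (algebraMap A R' a)) = residue R (algebraMap A R a) from eφ.symm_apply_eq.2 rfl]
    show algebraMap R (maximalIdeal R).ResidueField (algebraMap A R a) =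
      algebraMap _ _ (algebraMap A (maximalIdeal A).ResidueField a)
    rw [← IsScalarTower.algebraMap_apply, ← IsScalarTower.algebraMap_apply]
  obtain ⟨W, _, _, _, _, ψ, y, hψl, hψi, hy⟩ := exists_dvr (A := A) (T := R') t ht
  let W' := HenselLib.LocalSH W
  haveI : IsLocalRing W' := HenselLib.isLocalRing_hull
  haveI hW' := HenselLib.isStrictHenselization_localSH (R := W)
  obtain ⟨_, _⟩ := Loc2.isDVR_strict W W'
  haveI := hW'.isSepClosure
  haveI : Algebra.IsSeparable (ResidueField W) (ResidueField W') := IsSepClosure.separable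
  haveI : IsSepClosed (ResidueField W') := IsSepClosure.sep_closed (ResidueField W)
  haveI := hψl
  letI : Algebra (ResidueField W) (ResidueField R') := (IsLocalRing.ResidueField.map ψ.toRingHom).toAlgebra
  let τ : ResidueField W' →ₐ[ResidueField W] ResidueField R' := IsSepClosed.lift
  obtain ⟨χ, ⟨hχ, hχres⟩, -⟩ := hW'.universal R' ψ.toRingHom τ.toRingHom (RingHom.ext fun r => τ.commutes r)
  have hχi : Function.Injective χ := by
    rw [RingHom.injective_iff_ker_eq_bot]
    by_contra hne
    have hmax : RingHom.ker χ = maximalIdeal W' :=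
      eq_maximalIdeal (Ideal.IsPrime.isMaximal (RingHom.ker_isPrime _) hne)
    obtain ⟨ϖ, hϖ⟩ := IsDiscreteValuationRing.exists_irreducible W
    have h1 : algebraMap W W' ϖ ∈ maximalIdeal W' := map_nonunit _ _ (hϖ.maximalIdeal_eq ▸ Ideal.mem_span_singleton_self _)
    rw [← hmax, RingHom.mem_ker] at h1
    exact hϖ.ne_zero (hψi ((congr($hχ ϖ)).symm.trans (h1.trans (map_zero ψ).symm)))
  let L := FractionRing W'
  let ι : L →+* M := IsFractionRing.lift (g := (algebraMap R' M).comp χ)
    ((IsFractionRing.injective R' M).comp hχi)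
  letI : Algebra A L := ((algebraMap W' L).comp ((algebraMap W W').comp (algebraMap A W))).toAlgebra
  letI : Algebra L M := ι.toAlgebra
  have hι : ∀ w : W, ι (algebraMap W' L (algebraMap W W' w)) = algebraMap R' M (ψ w) := fun w => by
    rw [IsFractionRing.lift_algebraMap]
    exact congrArg (algebraMap R' M) congr($hχ w)
  haveI : IsScalarTower A L M := IsScalarTower.of_algebraMap_eq fun a => by
    show algebraMap A M a = ι (algebraMap W' L (algebraMap W W' (algebraMap A W a)))
    rw [hι, ψ.commutes, ← IsScalarTower.algebraMap_apply]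
  haveI : FaithfulSMul A L := (faithfulSMul_iff_algebraMap_injective A L).2 fun a b h =>
    FaithfulSMul.algebraMap_injective A M (by
      rw [IsScalarTower.algebraMap_apply A L M, h, ← IsScalarTower.algebraMap_apply])
  have htL : (t : Cardinal.{u}) ≤ Algebra.trdeg A L := by
    let z : Fin t → L := fun i => algebraMap W' L (algebraMap W W' (y i))
    let jM : L →ₐ[A] M := IsScalarTower.toAlgHom A L M
    have h1 : AlgebraicIndependent A (jM ∘ z) := by
      let g : W →ₐ[A] M := (IsScalarTower.toAlgHom A R' M).comp ψ
      have h2 : jM ∘ z = g ∘ y := funext fun i => hι (y i)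
      rw [h2]
      exact hy.map' (f := g) ((IsFractionRing.injective R' M).comp hψi)
    have h3 := (AlgebraicIndependent.of_comp jM h1).lift_cardinalMk_le_trdeg
    simpa using h3
  have hadd := trdeg_add_eq A L (A := M)
  rw [hM] at hadd
  obtain ⟨i, hi⟩ := Cardinal.lt_aleph0.1 (lt_of_le_of_lt (self_le_add_right _ _)
    (hadd ▸ Cardinal.natCast_lt_aleph0 (n := s)))
  obtain ⟨j, hj⟩ := Cardinal.lt_aleph0.1 (lt_of_le_of_lt (self_le_add_left _ _)
    (hadd ▸ Cardinal.natCast_lt_aleph0 (n := s)))
  rw [hi, hj, ← Nat.cast_add, Nat.cast_inj] at hadd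
  rw [hi, Nat.cast_le] at htL
  refine cohDimLEAt_ringEquiv hℓ (FractionRing.algEquiv R' M).toRingEquiv
    (cohDimLEAt_of_trdeg hℓ hj (fun m hm G hG r hr => ?_) (show 1 + j ≤ d by omega))
  haveI : NeZero m := ⟨hm.1.ne'⟩
  have hℓW : IsUnit (ℓ : W') := by
    have := hu.map ((algebraMap W W').comp (algebraMap A W))
    rwa [map_natCast] at this
  have hmW : IsUnit (m : W') := by
    obtain ⟨c, hc⟩ : ∃ c, m = ℓ ^ c := by
      exact ⟨_, Nat.eq_prime_pow_of_unique_prime_dvd hm.1.ne' fun {p} hp hpd => hm.2 p hp hpd⟩
    rw [hc, Nat.cast_pow]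
    exact hℓW.pow _
  refine Et18.CdSHFrac.subsingleton_H W' L m hmW G (fun V z => ?_) r (by omega)
  have h := congr(ConcreteCategory.hom (($hG).hom.app (op V)) z)
  exact h

end Groth.Agent.CdDev9.DvrBase
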