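import Groth.Agent.SmoothLib.Monogenic
import Mathlib.RingTheory.Localization.FractionRing
import Mathlib.FieldTheory.PrimitiveElement
import Mathlib.RingTheory.Flat.Basic
import Mathlib.RingTheory.Spectrum.Prime.FreeLocus

/-!
A finite separable extension of the fraction field of a domain is the fraction field of a finite
etale extension of a localisation.
-/

set_option autoImplicit false
set_option linter.all false
set_option maxHeartbeats 800000

universe u

open Polynomial

namespace Groth.Agent.CdDev9

theorem exists_etale_model (A K L : Type u) [CommRing A] [IsDomain A] [Field K] [Algebra A K] [IsFractionRing A K]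
    [Field L] [Algebra K L] [FiniteDimensional K L] [Algebra.IsSeparable K L] :
    ∃ (a : A) (A₁ : Type u) (_ : CommRing A₁) (_ : Algebra A A₁) (_ : IsLocalization.Away a A₁)
      (B : Type u) (_ : CommRing B) (_ : Algebra A₁ B) (_ : Algebra B L), a ≠ 0 ∧
      IsDomain B ∧ IsFractionRing B L ∧ Module.Finite A₁ B ∧ Algebra.Etale A₁ B ∧
      (∀ P : PrimeSpectrum A₁, Module.rankAtStalk B P = Module.finrank K L) ∧
      ((algebraMap B L).comp (algebraMap A₁ B)).comp (algebraMap A A₁) = (algebraMap K L).comp (algebraMap A K) := by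
  classical
  obtain ⟨α, hα⟩ := Field.exists_primitive_element K L
  have hαi : IsIntegral K α := IsIntegral.of_finite K α
  let g₀ := minpoly K α
  obtain ⟨p, q, hpq⟩ := (Algebra.IsSeparable.isSeparable K α : g₀.Separable)
  obtain ⟨⟨a, ha⟩, hint⟩ := IsLocalization.exist_integer_multiples_of_finset (nonZeroDivisors A)
    (g₀.coeffs ∪ p.coeffs ∪ q.coeffs)
  have ha0 : a ≠ 0 := nonZeroDivisors.ne_zero ha
  have haK : IsUnit (algebraMap A K a) :=
    isUnit_iff_ne_zero.2 ((map_ne_zero_iff _ (IsFractionRing.injective A K)).2 ha0)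
  let A₁ := Localization.Away a
  let θ : A₁ →+* K := IsLocalization.Away.lift a haK
  letI : Algebra A₁ K := θ.toAlgebra
  haveI : IsScalarTower A A₁ K := IsScalarTower.of_algebraMap_eq fun x =>
    (IsLocalization.Away.lift_eq a haK x).symm
  haveI : IsFractionRing A₁ K :=
    IsFractionRing.isFractionRing_of_isDomain_of_isLocalization (Submonoid.powers a) A₁ K
  have hθ : Function.Injective (algebraMap A₁ K) := IsFractionRing.injective A₁ K
  haveI : IsDomain A₁ := hθ.isDomain (algebraMap A₁ K)
  letI : Algebra A₁ L := ((algebraMap K L).comp (algebraMap A₁ K)).toAlgebra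
  haveI : IsScalarTower A₁ K L := IsScalarTower.of_algebraMap_eq fun _ => rfl
  have hlift : ∀ f : K[X], f.coeffs ⊆ g₀.coeffs ∪ p.coeffs ∪ q.coeffs → f ∈ Polynomial.lifts (algebraMap A₁ K) := by
    intro f hf
    rw [Polynomial.lifts_iff_coeff_lifts]
    intro i
    by_cases h0 : f.coeff i = 0
    · exact ⟨0, by rw [map_zero, h0]⟩
    obtain ⟨c, hc⟩ := hint _ (hf (Polynomial.coeff_mem_coeffs h0))
    refine ⟨IsLocalization.mk' A₁ c (⟨a, 1, pow_one a⟩ : Submonoid.powers a), ?_⟩
    refine (haK.mul_left_inj).1 ?_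
    rw [IsScalarTower.algebraMap_apply A A₁ K a, ← map_mul, IsLocalization.mk'_spec,
      ← IsScalarTower.algebraMap_apply, ← IsScalarTower.algebraMap_apply A A₁ K]
    rw [hc, Algebra.smul_def, mul_comm]
  obtain ⟨g, hg, hgdeg, hgm⟩ := Polynomial.lifts_and_natDegree_eq_and_monic
    (hlift g₀ (Finset.subset_union_left.trans Finset.subset_union_left)) (minpoly.monic hαi)
  obtain ⟨p₁, hp₁⟩ := hlift p (Finset.subset_union_right.trans Finset.subset_union_left)
  obtain ⟨q₁, hq₁⟩ := hlift q Finset.subset_union_right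
  simp only [Polynomial.coe_mapRingHom] at hp₁ hq₁
  have hsep : g.Separable := ⟨p₁, q₁, Polynomial.map_injective _ hθ (by
    rw [Polynomial.map_add, Polynomial.map_mul, Polynomial.map_mul, ← Polynomial.derivative_map, hg, hp₁, hq₁,
      Polynomial.map_one]
    exact hpq)⟩
  let B := AdjoinRoot g
  have hev : g.eval₂ ((algebraMap K L).comp (algebraMap A₁ K)) α = 0 := by
    rw [← Polynomial.eval₂_map, hg]
    exact minpoly.aeval K α
  let φ : B →+* L := AdjoinRoot.lift ((algebraMap K L).comp (algebraMap A₁ K)) α hev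
  have hφmk : ∀ f : A₁[X], φ (AdjoinRoot.mk g f) = Polynomial.aeval α (f.map (algebraMap A₁ K)) := fun f => by
    show AdjoinRoot.lift _ α hev (AdjoinRoot.mk g f) = _
    rw [AdjoinRoot.lift_mk, Polynomial.aeval_def, Polynomial.eval₂_map]
  have hinj : Function.Injective φ := (injective_iff_map_eq_zero φ).2 fun z hz => by
    obtain ⟨f, rfl⟩ := AdjoinRoot.mk_surjective z
    rw [hφmk] at hz
    rw [AdjoinRoot.mk_eq_zero, ← Polynomial.map_dvd_map _ hθ hgm, hg]
    exact minpoly.dvd K α hz
  letI : Algebra B L := φ.toAlgebra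
  haveI : IsDomain B := hinj.isDomain φ
  haveI : FaithfulSMul B L := (faithfulSMul_iff_algebraMap_injective B L).2 hinj
  haveI : IsFractionRing B L := IsFractionRing.of_field B L fun z => by
    have hz : z ∈ Algebra.adjoin K {α} := by
      rw [← IntermediateField.adjoin_simple_toSubalgebra_of_isAlgebraic hαi.isAlgebraic, hα]
      trivial
    rw [Algebra.adjoin_singleton_eq_range_aeval] at hz
    obtain ⟨h, rfl⟩ := hz
    obtain ⟨⟨c, hc⟩, hch⟩ := IsLocalization.integerNormalization_map_to_map (nonZeroDivisors A₁) h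
    refine ⟨AdjoinRoot.mk g (IsLocalization.integerNormalization (nonZeroDivisors A₁) h),
      AdjoinRoot.mk g (Polynomial.C c), ?_⟩
    have hcL : (algebraMap K L) (algebraMap A₁ K c) ≠ 0 :=
      (map_ne_zero (algebraMap K L)).2 ((map_ne_zero_iff _ hθ).2 (nonZeroDivisors.ne_zero hc))
    show Polynomial.aeval α h = φ _ / φ _
    rw [hφmk, hφmk, hch, Polynomial.map_C, Polynomial.aeval_C, AlgHom.map_smul_of_tower, Algebra.smul_def,
      IsScalarTower.algebraMap_apply A₁ K L, mul_div_cancel_left₀ _ hcL]
  let pb := AdjoinRoot.powerBasis' hgm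
  haveI : Module.Finite A₁ B := pb.finite
  haveI : Module.Free A₁ B := Module.Free.of_basis pb.basis
  refine ⟨a, A₁, inferInstance, inferInstance, inferInstance, B, inferInstance, inferInstance, inferInstance, ha0,
    inferInstance, inferInstance, inferInstance,
    SmoothLib.etale_adjoinRoot_of_separable g hgm hsep, fun P => ?_, ?_⟩
  · rw [Module.rankAtStalk_eq_finrank_of_free, Pi.natCast_apply, pb.finrank, AdjoinRoot.powerBasis'_dim, hgdeg,
      ← IntermediateField.adjoin.finrank hαi, hα, IntermediateField.finrank_top']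
    rfl
  · refine RingHom.ext fun x => ?_
    show φ (AdjoinRoot.of g (algebraMap A A₁ x)) = _
    rw [AdjoinRoot.lift_of]
    show (algebraMap K L) (algebraMap A₁ K (algebraMap A A₁ x)) = _
    rw [← IsScalarTower.algebraMap_apply A A₁ K]
    rfl

end Groth.Agent.CdDev9
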