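import Groth.Agent.GalEt.GmGeneric
import Groth.Agent.GalEt.CdPrimary
import Groth.Agent.EtStalkLib.StalkRpush
import Groth.Agent.HenselLib.HullWEt
import Groth.Agent.HenselLib.HullProps
import Groth.Agent.HenselLib.WEtFibre
import Groth.Agent.HenselLib.LocalHens
import Groth.Agent.CycLib28.SecOrd
import Groth.Prelude.Def_Dix

/-!
The supports of the higher direct images from a point: fibres of strict henselizations over points.
-/

set_option autoImplicit false
set_option linter.all false
set_option backward.isDefEq.respectTransparency.types false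
set_option backward.isDefEq.respectTransparency false
set_option backward.defeqAttrib.useBackward true
set_option synthInstance.maxHeartbeats 400000
set_option maxHeartbeats 1000000

universe u

open CategoryTheory CategoryTheory.Limits CategoryTheory.Abelian AlgebraicGeometry Opposite
open Groth.Agent.Et18 Groth.Agent.Et18.CdField

noncomputable section

namespace Groth.Agent.CdDev9

theorem weaklyEtale_strict (A R : Type u) [CommRing A] [IsLocalRing A] [CommRing R] [IsLocalRing R]
    [Algebra A R] [IsLocalHom (algebraMap A R)] [Hensel.IsStrictHenselization A R] : Algebra.WeaklyEtale A R := by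
  obtain ⟨e⟩ := HenselLib.exists_equiv_localSH (R := A) R
  exact HenselLib.weaklyEtale_of_equiv e

theorem isNoetherianRing_strict (A R : Type u) [CommRing A] [IsLocalRing A] [IsNoetherianRing A] [CommRing R]
    [IsLocalRing R] [Algebra A R] [IsLocalHom (algebraMap A R)] [Hensel.IsStrictHenselization A R] :
    IsNoetherianRing R := by
  obtain ⟨e⟩ := HenselLib.exists_equiv_localSH (R := A) R
  haveI := HenselLib.isNoetherianRing_localSH (R := A)
  exact isNoetherianRing_of_ringEquiv _ e.toRingEquiv

theorem cdL_of_cohDim {X : Scheme.{u}} {ℓ d : ℕ} (hℓ : ℓ.Prime) (h : Dix.CohDimLEAt X ℓ d) : CdL X {ℓ} d :=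
  fun F hF q hq => h F ((isLTorsion_iff hℓ F).2 hF) q hq

/-- The hypothesis of the dévissage on the strict localizations. -/
def Strict (X : Scheme.{u}) (ℓ : ℕ) (φ : X → ℕ) : Prop :=
  ∀ (x y : X) (hxy : x ⤳ y), x ≠ y →
    ∀ (R : Type u) [CommRing R] [IsLocalRing R] [Algebra (X.presheaf.stalk y) R]
      [IsLocalHom (algebraMap (X.presheaf.stalk y) R)] [Hensel.IsStrictHenselization (X.presheaf.stalk y) R],
      ∀ P ∈ ((RingHom.ker (Cyc.specMap y x hxy)).map (algebraMap (X.presheaf.stalk y) R)).minimalPrimes,
        ∃ d : ℕ, d + 1 + φ y ≤ φ x ∧ Dix.CohDimLEAt (Spec (CommRingCat.of (FractionRing (R ⧸ P)))) ℓ d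

variable {X : Scheme.{u}} {ℓ : ℕ} {φ : X → ℕ}

theorem lt_of_specializes (h2 : Strict X ℓ φ) {x y : X} (hxy : x ⤳ y) (hne : x ≠ y) : φ y < φ x := by
  let A := X.presheaf.stalk y
  let R := HenselLib.LocalSH A
  haveI := HenselLib.isStrictHenselization_localSH (R := A)
  have hp : (RingHom.ker (Cyc.specMap y x hxy)).map (algebraMap A R) ≠ ⊤ := fun h => by
    refine (IsLocalRing.maximalIdeal.isMaximal R).ne_top (top_le_iff.1 (h ▸ ?_))
    refine (Ideal.map_mono (IsLocalRing.le_maximalIdeal (RingHom.ker_ne_top _))).trans ?_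
    exact ((IsLocalRing.local_hom_TFAE (algebraMap A R)).out 0 2).mp (inferInstance : IsLocalHom (algebraMap A R))
  obtain ⟨P, hP⟩ := Ideal.nonempty_minimalPrimes hp
  obtain ⟨d, hd, -⟩ := h2 x y hxy hne R P hP
  omega

variable [AlgebraicGeometry.IsNoetherian X]

theorem cdL_fraction (hℓ : ℓ.Prime) (h2 : Strict X ℓ φ) (η : X) (y : X) (R : Type u) [CommRing R] [IsLocalRing R]
    [Algebra (X.presheaf.stalk y) R] [IsLocalHom (algebraMap (X.presheaf.stalk y) R)]
    [Hensel.IsStrictHenselization (X.presheaf.stalk y) R] (t : ℕ) (hy : φ η ≤ φ y + (t + 1))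
    (Q : PrimeSpectrum R) (hQ : Hens2.specOf X y R Q = η) :
    CdL (Spec (CommRingCat.of Q.asIdeal.ResidueField)) {ℓ} t := by
  let A := X.presheaf.stalk y
  haveI := weaklyEtale_strict A R
  let p : PrimeSpectrum A := PrimeSpectrum.comap (algebraMap A R) Q
  have hp : X.fromSpecStalk y p = η := hQ
  have hpy : X.fromSpecStalk y p ⤳ y := by
    have h := (PrimeSpectrum.le_iff_specializes p (IsLocalRing.closedPoint A)).1
      (IsLocalRing.le_maximalIdeal p.2.ne_top)
    have h' := h.map (X.fromSpecStalk y).continuous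
    rwa [Scheme.fromSpecStalk_closedPoint] at h'
  by_cases hne : η = y
  · have hpm : p = IsLocalRing.closedPoint A :=
      (X.fromSpecStalk y).isEmbedding.injective (hp.trans (hne.trans Scheme.fromSpecStalk_closedPoint.symm))
    have hQm : Q.asIdeal = IsLocalRing.maximalIdeal R := by
      refine HenselLib.WEt.eq_of_le_of_comap_eq (A := A) (IsLocalRing.le_maximalIdeal Q.2.ne_top) ?_
      have hcm : (IsLocalRing.maximalIdeal R).comap (algebraMap A R) = IsLocalRing.maximalIdeal A :=
        ((IsLocalRing.local_hom_TFAE (algebraMap A R)).out 0 4).mp (inferInstance : IsLocalHom (algebraMap A R))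
      exact (congrArg PrimeSpectrum.asIdeal hpm).trans hcm.symm
    haveI := (‹Hensel.IsStrictHenselization (X.presheaf.stalk y) R›).isSepClosure.sep_closed
    intro F _ q hq
    haveI : Q.asIdeal.IsMaximal := hQm ▸ IsLocalRing.maximalIdeal.isMaximal R
    let e : IsLocalRing.ResidueField R ≃+* Q.asIdeal.ResidueField :=
      (Ideal.quotEquivOfEq hQm.symm).trans
        (RingEquiv.ofBijective _ Q.asIdeal.bijective_algebraMap_quotient_residueField)
    haveI : IsSepClosed Q.asIdeal.ResidueField :=
      IsSepClosed.of_exists_root _ fun f hfm hfi hfs => by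
        obtain ⟨a, ha⟩ := IsSepClosed.exists_root (f.map e.symm.toRingHom)
          (by rw [Polynomial.degree_map]; exact (hfi.degree_pos).ne') (hfs.map)
        exact ⟨e a, by
          have h := congrArg e.toRingHom ha
          rw [← Polynomial.eval₂_at_apply, Polynomial.eval₂_eq_eval_map, Polynomial.map_map] at h
          simpa using h⟩
    exact AlgClosedFunctionField.subsingleton_H Q.asIdeal.ResidueField F q (by omega)
  · subst hp
    have hker : RingHom.ker (Cyc.specMap y (X.fromSpecStalk y p) hpy) = p.asIdeal := CycLib28.ker_specMap p hpy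
    have hmin : Q.asIdeal ∈ ((RingHom.ker (Cyc.specMap y (X.fromSpecStalk y p) hpy)).map (algebraMap A R)).minimalPrimes := by
      rw [hker]
      exact (HenselLib.WEt.mem_minimalPrimes_map_iff p.asIdeal Q.asIdeal).2 ⟨Q.2, rfl⟩
    obtain ⟨d, hd, hcd⟩ := h2 _ y hpy hne R Q.asIdeal hmin
    let e : FractionRing (R ⧸ Q.asIdeal) ≃+* Q.asIdeal.ResidueField :=
      (FractionRing.algEquiv (R ⧸ Q.asIdeal) Q.asIdeal.ResidueField).toRingEquiv
    let f : Spec (CommRingCat.of Q.asIdeal.ResidueField) ⟶ Spec (CommRingCat.of (FractionRing (R ⧸ Q.asIdeal))) :=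
      Spec.map e.toCommRingCatIso.hom
    haveI : IsFinite f := inferInstance
    exact fun F hF q hq => CdL.of_finite f (cdL_of_cohDim hℓ hcd) F hF q (by omega)

theorem isZero_stalk_Rpush_point (hℓ : ℓ.Prime) (h2 : Strict X ℓ φ) (η : X) (G : EtCoh.Ab (Spec (X.residueField η)))
    (hG : EtAcyc.IsLTorsion {ℓ} G) (t : ℕ) (y : X) (hle : φ η ≤ φ y + (t + 1))
    (R : Type u) [CommRing R] [IsLocalRing R] [Algebra (X.presheaf.stalk y) R]
    [IsSepClosed (IsLocalRing.ResidueField R)] [IsLocalHom (algebraMap (X.presheaf.stalk y) R)]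
    [Hensel.IsStrictHenselization (X.presheaf.stalk y) R] :
    IsZero ((EtCoh.stalk (Hens2.geomPt X y R)).obj ((EtCoh.Rpush (X.fromSpecResidueField η) (t + 1)).obj G)) := by
  let i := X.fromSpecResidueField η
  haveI : QuasiCompact i := by
    haveI : QuasiCompact (i ≫ terminal.from X) := inferInstance
    haveI : QuasiSeparated (terminal.from X) := inferInstance
    exact QuasiCompact.of_comp i (terminal.from X)
  let A := X.presheaf.stalk y
  obtain ⟨e⟩ := EtStalkLib.nonempty_stalk_Rpush_iso i y R (t + 1)
  refine IsZero.of_iso ?_ (e.app G)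
  let P := pullback i (Hens2.specOf X y R)
  let g : P ⟶ Spec (CommRingCat.of R) := pullback.snd i (Hens2.specOf X y R)
  haveI : IsPreimmersion g := MorphismProperty.pullback_snd (P := @IsPreimmersion) _ _ inferInstance
  haveI := weaklyEtale_strict A R
  haveI := isNoetherianRing_strict A R
  have hover : ∀ z : P, Hens2.specOf X y R (g z) = η := fun z => by
    refine (congrArg (fun k : P ⟶ X => k z) (pullback.condition (f := i) (g := Hens2.specOf X y R))).symm.trans ?_
    exact Scheme.fromSpecResidueField_apply η _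
  have hcomp : ∀ z : P, ∀ w : P, PrimeSpectrum.comap (algebraMap A R) (g z) = PrimeSpectrum.comap (algebraMap A R) (g w) :=
    fun z w => (X.fromSpecStalk y).isEmbedding.injective ((hover z).trans (hover w).symm)
  have hclosed : ∀ z : P, IsClosed ({z} : Set P) := fun z => by
    refine isClosed_of_closure_subset fun w hw => ?_
    have h := ((specializes_iff_mem_closure.2 hw).map g.continuous)
    refine g.isEmbedding.injective (PrimeSpectrum.ext ?_)
    exact (HenselLib.WEt.eq_of_le_of_comap_eq (A := A) ((PrimeSpectrum.le_iff_specializes _ _).2 h)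
      (congrArg PrimeSpectrum.asIdeal (hcomp z w))).symm
  haveI : Finite P := by
    rcases isEmpty_or_nonempty P with hP | ⟨⟨z₀⟩⟩
    · infer_instance
    let p := (PrimeSpectrum.comap (algebraMap A R) (g z₀)).asIdeal
    haveI := ((p.map (algebraMap A R)).finite_minimalPrimes_of_isNoetherianRing R).to_subtype
    refine Finite.of_injective (β := (p.map (algebraMap A R)).minimalPrimes)
      (fun z => ⟨(g z).asIdeal, (HenselLib.WEt.mem_minimalPrimes_map_iff p _).2
        ⟨(g z).2, congrArg PrimeSpectrum.asIdeal (hcomp z z₀)⟩⟩) fun z w h => ?_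
    exact g.isEmbedding.injective (PrimeSpectrum.ext (congrArg Subtype.val h))
  haveI := Fintype.ofFinite P
  let F := (EtCoh.pull (pullback.fst i (Hens2.specOf X y R))).obj G
  have hF : EtAcyc.IsLTorsion {ℓ} F := isLTorsion_pull' _ hG
  haveI : Subsingleton ((EtCoh.HF P (t + 1)).obj F) :=
    GalEt.subsingleton_H_of_points Finset.univ (fun z _ => hclosed z) F
      (fun z _ => Finset.mem_coe.2 (Finset.mem_univ z)) (t + 1) fun z _ => by
        let f : Spec (P.residueField z) ⟶ Spec (CommRingCat.of (g z).asIdeal.ResidueField) :=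
          Spec.map ((Scheme.Spec.residueFieldIso (CommRingCat.of R) (g z)).inv ≫ g.residueFieldMap z)
        haveI : IsIso (g.residueFieldMap z) := by
          have hs := g.stalkMap_surjective z
          have hr : Function.Surjective (g.residueFieldMap z).hom := fun a => by
            obtain ⟨b, rfl⟩ := P.residue_surjective z a
            obtain ⟨c, rfl⟩ := hs b
            exact ⟨(Spec (CommRingCat.of R)).residue (g z) c,
              congrArg (fun k => k c) (Scheme.residue_residueFieldMap g z)⟩
          exact (ConcreteCategory.isIso_iff_bijective _).2 ⟨(g.residueFieldMap z).hom.injective, hr⟩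
        haveI : IsFinite f := inferInstance
        exact CdL.of_finite f (cdL_fraction hℓ h2 η y R t hle (g z) (hover z)) _
          (isLTorsion_pull' _ hF) (t + 1) (Nat.lt_succ_self t)
  exact @AddCommGrpCat.isZero_of_subsingleton ((EtCoh.HF P (t + 1)).obj F) ‹_›

/-- The support of `R^{t+1}` from a point. -/
theorem supp_Rpush_point (hℓ : ℓ.Prime) (h2 : Strict X ℓ φ) (η : X) (G : EtCoh.Ab (Spec (X.residueField η)))
    (hG : EtAcyc.IsLTorsion {ℓ} G) (t : ℕ) :
    ∀ y ∈ EtPBC.supp ((EtCoh.Rpush (X.fromSpecResidueField η) (t + 1)).obj G), φ y + (t + 1) < φ η := by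
  intro y hy
  by_contra hlt
  haveI := HenselLib.isStrictHenselization_localSH (R := X.presheaf.stalk y)
  haveI : IsSepClosed (IsLocalRing.ResidueField (HenselLib.LocalSH (X.presheaf.stalk y))) :=
    (‹Hensel.IsStrictHenselization (X.presheaf.stalk y) (HenselLib.LocalSH (X.presheaf.stalk y))›).isSepClosure.sep_closed
  exact (mem_supp_iff _ (Hens2.geomPt X y (HenselLib.LocalSH (X.presheaf.stalk y)))
    (EtStalkLib.geomPt_default X y (HenselLib.LocalSH (X.presheaf.stalk y)))).1 hy
    (isZero_stalk_Rpush_point hℓ h2 η G hG t y (by omega) _)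

end Groth.Agent.CdDev9
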