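import Groth.Agent.S3491
import Groth.Agent.CdDev9.TranscStep
import Groth.Agent.DimLib.Morphism
import Groth.Agent.GalEt.TorsionGm

/-!
Cohomological dimension of schemes of finite type over a field: `cd_ℓ(X) ≤ 2 dim X + cd_ℓ(k)`.
-/

set_option autoImplicit false
set_option linter.all false
set_option backward.isDefEq.respectTransparency.types false
set_option backward.isDefEq.respectTransparency false
set_option synthInstance.maxHeartbeats 400000
set_option maxHeartbeats 1000000

universe u

open CategoryTheory CategoryTheory.Limits AlgebraicGeometry Opposite IsLocalRing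
open Groth.Agent.Et18
open scoped TensorProduct

noncomputable section

namespace Groth.Agent.CdDev9.FieldBase

open Groth.Agent.GalEt

/-- Field extensions of bounded transcendence degree. -/
theorem cdKilled_of_trdeg {K L : Type u} [Field K] [Field L] [Algebra K L] {j N e : ℕ}
    (hj : Algebra.trdeg K L = j) (hN : 0 < N) (h : CdKilled (Spec (CommRingCat.of K)) N e) :
    CdKilled (Spec (CommRingCat.of L)) N (e + j) := by
  classical
  obtain ⟨s, hs⟩ := exists_isTranscendenceBasis K L
  haveI : Finite s := Cardinal.lt_aleph0_iff_finite.mp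
    ((hs.cardinalMk_eq_trdeg.trans hj) ▸ Cardinal.natCast_lt_aleph0)
  haveI : Fintype s := Fintype.ofFinite s
  let F := IntermediateField.adjoin K (s : Set L)
  haveI : Algebra.IsAlgebraic F L := by
    have := hs.isAlgebraic_field
    rwa [Subtype.range_coe_subtype] at this
  let g : Finset F := (Finset.univ : Finset s).image fun a => ⟨a.1, IntermediateField.subset_adjoin K _ a.2⟩
  have hg : IntermediateField.adjoin K (g : Set F) = ⊤ := by
    apply IntermediateField.lift_injective
    rw [IntermediateField.lift_adjoin, IntermediateField.lift_top]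
    congr 1
    ext z
    simp [g]
    exact fun hz => IntermediateField.subset_adjoin K _ hz
  obtain ⟨t', ht', h'⟩ := Transc.exists_trdeg_cdKilled hN g.card K F g le_rfl hg e h
  have hadd : Algebra.trdeg K L = Algebra.trdeg K F := by
    rw [← trdeg_add_eq K F (A := L), trdeg_eq_zero (R := F) (A := L), add_zero]
  obtain rfl : t' = j := Nat.cast_injective (R := Cardinal.{u}) ((ht'.symm.trans hadd.symm).trans hj)
  let π : Spec (CommRingCat.of L) ⟶ Spec (CommRingCat.of F) := H8Lim.algSpec F L
  haveI : IsIntegralHom π := IsIntegralHom.SpecMap_iff.2 (algebraMap_isIntegral_iff.2 inferInstance)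
  exact h'.of_finite π

/-- A separably closed field has cohomological dimension zero. -/
theorem cdKilled_sepClosed (E : Type u) [Field E] [IsSepClosed E] (N : ℕ) :
    CdKilled (Spec (CommRingCat.of E)) N 0 := fun F _ q hq =>
  AlgClosedFunctionField.subsingleton_H E F q (by omega)

/-- Lifting a separable extension of a lifted field. -/
theorem exists_lift_over {K A F E : Type u} [Field K] [CommRing A] [HenselianLocalRing A] [Algebra K A]
    [Field F] [Field E] [Algebra F E] [Algebra.IsSeparable F E] [Algebra K F] [Algebra K E] [IsScalarTower K F E]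
    (ψ : F →ₐ[K] A) (ι : E →+* ResidueField A) (h : ∀ r, residue A (ψ r) = ι (algebraMap F E r)) :
    Nonempty (E →ₐ[K] A) := by
  letI : Algebra F A := ψ.toRingHom.toAlgebra
  obtain ⟨g, -⟩ := HenselLib.FieldLift.exists_lift_separable A F E
    (AlgHom.mk ι fun r => (h r).symm)
  refine ⟨{ g.toRingHom with commutes' := fun r => ?_ }⟩
  show g (algebraMap K E r) = algebraMap K A r
  rw [IsScalarTower.algebraMap_apply K F E, g.commutes]
  exact ψ.commutes r

/-- Strictly henselian rings over a field contain large separably closed fields. -/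
theorem exists_sepClosed_subfield (K A : Type u) [Field K] [CommRing A] [HenselianLocalRing A] [Algebra K A]
    [IsSepClosed (ResidueField A)] {b : Cardinal.{u}} (hb : Algebra.trdeg K (ResidueField A) = b) :
    ∃ (E : Type u) (_ : Field E) (_ : IsSepClosed E) (_ : Algebra K E) (g : E →ₐ[K] A),
      b ≤ Algebra.trdeg K E := by
  obtain ⟨s, hs⟩ := exists_isTranscendenceBasis K (ResidueField A)
  let y : s → ResidueField A := Subtype.val
  obtain ⟨ψ, hψ⟩ := HenselLib.FieldLift.exists_lift_adjoin K A y hs.1
  let F := IntermediateField.adjoin K (Set.range y)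
  let E := separableClosure F (ResidueField A)
  haveI : IsSepClosed E := Et18.SHClosed.isSepClosed_separableClosure F (ResidueField A)
  have hmem : ∀ i : s, y i ∈ IntermediateField.adjoin K (Set.range y) := fun i =>
    IntermediateField.subset_adjoin K _ ⟨i, rfl⟩
  have hle : b ≤ Algebra.trdeg K E := by
    rw [← hb, ← hs.cardinalMk_eq_trdeg]
    let z : s → E := fun i => algebraMap F E ⟨y i, hmem i⟩
    exact AlgebraicIndependent.cardinalMk_le_trdeg
      (AlgebraicIndependent.of_comp (x := z) ((E.val).restrictScalars K) hs.1)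
  obtain ⟨g⟩ := exists_lift_over ψ E.val.toRingHom hψ
  exact ⟨E, inferInstance, inferInstance, inferInstance, g, hle⟩

/-- Residue fields of weakly etale algebras are algebraic. -/
theorem isAlgebraic_residueField {A B : Type u} [CommRing A] [CommRing B] [Algebra A B] [Algebra.WeaklyEtale A B]
    (p : Ideal A) [p.IsPrime] (P : Ideal B) [P.IsPrime] [P.LiesOver p] :
    letI : Algebra (Localization.AtPrime p) (Localization.AtPrime P) := Localization.AtPrime.algebraOfLiesOver p P
    Algebra.IsAlgebraic p.ResidueField P.ResidueField := by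
  letI : Algebra (Localization.AtPrime p) (Localization.AtPrime P) := Localization.AtPrime.algebraOfLiesOver p P
  haveI : Algebra.IsIntegral p.ResidueField (p.ResidueField ⊗[A] B) := HenselLib.WEt.isIntegral_of_weaklyEtale
  let χ : p.ResidueField ⊗[A] B →ₐ[p.ResidueField] P.ResidueField :=
    Algebra.TensorProduct.lift (Algebra.ofId p.ResidueField P.ResidueField)
      (IsScalarTower.toAlgHom A B P.ResidueField) fun _ _ => Commute.all _ _
  have key : ∀ b : B, IsIntegral p.ResidueField (algebraMap B P.ResidueField b) := fun b => by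
    have h := (Algebra.IsIntegral.isIntegral (R := p.ResidueField) ((1 : p.ResidueField) ⊗ₜ[A] b)).map χ
    have e : χ ((1 : p.ResidueField) ⊗ₜ[A] b) = algebraMap B P.ResidueField b := by
      rw [Algebra.TensorProduct.lift_tmul, map_one, one_mul]
      rfl
    exact e ▸ h
  refine ⟨fun z => IsIntegral.isAlgebraic ?_⟩
  obtain ⟨c, d, -, rfl⟩ := IsFractionRing.div_surjective (B ⧸ P) z
  obtain ⟨c, rfl⟩ := Ideal.Quotient.mk_surjective c
  obtain ⟨d, rfl⟩ := Ideal.Quotient.mk_surjective d
  rw [Ideal.algebraMap_quotient_residueField_mk, Ideal.algebraMap_quotient_residueField_mk, div_eq_mul_inv]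
  exact (key c).mul (key d).inv

variable {k : Type u} [Field k] {X : Scheme.{u}} (f : X ⟶ Spec (CommRingCat.of k)) [LocallyOfFiniteType f]

/-- The transcendence degree of a field isomorphic to a residue field. -/
theorem trdeg_eq_ptDim (x : X) (M : Type u) [Field M] [Algebra k M] (e : X.residueField x ≃+* M)
    (he : (e : X.residueField x →+* M).comp (DimLib.baseRingHom f x) = algebraMap k M) :
    Algebra.trdeg k M = (DimLib.ptDim f x : ℕ) := by
  letI : Algebra k (X.residueField x) := (DimLib.baseRingHom f x).toAlgebra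
  let e' : X.residueField x ≃ₐ[k] M := AlgEquiv.ofRingEquiv (f := e) fun r => congr($he r)
  have h1 : Algebra.trdeg k (X.residueField x) < Cardinal.aleph0 := DimLib.trdeg_baseRingHom_lt f x
  rw [← e'.trdeg_eq, ← Cardinal.cast_toNat_of_lt_aleph0 h1]
  exact congrArg Nat.cast (DimLib.trdegHom_algebraMap k (X.residueField x)).symm

theorem trdeg_residueField (x : X) :
    @Algebra.trdeg k (X.residueField x) _ _ (DimLib.baseRingHom f x).toAlgebra = (DimLib.ptDim f x : ℕ) :=
  letI : Algebra k (X.residueField x) := (DimLib.baseRingHom f x).toAlgebra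
  trdeg_eq_ptDim f x (X.residueField x) (RingEquiv.refl _) rfl

/-- The fields of rational functions of strict localizations of subvarieties. -/
theorem cohDim_fraction {ℓ : ℕ} (hℓ : ℓ.Prime) (x y : X) (hxy : x ⤳ y) (R : Type u) [CommRing R] [IsLocalRing R]
    [Algebra (X.presheaf.stalk y) R] [IsLocalHom (algebraMap (X.presheaf.stalk y) R)]
    [Hensel.IsStrictHenselization (X.presheaf.stalk y) R] (P : Ideal R)
    (hP : P ∈ ((RingHom.ker (Cyc.specMap y x hxy)).map (algebraMap (X.presheaf.stalk y) R)).minimalPrimes) :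
    ∃ d : ℕ, d + DimLib.ptDim f y ≤ DimLib.ptDim f x ∧
      Dix.CohDimLEAt (Spec (CommRingCat.of (FractionRing (R ⧸ P)))) ℓ d := by
  let A := X.presheaf.stalk y
  haveI := weaklyEtale_strict A R
  have hR := ‹Hensel.IsStrictHenselization (X.presheaf.stalk y) R›
  haveI := hR.henselian
  haveI := hR.isSepClosure
  haveI : IsSepClosed (ResidueField R) := IsSepClosure.sep_closed (ResidueField A)
  haveI : Algebra.IsSeparable (ResidueField A) (ResidueField R) := IsSepClosure.separable
  let ψ : k →+* A := (Spec.preimage (X.fromSpecStalk y ≫ f)).hom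
  have hψ : Spec.map (CommRingCat.ofHom ψ) = X.fromSpecStalk y ≫ f := Spec.map_preimage _
  letI : Algebra k A := ψ.toAlgebra
  letI : Algebra k R := ((algebraMap A R).comp ψ).toAlgebra
  haveI : IsScalarTower k A R := IsScalarTower.of_algebraMap_eq' rfl
  haveI : IsScalarTower k (ResidueField A) (ResidueField R) := IsScalarTower.of_algebraMap_eq fun _ => rfl
  have hy : (DimLib.baseRingHom f y) = algebraMap k (ResidueField A) := by
    have h : CommRingCat.ofHom (DimLib.baseRingHom f y) = CommRingCat.ofHom ψ ≫ X.residue y := by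
      apply Spec.map_injective
      rw [Spec.map_comp, DimLib.specMap_baseRingHom, hψ]
      rfl
    exact congrArg CommRingCat.Hom.hom h
  have hb : Algebra.trdeg k (ResidueField R) = (DimLib.ptDim f y : ℕ) := by
    rw [← trdeg_add_eq k (ResidueField A) (A := ResidueField R), trdeg_eq_zero (R := ResidueField A) (A := ResidueField R),
      add_zero]
    exact trdeg_eq_ptDim f y (ResidueField A) (RingEquiv.refl _) hy
  obtain ⟨E, _, _, _, g, hg⟩ := exists_sepClosed_subfield k R hb
  obtain ⟨p₀, rfl⟩ : ∃ p₀ : Spec A, X.fromSpecStalk y p₀ = x := by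
    have h : x ∈ Set.range (X.fromSpecStalk y) := by
      rw [Scheme.range_fromSpecStalk]
      exact hxy
    exact h
  rw [CycLib28.ker_specMap p₀ hxy] at hP
  obtain ⟨hPp, hPc⟩ := (HenselLib.WEt.mem_minimalPrimes_map_iff _ _).1 hP
  haveI := hPp
  haveI : P.LiesOver p₀.asIdeal := ⟨hPc.symm⟩
  letI : Algebra (Localization.AtPrime p₀.asIdeal) (Localization.AtPrime P) :=
    Localization.AtPrime.algebraOfLiesOver p₀.asIdeal P
  haveI := isAlgebraic_residueField p₀.asIdeal P
  have hpt : Algebra.trdeg k p₀.asIdeal.ResidueField = (DimLib.ptDim f (X.fromSpecStalk y p₀) : ℕ) := by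
    let g₀ := X.fromSpecStalk y
    haveI : IsIso (g₀.residueFieldMap p₀) := by
      have hs := g₀.stalkMap_surjective p₀
      have hr : Function.Surjective (g₀.residueFieldMap p₀).hom := fun a => by
        obtain ⟨b, rfl⟩ := (Spec A).residue_surjective p₀ a
        obtain ⟨c, rfl⟩ := hs b
        exact ⟨X.residue (g₀ p₀) c, congrArg (fun k => k c) (Scheme.residue_residueFieldMap g₀ p₀)⟩
      exact (ConcreteCategory.isIso_iff_bijective _).2 ⟨(g₀.residueFieldMap p₀).hom.injective, hr⟩
    let e := (asIso (g₀.residueFieldMap p₀) ≪≫ Scheme.Spec.residueFieldIso A p₀).commRingCatIsoToRingEquiv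
    refine trdeg_eq_ptDim f _ p₀.asIdeal.ResidueField e ?_
    have h : CommRingCat.ofHom (DimLib.baseRingHom (g₀ ≫ f) p₀) =
        CommRingCat.ofHom ψ ≫ CommRingCat.ofHom (algebraMap A p₀.asIdeal.ResidueField) ≫
          (Scheme.Spec.residueFieldIso A p₀).inv := by
      apply Spec.map_injective
      rw [Spec.map_comp, Spec.map_comp, DimLib.specMap_baseRingHom,
        Scheme.Spec.map_residueFieldIso_inv_eq_fromSpecResidueField, hψ]
    have h' : CommRingCat.ofHom (DimLib.baseRingHom (g₀ ≫ f) p₀) ≫ (Scheme.Spec.residueFieldIso A p₀).hom =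
        CommRingCat.ofHom ψ ≫ CommRingCat.ofHom (algebraMap A p₀.asIdeal.ResidueField) := by
      rw [h, Category.assoc, Category.assoc, Iso.inv_hom_id, Category.comp_id]
    rw [DimLib.baseRingHom_comp] at h'
    exact congrArg CommRingCat.Hom.hom h'
  let M := P.ResidueField
  have hM : Algebra.trdeg k M = (DimLib.ptDim f (X.fromSpecStalk y p₀) : ℕ) := by
    haveI : IsScalarTower k p₀.asIdeal.ResidueField M := IsScalarTower.of_algebraMap_eq fun r => by
      rw [IsScalarTower.algebraMap_apply k A p₀.asIdeal.ResidueField, ← IsScalarTower.algebraMap_apply A _ M,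
        IsScalarTower.algebraMap_apply A R M, IsScalarTower.algebraMap_apply k R M,
        IsScalarTower.algebraMap_apply k A R]
    rw [← hpt, ← trdeg_add_eq k p₀.asIdeal.ResidueField (A := M),
      trdeg_eq_zero (R := p₀.asIdeal.ResidueField) (A := M), add_zero]
  letI : Algebra E M := ((algebraMap R M).comp g.toRingHom).toAlgebra
  haveI : IsScalarTower k E M := IsScalarTower.of_algebraMap_eq fun r => by
    show algebraMap k M r = algebraMap R M (g (algebraMap k E r))
    rw [g.commutes, ← IsScalarTower.algebraMap_apply]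
  have hadd := trdeg_add_eq k E (A := M)
  rw [hM] at hadd
  obtain ⟨i, hi⟩ := Cardinal.lt_aleph0.1 (lt_of_le_of_lt (self_le_add_right _ _)
    (hadd ▸ Cardinal.natCast_lt_aleph0 (n := DimLib.ptDim f (X.fromSpecStalk y p₀))))
  obtain ⟨j, hj⟩ := Cardinal.lt_aleph0.1 (lt_of_le_of_lt (self_le_add_left _ _)
    (hadd ▸ Cardinal.natCast_lt_aleph0 (n := DimLib.ptDim f (X.fromSpecStalk y p₀))))
  rw [hi, hj, ← Nat.cast_add, Nat.cast_inj] at hadd
  rw [hi, Nat.cast_le] at hg
  refine ⟨j, by omega, Transc.cohDimLEAt_of_cdKilled hℓ fun m hm => ?_⟩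
  have hc := cdKilled_of_trdeg hj hm.1 (cdKilled_sepClosed E m)
  rw [Nat.zero_add] at hc
  let ε : FractionRing (R ⧸ P) ≃+* M := (FractionRing.algEquiv (R ⧸ P) M).toRingEquiv
  let π : Spec (CommRingCat.of (FractionRing (R ⧸ P))) ⟶ Spec (CommRingCat.of M) :=
    Spec.map ε.toCommRingCatIso.inv
  haveI : IsFinite π := inferInstance
  exact hc.of_finite π

/-- `cd_ℓ(X) ≤ 2 dim X + cd_ℓ(k)`. -/
theorem cohDimLEAt [QuasiCompact f] {ℓ : ℕ} (hℓ : ℓ.Prime) {e : ℕ}
    (he : Dix.CohDimLEAt (Spec (CommRingCat.of k)) ℓ e) {n : ℕ} (hn : ∀ x : X, DimLib.ptDim f x ≤ n) :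
    Dix.CohDimLEAt X ℓ (2 * n + e) := by
  haveI : IsLocallyNoetherian X := LocallyOfFiniteType.isLocallyNoetherian f
  haveI : CompactSpace X := QuasiCompact.compactSpace_of_compactSpace f
  haveI : AlgebraicGeometry.IsNoetherian X := { }
  intro F hF q hq
  refine S3491.result X ℓ hℓ (fun x => 2 * DimLib.ptDim f x + e) (fun x => ?_) ?_ F hF q fun x _ => ?_
  · refine Transc.cohDimLEAt_of_cdKilled hℓ fun m hm G hG r hr => ?_
    letI : Algebra k (X.residueField x) := (DimLib.baseRingHom f x).toAlgebra
    exact cdKilled_of_trdeg (trdeg_residueField f x) hm.1 (Transc.cdKilled_of_cohDimLEAt he hm) G hG r (by omega)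
  · intro x y hxy hne R _ _ _ _ _ P hP
    obtain ⟨d, hd, hcd⟩ := cohDim_fraction f hℓ x y hxy R P hP
    have := DimLib.ptDim_lt_of_specializes f hxy hne
    exact ⟨d, by omega, hcd⟩
  · have := hn x
    omega

include f in
/-- Transcendence degrees of points are bounded. -/
theorem exists_bound [QuasiCompact f] : ∃ n : ℕ, ∀ x : X, DimLib.ptDim f x ≤ n := by
  haveI : IsLocallyNoetherian X := LocallyOfFiniteType.isLocallyNoetherian f
  haveI : CompactSpace X := QuasiCompact.compactSpace_of_compactSpace f
  haveI : AlgebraicGeometry.IsNoetherian X := { }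
  refine ⟨(GalEt.finite_maxPoints (X := X)).toFinset.sup (DimLib.ptDim f), fun x => ?_⟩
  let C := irreducibleComponent x
  obtain ⟨η, hη⟩ := QuasiSober.sober (isIrreducible_irreducibleComponent (x := x)) isClosed_irreducibleComponent
  have hmax : η ∈ GalEt.maxPoints X := fun z hz => by
    have h1 : C ⊆ closure {z} := by
      rw [show C = closure {η} from hη.def.symm]
      exact specializes_iff_closure_subset.1 hz
    have h2 : closure {z} = C := eq_irreducibleComponent isIrreducible_singleton.closure.2 h1
    exact ((inseparable_iff_closure_eq.2 (h2.trans hη.def.symm)) : Inseparable z η).eq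
  have hle : DimLib.ptDim f x ≤ DimLib.ptDim f η := by
    rcases eq_or_ne η x with rfl | hne
    · exact le_rfl
    · exact (DimLib.ptDim_lt_of_specializes f (hη.specializes mem_irreducibleComponent) hne).le
  exact hle.trans (Finset.le_sup ((Set.Finite.mem_toFinset _).2 hmax))

end Groth.Agent.CdDev9.FieldBase
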