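import Groth.Agent.CdDev9.Push
import Groth.Agent.CdCurve24.Basic
import Groth.Agent.Et18.FiniteEtaleTrace
import Groth.Agent.Et18.FiniteEtaleCoprime
import Groth.Agent.Et18.ExtZeroGeneral
import Groth.Agent.Et18.Recollement

/-!
The method of the trace for a generically finite étale finite cover of degree prime to the torsion.
-/

set_option autoImplicit false
set_option linter.all false
set_option backward.isDefEq.respectTransparency.types false
set_option backward.isDefEq.respectTransparency false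
set_option backward.defeqAttrib.useBackward true
set_option synthInstance.maxHeartbeats 400000
set_option maxHeartbeats 1000000

universe u

open CategoryTheory CategoryTheory.Limits CategoryTheory.Abelian AlgebraicGeometry Opposite
open Groth.Agent.Et18 Groth.Agent.Et18.CdField

noncomputable section

namespace Groth.Agent.CdDev9

open Groth.Agent.CdCurve24

/-- `j_! j^*` and the identity differ by a sheaf away from the open. -/
theorem open_recollement_vanish {Z U : Scheme.{u}} (u₀ : U ⟶ Z) [IsOpenImmersion u₀] [EtShriek.JCont u₀] {L : Set ℕ}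
    (G : EtCoh.Ab Z) (hG : EtAcyc.IsLTorsion L G) (q : ℕ) :
    ((∀ G' : EtCoh.Ab Z, EtAcyc.IsLTorsion L G' → EtPBC.supp G' ⊆ (Set.range u₀)ᶜ →
        Subsingleton (EtCoh.H Z G' q)) →
      Subsingleton (EtCoh.H Z ((EtShriek.extZero u₀).obj ((EtShriek.restrAlong u₀).obj G)) q) →
      Subsingleton (EtCoh.H Z G q)) ∧
    ((∀ G' : EtCoh.Ab Z, EtAcyc.IsLTorsion L G' → EtPBC.supp G' ⊆ (Set.range u₀)ᶜ →
        Subsingleton (EtCoh.H Z G' q)) →
      Subsingleton (EtCoh.H Z G (q + 1)) →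
      Subsingleton (EtCoh.H Z ((EtShriek.extZero u₀).obj ((EtShriek.restrAlong u₀).obj G)) (q + 1))) ∧
    EtAcyc.IsLTorsion L ((EtShriek.extZero u₀).obj ((EtShriek.restrAlong u₀).obj G)) := by
  let I := Scheme.IdealSheafData.vanishingIdeal
    (⟨(Set.range u₀)ᶜ, u₀.isOpenEmbedding.isOpen_range.isClosed_compl⟩ : TopologicalSpace.Closeds Z)
  have hZU : Set.range u₀ = (Set.range I.subschemeι)ᶜ := by
    rw [I.range_subschemeι]
    exact (compl_compl _).symm
  obtain ⟨w, hS⟩ := shortExact_recollement (i := I.subschemeι) hZU G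
  haveI := hS.epi_g
  haveI := hS.mono_f
  have h3 : EtAcyc.IsLTorsion L ((EtCoh.push I.subschemeι).obj ((EtCoh.pull I.subschemeι).obj G)) :=
    Et18.isLTorsion_of_epi _ (ShortComplex.mk _ _ w).g hG
  have hs := ClosedPointSupport.supp_subset_of_isZero_pull u₀
    (isZero_pull_push_compl hZU ((EtCoh.pull I.subschemeι).obj G))
  exact ⟨fun hlow h => CdField.subsingleton_of_shortExact hS h (hlow _ h3 hs),
    fun hlow h => subsingleton_left hS (hlow _ h3 hs) h, isLTorsion_of_mono (ShortComplex.mk _ _ w).f hG⟩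

theorem nonempty_model_iso {Z Z' U U' : Scheme.{u}} (u₀ : U ⟶ Z) [IsOpenImmersion u₀] [EtShriek.JCont u₀]
    (f : U' ⟶ U) [IsFinite f] [Etale f] [EtShriek.JCont f] (j' : U' ⟶ Z') [IsOpenImmersion j'] [EtShriek.JCont j']
    (π : Z' ⟶ Z) [IsFinite π] (e : j' ≫ π = f ≫ u₀) (G : EtCoh.Ab Z) :
    Nonempty ((EtShriek.extZero u₀).obj ((EtCoh.push f).obj ((EtCoh.pull f).obj ((EtShriek.restrAlong u₀).obj G))) ≅
      (EtCoh.push π).obj ((EtShriek.extZero j').obj ((EtShriek.restrAlong j').obj ((EtCoh.pull π).obj G)))) := by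
  let w : U' ⟶ Z := f ≫ u₀
  haveI : Etale w := inferInstanceAs (Etale (f ≫ u₀))
  haveI : IsSeparated w := inferInstanceAs (IsSeparated (f ≫ u₀))
  haveI : EtShriek.JCont w := jCont w
  haveI : EtShriek.JCont (f ≫ u₀) := jCont (f ≫ u₀)
  obtain ⟨c⟩ := nonempty_compactification j' π
  let P₁ := (EtCoh.pull f).obj ((EtShriek.restrAlong u₀).obj G)
  let P₂ := (EtShriek.restrAlong j').obj ((EtCoh.pull π).obj G)
  let eP : P₁ ≅ P₂ :=
    (EtCoh.pull f).mapIso ((pullRestrIso u₀).app G).symm ≪≫ ((EtCore.pullComp f u₀).app G).symm ≪≫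
      (EtCore.pullCongr e.symm).app G ≪≫ (EtCore.pullComp j' π).app G ≪≫ (pullRestrIso j').app _
  let E : EtShriek.extZero (f ≫ u₀) ≅ EtShriek.extZero j' ⋙ EtCoh.push π :=
    extZeroShriekIso (f ≫ u₀) ≪≫ eqToIso (by rw [e]) ≪≫ c
  exact ⟨(EtShriek.extZero u₀).mapIso ((extZeroPushIsoOfFinite f).app P₁).symm ≪≫
    (extZeroCompIso f u₀).app P₁ ≪≫ E.app P₁ ≪≫ (EtShriek.extZero j' ⋙ EtCoh.push π).mapIso eP⟩

/-- The method of the trace. -/
theorem vanish_of_trace {Z Z' U U' : Scheme.{u}} (u₀ : U ⟶ Z) [IsOpenImmersion u₀]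
    (f : U' ⟶ U) [IsFinite f] [Etale f] (j' : U' ⟶ Z') [IsOpenImmersion j'] (π : Z' ⟶ Z) [IsFinite π]
    (e : j' ≫ π = f ≫ u₀) (d : ℕ) (hd : ∀ x : U, f.finrank x = d) {ℓ : ℕ} (hℓd : ¬ ℓ ∣ d) (G : EtCoh.Ab Z)
    (hG : EtAcyc.IsLTorsion {ℓ} G) (p : ℕ)
    (hlow : ∀ G' : EtCoh.Ab Z, EtAcyc.IsLTorsion {ℓ} G' → EtPBC.supp G' ⊆ (Set.range u₀)ᶜ →
      Subsingleton (EtCoh.H Z G' (p + 1)))
    (hlow' : ∀ G' : EtCoh.Ab Z', EtAcyc.IsLTorsion {ℓ} G' → EtPBC.supp G' ⊆ (Set.range j')ᶜ →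
      Subsingleton (EtCoh.H Z' G' p))
    (h : Subsingleton (EtCoh.H Z' ((EtCoh.pull π).obj G) (p + 1))) :
    Subsingleton (EtCoh.H Z G (p + 1)) := by
  haveI : EtShriek.JCont u₀ := jCont u₀
  haveI : EtShriek.JCont f := jCont f
  haveI : EtShriek.JCont j' := jCont j'
  refine (open_recollement_vanish u₀ G hG (p + 1)).1 hlow ?_
  let GU := (EtShriek.restrAlong u₀).obj G
  let X₁ := (EtShriek.extZero u₀).obj GU
  have hX₁ : EtAcyc.IsLTorsion {ℓ} X₁ := (open_recollement_vanish u₀ G hG (p + 1)).2.2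
  obtain ⟨i⟩ := nonempty_model_iso u₀ f j' π e G
  have hP : Subsingleton (EtCoh.H Z ((EtShriek.extZero u₀).obj ((EtCoh.push f).obj ((EtCoh.pull f).obj GU))) (p + 1)) := by
    refine subsingleton_H_of_iso i.symm (p + 1) ((CdField.subsingleton_H_push_iff π _ (p + 1)).2 ?_)
    exact (open_recollement_vanish j' ((EtCoh.pull π).obj G) (isLTorsion_pull' π hG) p).2.1 hlow' h
  let a := (EtShriek.extZero u₀).map ((EtCoh.pullPushAdj f).unit.app GU)
  let b := (EtShriek.extZero u₀).map ((pushPullAdj f).counit.app GU)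
  haveI : PreservesColimitsOfSize.{0, 0} (EtShriek.extZero u₀) :=
    (EtShriek.extZeroAdj u₀).leftAdjoint_preservesColimits
  haveI : PreservesFiniteLimits (EtShriek.extZero u₀) := Et18.extZero_preservesFiniteLimits u₀
  haveI : (EtShriek.extZero u₀).Additive := Functor.additive_of_preserves_binary_products _
  have hab : a ≫ b = d • 𝟙 X₁ := by
    rw [← Functor.map_comp, unit_trace f d hd GU,
      Functor.map_nsmul]
    exact congrArg (d • ·) ((EtShriek.extZero u₀).map_id GU)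
  haveI := isIso_nsmul_of_isLTorsion {ℓ} X₁ hX₁ d (fun r hr hrℓ => by
    rw [Set.mem_singleton_iff] at hrℓ
    exact hrℓ ▸ hℓd)
  refine subsingleton_of_forall_eq 0 fun z => ?_
  have h0 : z.comp (Ext.mk₀ a) (add_zero (p + 1)) = 0 := @Subsingleton.elim _ hP _ _
  have h2 := congrArg (fun w => (Ext.comp w (Ext.mk₀ b) (add_zero (p + 1))).comp (Ext.mk₀ (inv (d • 𝟙 X₁))) (add_zero (p + 1))) h0
  simp only [Ext.comp_assoc_of_second_deg_zero, Ext.mk₀_comp_mk₀, Ext.zero_comp] at h2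
  rw [hab, IsIso.hom_inv_id, Ext.comp_mk₀_id] at h2
  exact h2

end Groth.Agent.CdDev9
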