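import Groth.Agent.CdDev9.Unipotent
import Groth.Agent.CdDev9.TraceCover
import Groth.Agent.CdDev9.EtaleModel
import Groth.Agent.LocImm12.ZMT
import Groth.Agent.Et18.ConsColim
import Groth.Agent.Props12.KerReduced
import Groth.Agent.Et18.FinitePushConstr
import Groth.Agent.Coherent.Chow
import Groth.Agent.H8Lim.ProConsLimit
import Groth.Agent.H8ProCons.Global
import Mathlib.AlgebraicGeometry.Morphisms.FlatRank
import Mathlib.AlgebraicGeometry.Morphisms.ClosedImmersion

/-!
Dévissage to `ℤ/ℓ` on integral schemes finite over the base.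
-/

set_option autoImplicit false
set_option linter.all false
set_option backward.isDefEq.respectTransparency.types false
set_option backward.isDefEq.respectTransparency false
set_option backward.defeqAttrib.useBackward true
set_option synthInstance.maxHeartbeats 400000
set_option maxHeartbeats 1000000

universe u

open CategoryTheory CategoryTheory.Limits CategoryTheory.Abelian AlgebraicGeometry Opposite TopologicalSpace
open Groth.Agent.Et18 Groth.Agent.Et18.CdField

noncomputable section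

namespace Groth.Agent.CdDev9

open Groth.Agent.GalEt

/-- The reduced subscheme on an irreducible closed set is integral. -/
theorem isIntegral_vanishing {X : Scheme.{u}} (Z : Closeds X) (hZ : IsIrreducible (Z : Set X)) :
    IsIntegral (Scheme.IdealSheafData.vanishingIdeal Z).subscheme := by
  let I := Scheme.IdealSheafData.vanishingIdeal Z
  haveI : IsReduced I.subscheme := Props12.isReduced_subscheme_vanishingIdeal Z
  have he := I.subschemeι.isEmbedding
  have hrg : Set.range I.subschemeι = (Z : Set X) := by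
    rw [Scheme.IdealSheafData.range_subschemeι, Scheme.IdealSheafData.coe_support_vanishingIdeal]
  have himg : IsIrreducible (I.subschemeι '' Set.univ) := by rw [Set.image_univ, hrg]; exact hZ
  have h1 : IsIrreducible (Set.univ : Set I.subscheme) := by
    refine ⟨(Set.image_nonempty.1 himg.1), fun u v hu hv ⟨p, _, hp⟩ ⟨q, _, hq⟩ => ?_⟩
    obtain ⟨U', hU', rfl⟩ := he.isInducing.isOpen_iff.1 hu
    obtain ⟨V', hV', rfl⟩ := he.isInducing.isOpen_iff.1 hv
    obtain ⟨w, ⟨w', -, rfl⟩, hwU, hwV⟩ := himg.2 U' V' hU' hV' ⟨_, ⟨p, trivial, rfl⟩, hp⟩ ⟨_, ⟨q, trivial, rfl⟩, hq⟩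
    exact ⟨w', trivial, hwU, hwV⟩
  haveI : IrreducibleSpace I.subscheme :=
    { toPreirreducibleSpace := ⟨h1.2⟩, toNonempty := ⟨h1.1.some⟩ }
  exact isIntegral_of_irreducibleSpace_of_isReduced _

/-- The geometric data of a finite extension of the function field. -/
theorem exists_cover {Z : Scheme.{u}} [IsIntegral Z] [IsNoetherian Z] (A : Z.Opens) (hA : IsAffineOpen A)
    [IsDomain Γ(Z, A)] (L : Type u) [Field L] [Algebra (FractionRing Γ(Z, A)) L]
    [FiniteDimensional (FractionRing Γ(Z, A)) L] [Algebra.IsSeparable (FractionRing Γ(Z, A)) L] :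
    ∃ (U U' Z' : Scheme.{u}) (u₀ : U ⟶ Z) (f : U' ⟶ U) (j' : U' ⟶ Z') (π : Z' ⟶ Z)
      (jL : Spec (CommRingCat.of L) ⟶ Z'),
      IsOpenImmersion u₀ ∧ IsFinite f ∧ Etale f ∧ IsOpenImmersion j' ∧ IsFinite π ∧ IsIntegral Z' ∧
      Nonempty U ∧ Nonempty U' ∧ j' ≫ π = f ≫ u₀ ∧
      (∀ x : U, f.finrank x = Module.finrank (FractionRing Γ(Z, A)) L) ∧
      IsPreimmersion jL ∧ (∀ [IsIntegral Z'], Set.range jL = {genericPoint Z'}) ∧
      jL ≫ π = Spec.map (CommRingCat.ofHom (algebraMap (FractionRing Γ(Z, A)) L)) ≫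
        Spec.map (CommRingCat.ofHom (algebraMap Γ(Z, A) (FractionRing Γ(Z, A)))) ≫ hA.fromSpec := by
  obtain ⟨a, A₁, _, _, _, B, _, _, _, ha, _, _, _, _, hrk, hcomm⟩ :=
    exists_etale_model Γ(Z, A) (FractionRing Γ(Z, A)) L
  haveI : IsOpenImmersion (Spec.map (CommRingCat.ofHom (algebraMap Γ(Z, A) A₁))) :=
    IsOpenImmersion.of_isLocalization a
  let U := Spec (CommRingCat.of A₁)
  let U' := Spec (CommRingCat.of B)
  let u₀ : U ⟶ Z := Spec.map (CommRingCat.ofHom (algebraMap Γ(Z, A) A₁)) ≫ hA.fromSpec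
  let f : U' ⟶ U := Spec.map (CommRingCat.ofHom (algebraMap A₁ B))
  haveI : IsOpenImmersion u₀ := inferInstanceAs (IsOpenImmersion (_ ≫ hA.fromSpec))
  haveI : IsFinite f := (IsFinite.SpecMap_iff _).2 (RingHom.finite_algebraMap.2 ‹_›)
  haveI : Etale f := (HasRingHomProperty.Spec_iff (P := @Etale)).2 (RingHom.etale_algebraMap.2 ‹_›)
  haveI : QuasiCompact u₀ := by
    haveI : QuasiCompact (u₀ ≫ terminal.from Z) := by
      rw [terminal.hom_ext (u₀ ≫ terminal.from Z) (terminal.from U)]
      infer_instance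
    haveI : QuasiSeparated (terminal.from Z) := (quasiSeparatedSpace_iff_quasiSeparated _).mp inferInstance
    exact QuasiCompact.of_comp _ (terminal.from Z)
  let w : U' ⟶ Z := f ≫ u₀
  haveI : LocallyQuasiFinite w := inferInstanceAs (LocallyQuasiFinite (f ≫ u₀))
  haveI : LocallyOfFiniteType w := inferInstanceAs (LocallyOfFiniteType (f ≫ u₀))
  haveI : QuasiCompact w := inferInstanceAs (QuasiCompact (f ≫ u₀))
  haveI : IsSeparated w := inferInstanceAs (IsSeparated (f ≫ u₀))
  obtain ⟨T₀, j₀, π₀, hj₀, hqc, hπ₀, e₀⟩ := LocImm12.exists_openImmersion_finite w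
  haveI := hj₀; haveI := hqc; haveI := hπ₀
  let j' := j₀.toImage
  haveI : IsOpenImmersion j' := inferInstanceAs (IsOpenImmersion j₀.toImage)
  let π := j₀.imageι ≫ π₀
  haveI : IsFinite π := inferInstance
  have hjπ : j' ≫ π = w := by
    show j₀.toImage ≫ j₀.imageι ≫ π₀ = w
    rw [Scheme.Hom.toImage_imageι_assoc, e₀]
  haveI : IsIntegral U' := inferInstanceAs (IsIntegral (Spec (CommRingCat.of B)))
  haveI : IrreducibleSpace j₀.image := by
    have h1 : _root_.IsPreirreducible (Set.univ : Set j₀.image) := by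
      rw [← (j₀.toImage.denseRange).closure_range, ← Set.image_univ]
      exact ((IrreducibleSpace.isIrreducible_univ _).2.image j₀.toImage
        j₀.toImage.continuous.continuousOn).closure
    exact { toPreirreducibleSpace := ⟨h1⟩, toNonempty := ⟨j₀.toImage (genericPoint U')⟩ }
  haveI : IsReduced U' := inferInstance
  haveI : IsReduced j₀.image := Coherent.isReduced_image j₀
  haveI : IsIntegral j₀.image := isIntegral_of_irreducibleSpace_of_isReduced _
  let jB : Spec (CommRingCat.of L) ⟶ U' := Spec.map (CommRingCat.ofHom (algebraMap B L))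
  haveI : IsPreimmersion jB := IsPreimmersion.of_isLocalization (nonZeroDivisors B)
  have hrange : Set.range (jB ≫ j') = {genericPoint j₀.image} := by
    have h1 : ∀ x, jB x = genericPoint U' := fun x => by
      rw [AlgebraicGeometry.genericPoint_eq_bot_of_affine]
      refine PrimeSpectrum.ext ?_
      show Ideal.comap (algebraMap B L) x.asIdeal = ⊥
      rw [(Ideal.eq_bot_or_top x.asIdeal).resolve_right x.2.ne_top, ← RingHom.ker_eq_comap_bot,
        (RingHom.injective_iff_ker_eq_bot _).1 (IsFractionRing.injective B L)]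
    have h2 : j' (genericPoint U') = genericPoint j₀.image :=
      genericPoint_eq_of_isOpenImmersion j'
    refine Set.eq_singleton_iff_unique_mem.2 ⟨⟨default, ?_⟩, ?_⟩
    · rw [Scheme.Hom.comp_apply, h1, h2]
    · rintro _ ⟨x, rfl⟩
      rw [Scheme.Hom.comp_apply, h1, h2]
  refine ⟨U, U', j₀.image, u₀, f, j', π, jB ≫ j', inferInstance, inferInstance, inferInstance, inferInstance,
    inferInstance, inferInstance, ?_, inferInstance, hjπ, fun x => ?_, inferInstance, fun {_} => hrange, ?_⟩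
  · exact Nonempty.map f ⟨genericPoint U'⟩
  · haveI : Module.Flat A₁ B := inferInstance
    rw [Scheme.Hom.finrank_SpecMap_algebraMap, hrk]
  · rw [Category.assoc, hjπ]
    show jB ≫ f ≫ Spec.map _ ≫ hA.fromSpec = _
    simp only [jB, f]
    rw [← Spec.map_comp_assoc, ← Spec.map_comp_assoc, ← Spec.map_comp_assoc]
    congr 2
    exact CommRingCat.hom_ext hcomm

variable {X : Scheme.{u}} {ℓ : ℕ} {φ : ∀ (Y : Scheme.{u}), (Y ⟶ X) → ℕ}

/-- Monotonicity of the dimension function. -/
def Mono' (φ : ∀ (Y : Scheme.{u}), (Y ⟶ X) → ℕ) : Prop :=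
  ∀ (Y₁ Y₂ : Scheme.{u}) (g₁ : Y₁ ⟶ X) (g₂ : Y₂ ⟶ X) [IsIntegral Y₁] [IsIntegral Y₂] [IsFinite g₁] [IsFinite g₂]
    (m : Y₁ ⟶ Y₂), m ≫ g₂ = g₁ → φ Y₁ g₁ ≤ φ Y₂ g₂ ∧ (IsClosedImmersion m → ¬ IsIso m → φ Y₁ g₁ < φ Y₂ g₂)

/-- The statement at level `n`. -/
def Claim (ℓ : ℕ) (φ : ∀ (Y : Scheme.{u}), (Y ⟶ X) → ℕ) (n : ℕ) : Prop :=
  ∀ (Y : Scheme.{u}) (g : Y ⟶ X) [IsFinite g] (F : EtCoh.Ab Y), EtAcyc.IsLTorsion {ℓ} F →
    (∀ (Z : Scheme.{u}) (c : Z ⟶ Y) [IsIntegral Z] [IsClosedImmersion c],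
      Set.range c.base ⊆ closure (EtPBC.supp F) → φ Z (c ≫ g) < n) →
    ∀ q, n ≤ q → Subsingleton (EtCoh.H Y F q)

/-- Hypothesis on constant coefficients. -/
def Const (ℓ : ℕ) (φ : ∀ (Y : Scheme.{u}), (Y ⟶ X) → ℕ) : Prop :=
  ∀ (Y : Scheme.{u}) (g : Y ⟶ X) [IsIntegral Y] [IsFinite g] (q : ℕ), φ Y g < q →
    Subsingleton (EtCoh.H Y (EtCoh.const Y (ZMod ℓ)) q)

variable [AlgebraicGeometry.IsNoetherian X]

omit [AlgebraicGeometry.IsNoetherian X] in
theorem low_of_claim (hmono : Mono' φ) {n : ℕ} (ih : Claim ℓ φ n) (Z : Scheme.{u}) (g : Z ⟶ X) [IsIntegral Z]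
    [IsFinite g] (hn : φ Z g ≤ n) : Low Z (genericPoint Z) ℓ n := by
  intro G hG hη q hq
  refine ih Z g G hG (fun Z' c _ _ hc => ?_) q hq
  haveI : IsFinite (c ≫ g) := inferInstance
  refine lt_of_lt_of_le ((hmono Z' Z (c ≫ g) g c rfl).2 inferInstance fun hiso => hη ?_) hn
  obtain ⟨x, hx⟩ := c.surjective (genericPoint Z)
  exact hc ⟨x, hx⟩

theorem integral_case (hℓ : ℓ.Prime) (hmono : Mono' φ) (h2 : Const ℓ φ) {n : ℕ} (ih : Claim ℓ φ n)
    (Z : Scheme.{u}) (g : Z ⟶ X) [IsIntegral Z] [IsFinite g] (hn : φ Z g ≤ n) (G : EtCoh.Ab Z)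
    (hGc : EtPBC.IsConstructible G) (hGt : EtAcyc.IsLTorsion {ℓ} G) (p : ℕ) (hp : n ≤ p) :
    Subsingleton (EtCoh.H Z G (p + 1)) := by
  haveI : Fact ℓ.Prime := ⟨hℓ⟩
  haveI : IsLocallyNoetherian Z := LocallyOfFiniteType.isLocallyNoetherian g
  haveI : CompactSpace Z := QuasiCompact.compactSpace_of_compactSpace g
  haveI : IsNoetherian Z := { }
  obtain ⟨A, hA, hηA, -⟩ := exists_isAffineOpen_mem_and_subset (X := Z) (x := genericPoint Z) (U := ⊤) trivial
  haveI : Nonempty A.toScheme := ⟨⟨genericPoint Z, hηA⟩⟩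
  haveI : Nonempty A := ⟨⟨genericPoint Z, hηA⟩⟩
  haveI : IsDomain Γ(Z, A) := inferInstance
  let K := FractionRing Γ(Z, A)
  let j₀ : Spec (CommRingCat.of K) ⟶ Z := Spec.map (CommRingCat.ofHom (algebraMap Γ(Z, A) K)) ≫ hA.fromSpec
  obtain ⟨M, _, _, _, _, A₀, hA₀, hT⟩ :=
    exists_galois_triv K ((EtCoh.pull j₀).obj G) (isConstructible_pull j₀ hGc)
  haveI := hA₀
  let P : Sylow ℓ (M ≃ₐ[K] M) := default
  let L := IntermediateField.fixedField (P : Subgroup (M ≃ₐ[K] M))
  haveI : Algebra.IsSeparable K L := Algebra.isSeparable_tower_bot_of_isSeparable K L M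
  have hidx : ¬ ℓ ∣ Module.finrank K L := by
    rw [IntermediateField.finrank_eq_fixingSubgroup_index, IntermediateField.fixingSubgroup_fixedField]
    exact P.not_dvd_index
  obtain ⟨a, ha⟩ : ∃ a, Nat.card (M ≃ₐ[L] M) = ℓ ^ a := by
    rw [IsGalois.card_aut_eq_finrank, IntermediateField.finrank_fixedField_eq_card]
    exact IsPGroup.iff_card.1 P.isPGroup'
  obtain ⟨U, U', Z', u₀, f, j', π, jL, hu₀, hf, hfe, hj', hπ, hZ', hU, hU', e, hrk, hjL, hrange, hjπ⟩ :=
    exists_cover A hA L
  haveI := hu₀; haveI := hf; haveI := hfe; haveI := hj'; haveI := hπ; haveI := hZ'; haveI := hjL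
  haveI : IsFinite (π ≫ g) := inferInstance
  haveI : IsLocallyNoetherian Z' := LocallyOfFiniteType.isLocallyNoetherian π
  haveI : CompactSpace Z' := QuasiCompact.compactSpace_of_compactSpace π
  haveI : IsNoetherian Z' := { }
  have hn' : φ Z' (π ≫ g) ≤ n := le_trans (hmono Z' Z (π ≫ g) g π rfl).1 hn
  have hlow := low_of_claim hmono ih Z g hn
  have hlow' := low_of_claim hmono ih Z' (π ≫ g) hn'
  have hsub : ∀ {T : Scheme.{u}} [IsIntegral T] {V : Scheme.{u}} (v : V ⟶ T) [IsOpenImmersion v] [Nonempty V]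
      (G' : EtCoh.Ab T), EtPBC.supp G' ⊆ (Set.range v)ᶜ → genericPoint T ∉ closure (EtPBC.supp G') := by
    intro T _ V v _ _ G' hs hmem
    exact closure_minimal hs v.isOpenEmbedding.isOpen_range.isClosed_compl hmem
      ((genericPoint_spec T).mem_open_set_iff v.isOpenEmbedding.isOpen_range |>.2
        (by simpa using Set.range_nonempty v))
  refine vanish_of_trace u₀ f j' π e _ hrk hidx G hGt p
    (fun G' hG' hs => hlow G' hG' (hsub u₀ G' hs) (p + 1) (by omega))
    (fun G' hG' hs => hlow' G' hG' (hsub j' G' hs) p hp) ?_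
  let G₀ := (EtCoh.pull j₀).obj G
  have e' : mor L M ≫ mor K L = mor K M := by
    rw [mor, mor, mor, ← Spec.map_comp, ← CommRingCat.ofHom_comp, ← IsScalarTower.algebraMap_eq]
  have hT' : Triv (mor L M) ((EtCoh.pull (mor K L)).obj G₀) A₀ :=
    (triv_pull_iff (mor K L) (mor L M) G₀ A₀).mpr (e'.symm ▸ hT)
  let ε : (EtCoh.pull (mor K L)).obj G₀ ≅ (EtCoh.pull jL).obj ((EtCoh.pull π).obj G) :=
    ((EtCore.pullComp (mor K L) j₀).app G).symm ≪≫ (EtCore.pullCongr hjπ.symm).app G ≪≫
      (EtCore.pullComp jL π).app G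
  have hgood := (good_of_triv L M (isLTorsion_pull' _ (isLTorsion_pull' _ hGt)) hT').of_epi L M ε.hom
  exact vanish_of_good (fun x => genericPoint_specializes x) hℓ hlow'
    (fun q hq => h2 Z' (π ≫ g) q (lt_of_le_of_lt hn' hq)) L jL hrange M (IsPGroup.of_card ha)
    ((EtCoh.pull π).obj G) (isConstructible_pull π hGc) (isLTorsion_pull' π hGt) hgood (p + 1) (by omega)

theorem constructible_case (hℓ : ℓ.Prime) (hmono : Mono' φ) (h2 : Const ℓ φ) {n : ℕ} (ih : Claim ℓ φ n)
    (p : ℕ) (hp : n ≤ p) (Y : Scheme.{u}) (g : Y ⟶ X) [IsFinite g] (W : Closeds Y) :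
    ∀ (F : EtCoh.Ab Y), EtPBC.IsConstructible F → EtAcyc.IsLTorsion {ℓ} F → EtPBC.supp F ⊆ W →
      (∀ (Z : Scheme.{u}) (c : Z ⟶ Y) [IsIntegral Z] [IsClosedImmersion c],
        Set.range c.base ⊆ (W : Set Y) → φ Z (c ≫ g) < n + 1) →
      Subsingleton (EtCoh.H Y F (p + 1)) := by
  haveI : IsLocallyNoetherian Y := LocallyOfFiniteType.isLocallyNoetherian g
  haveI : CompactSpace Y := QuasiCompact.compactSpace_of_compactSpace g
  haveI : IsNoetherian Y := { }
  induction W using WellFoundedLT.induction with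
  | ind W ihW =>
  intro F hFc hFt hsupp hW
  rcases (EtPBC.supp F).eq_empty_or_nonempty with h0 | ⟨y₀, hy₀⟩
  · exact Sheaf.subsingleton_H_of_isZero (ClosedPointSupport.isZero_of_supp_empty h0) (p + 1)
  haveI : QuasiSober (W : Set Y) := W.isClosed.isClosedEmbedding_subtypeVal.quasiSober
  let C := irreducibleComponent (⟨y₀, hsupp hy₀⟩ : (W : Set Y))
  have hC : IsIrreducible C := isIrreducible_irreducibleComponent
  obtain ⟨η, hη⟩ := QuasiSober.sober hC isClosed_irreducibleComponent
  let y : Y := η.1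
  have hyW₀ : y ∈ (W : Set Y) := η.2
  have hmax : ∀ x ∈ (W : Set Y), x ⤳ y → x = y := fun x hx hxy => by
    have h : (⟨x, hx⟩ : (W : Set Y)) ⤳ η := (subtype_specializes_iff _ _).2 hxy
    have hsub : C ⊆ closure {(⟨x, hx⟩ : (W : Set Y))} := by
      rw [← hη.def]; exact specializes_iff_closure_subset.1 h
    have he := eq_irreducibleComponent isIrreducible_singleton.closure.2 hsub
    exact congrArg Subtype.val ((hη.def.trans he.symm : closure {η} = closure {(⟨x, hx⟩ : (W : Set Y))})
      |> fun e => (Specializes.antisymm h (specializes_iff_closure_subset.2 e.ge)).eq)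
  let I := Scheme.IdealSheafData.vanishingIdeal (⟨closure {y}, isClosed_closure⟩ : Closeds Y)
  let i := I.subschemeι
  have hr : Set.range i = closure {y} := by
    rw [I.range_subschemeι]; rfl
  haveI : IsIntegral I.subscheme := isIntegral_vanishing _ isIrreducible_singleton.closure
  have hyW : closure {y} ⊆ (W : Set Y) := closure_minimal (Set.singleton_subset_iff.2 hyW₀) W.isClosed
  have hn : φ I.subscheme (i ≫ g) ≤ n := Nat.le_of_lt_succ (hW I.subscheme i (hr ▸ hyW))
  let u := (EtCoh.pullPushAdj i).unit.app F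
  haveI := isIso_counit (bcLiftsEtale_of_isImmersion i)
  haveI : IsIso ((EtCoh.pull i).map u) := isIso_pull_map_unit_of_counit i F
  have hP : EtPBC.IsConstructible ((EtCoh.push i).obj ((EtCoh.pull i).obj F)) :=
    isConstructible_push_closedImmersion i (isConstructible_pull i hFc)
  haveI : Epi u := by
    refine Preadditive.epi_of_isZero_cokernel _ (isZero_of_stalks fun x => by_contra fun hx => ?_)
    have hx' := (mem_supp_iff (cokernel u) (sepPoint Y x) (sepPoint_default Y x)).2 hx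
    by_cases hxi : x ∈ Set.range i
    · exact ClosedPointSupport.supp_subset_of_isZero_pull i
        (IsZero.of_iso (isZero_cokernel_of_epi _) (PreservesCokernel.iso _ u)) hx' hxi
    · refine hx (IsZero.of_epi ((EtCoh.stalk (sepPoint Y x)).map (cokernel.π u)) ?_)
      exact isZero_stalk_push_of_disjoint i _ (sepPoint Y x)
        ⟨(Set.range i)ᶜ, i.isClosedEmbedding.isClosed_range.isOpen_compl⟩
        (by rw [sepPoint_default]; exact hxi) disjoint_compl_left
  have hKc := (isConstructible_kernel_cokernel u hFc hP).1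
  have hKsub : EtPBC.supp (kernel u) ⊆ (W : Set Y) := (ClosedPointSupport.supp_mono (kernel.ι u)).trans hsupp
  have hKy : ∀ x ∈ EtPBC.supp (kernel u), x ∉ Set.range i := fun x hx hxi =>
    ClosedPointSupport.supp_subset_of_isZero_pull i
      (IsZero.of_iso (isZero_kernel_of_mono _) (PreservesKernel.iso _ u)) hx hxi
  let W' : Closeds Y := ⟨closure (EtPBC.supp (kernel u)), isClosed_closure⟩
  have hyW' : y ∉ (W' : Set Y) := fun hmem => by
    have hcons : ProCons.IsProConstructible (EtPBC.supp (kernel u)) := by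
      have := H8ProCons.isProConstructible_sInter (S := {EtPBC.supp (kernel u)})
        (fun s hs => hs ▸ (isLocallyConstructible_supp hKc).isConstructible)
      rwa [Set.sInter_singleton] at this
    obtain ⟨x, hx, hxy⟩ := (H8Lim.mem_closure_iff_exists_specializes hcons).1 hmem
    exact hKy x hx (hr ▸ hmax x (hKsub hx) hxy ▸ subset_closure rfl)
  have hlt : W' < W := lt_of_le_of_ne (closure_minimal hKsub W.isClosed) fun he =>
    hyW' (he ▸ hyW₀)
  have hK : Subsingleton (EtCoh.H Y (kernel u) (p + 1)) :=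
    ihW W' hlt (kernel u) hKc (isLTorsion_of_mono (kernel.ι u) hFt) subset_closure
      fun Z c _ _ hc => hW Z c (hc.trans hlt.le)
  have hI : Subsingleton (EtCoh.H Y ((EtCoh.push i).obj ((EtCoh.pull i).obj F)) (p + 1)) :=
    (CdField.subsingleton_H_push_iff i _ (p + 1)).2 (integral_case hℓ hmono h2 ih I.subscheme (i ≫ g) hn _
      (isConstructible_pull i hFc) (isLTorsion_pull' i hFt) p hp)
  exact CdField.subsingleton_of_shortExact (S := ShortComplex.mk (kernel.ι u) u (kernel.condition u))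
    { exact := ShortComplex.exact_kernel u } hK hI

theorem claim (hℓ : ℓ.Prime) (hmono : Mono' φ) (h2 : Const ℓ φ) : ∀ n, Claim ℓ φ n := by
  intro n
  induction n with
  | zero =>
    intro Y g _ F hF h q _
    refine Sheaf.subsingleton_H_of_isZero (ClosedPointSupport.isZero_of_supp_empty
      (Set.eq_empty_iff_forall_notMem.2 fun y hy => ?_)) q
    let I := Scheme.IdealSheafData.vanishingIdeal (⟨closure {y}, isClosed_closure⟩ : Closeds Y)
    haveI : IsIntegral I.subscheme := isIntegral_vanishing _ isIrreducible_singleton.closure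
    exact Nat.not_lt_zero _ (h I.subscheme I.subschemeι (by
      rw [I.range_subschemeι]
      exact closure_mono (Set.singleton_subset_iff.2 hy)))
  | succ n ih =>
    intro Y g _ F hF h q hq
    obtain ⟨p, rfl⟩ : ∃ p, q = p + 1 := ⟨q - 1, by omega⟩
    haveI : IsLocallyNoetherian Y := LocallyOfFiniteType.isLocallyNoetherian g
    haveI : CompactSpace Y := QuasiCompact.compactSpace_of_compactSpace g
    haveI : IsNoetherian Y := { }
    have hFt : EtCoh.IsTorsion F := by
      rw [TorsionColim.isTorsion_iff, isLTorsion_iff_stalks]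
      intro Ω _ _ ξ t
      obtain ⟨m, hm, h0⟩ := (isLTorsion_iff_stalks _ _).1 hF Ω ξ t
      exact ⟨m, ⟨hm.1, fun q _ _ => trivial⟩, h0⟩
    obtain ⟨hc⟩ := ColimCons.nonempty_isColimit_im (F := F) hFt
    have := EtCechLib.preservesColimitsOfShape_HF (X := Y) (p + 1) (Finset (ColimCons.Gen F))
    refine subsingleton_of_forall_eq 0 fun z => ?_
    obtain ⟨s, b, hb⟩ := Concrete.isColimit_exists_rep _ (isColimitOfPreserves (EtCoh.HF Y (p + 1)) hc)
      (show ((EtCoh.HF Y (p + 1)).obj F : Type (u + 1)) from z)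
    haveI : Mono ((ColimCons.imCocone F).ι.app s) := inferInstanceAs (Mono (Limits.image.ι _))
    have hv : Subsingleton (EtCoh.H Y ((ColimCons.imDiagram F).obj s) (p + 1)) :=
      constructible_case hℓ hmono h2 ih p (Nat.le_of_succ_le_succ hq) Y g ⟨closure (EtPBC.supp F), isClosed_closure⟩
        _ (ColimCons.isConstructible_im s) (isLTorsion_of_mono ((ColimCons.imCocone F).ι.app s) hF)
        ((ColimCons.supp_im_subset s).trans subset_closure) h
    show (show ((EtCoh.HF Y (p + 1)).obj F : Type (u + 1)) from z) = 0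
    rw [← hb]
    exact (congrArg _ (@Subsingleton.elim _ hv (show EtCoh.H Y ((ColimCons.imDiagram F).obj s) (p + 1) from b) 0)).trans
      (map_zero _)

end Groth.Agent.CdDev9
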