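import Groth.Agent.CdDev9.FieldBase
import Groth.Agent.SchMor12.WeaklyEtale
import Groth.Agent.S0754
import Groth.Agent.S0148
import Groth.Agent.EtStalkLib.StrictSystem
import Groth.Agent.EtStalkLib.StalkRpush

/-!
Bounds on the cohomological dimension of morphisms of schemes of finite type over a field.
-/

set_option autoImplicit false
set_option linter.all false
set_option backward.isDefEq.respectTransparency.types false
set_option backward.isDefEq.respectTransparency false
set_option synthInstance.maxHeartbeats 400000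
set_option maxHeartbeats 1000000

universe u

open CategoryTheory CategoryTheory.Limits AlgebraicGeometry Opposite IsLocalRing
open Groth.Agent.Et18
open scoped TensorProduct

noncomputable section

namespace Groth.Agent.CdDev9.RelBound

open Groth.Agent.GalEt

/-- Fields generated by a weakly etale algebra over a field are algebraic. -/
theorem isAlgebraic_of_weaklyEtale {A B L M : Type u} [CommRing A] [CommRing B] [Algebra A B]
    [Algebra.WeaklyEtale A B] [Field L] [Field M] [Algebra A L] [Algebra B M] [Algebra L M] [Algebra A M]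
    [IsScalarTower A L M] [IsScalarTower A B M]
    (hfrac : ∀ z : M, ∃ c d : B, algebraMap B M c / algebraMap B M d = z) : Algebra.IsAlgebraic L M := by
  haveI : Algebra.IsIntegral L (L ⊗[A] B) := HenselLib.WEt.isIntegral_of_weaklyEtale
  let χ : L ⊗[A] B →ₐ[L] M :=
    Algebra.TensorProduct.lift (Algebra.ofId L M) (IsScalarTower.toAlgHom A B M) fun _ _ => Commute.all _ _
  have key : ∀ b : B, IsIntegral L (algebraMap B M b) := fun b => by
    have h := (Algebra.IsIntegral.isIntegral (R := L) ((1 : L) ⊗ₜ[A] b)).map χ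
    have e : χ ((1 : L) ⊗ₜ[A] b) = algebraMap B M b := by
      rw [Algebra.TensorProduct.lift_tmul, map_one, one_mul]
      rfl
    exact e ▸ h
  refine ⟨fun z => IsIntegral.isAlgebraic ?_⟩
  obtain ⟨c, d, rfl⟩ := hfrac z
  rw [div_eq_mul_inv]
  exact (key c).mul (key d).inv

variable {Z X : Scheme.{u}} (g : Z ⟶ X) [WeaklyEtale g]

theorem exists_affine_chart (w : Z) : ∃ (V : X.Opens) (U : Z.Opens) (hV : IsAffineOpen V) (hU : IsAffineOpen U)
    (h : U ≤ g ⁻¹ᵁ V), w ∈ U := by
  obtain ⟨V, hV, hwV, -⟩ := exists_isAffineOpen_mem_and_subset (x := g w) (U := ⊤) trivial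
  obtain ⟨U, hU, hwU, h⟩ := exists_isAffineOpen_mem_and_subset (x := w) (U := g ⁻¹ᵁ V) hwV
  exact ⟨V, U, hV, hU, h, hwU⟩

/-- Weakly etale morphisms have discrete fibres. -/
theorem eq_of_specializes {z w : Z} (h : z ⤳ w) (e : g z = g w) : z = w := by
  obtain ⟨V, U, hV, hU, hle, hw⟩ := exists_affine_chart g w
  have hz : z ∈ U := h.mem_open U.isOpen hw
  letI := (g.appLE V U hle).hom.toAlgebra
  haveI : Algebra.WeaklyEtale Γ(X, V) Γ(Z, U) := (SchMor12.weaklyEtale_iff_affineOpens g).1 inferInstance U V hU hV hle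
  let φ := g.resLE V U hle
  have e' : φ ⟨z, hz⟩ = φ ⟨w, hw⟩ := by
    apply V.ι.isOpenEmbedding.injective
    rw [← Scheme.Hom.comp_apply, ← Scheme.Hom.comp_apply, Scheme.Hom.resLE_comp_ι]
    exact e
  have hs : (⟨z, hz⟩ : (U : Scheme.{u})) ⤳ ⟨w, hw⟩ := (U.ι.isOpenEmbedding.isInducing.specializes_iff).1 h
  let P := hU.isoSpec.hom ⟨z, hz⟩
  let Q := hU.isoSpec.hom ⟨w, hw⟩
  have hPQ : (Spec.map (g.appLE V U hle)) P = (Spec.map (g.appLE V U hle)) Q := by
    have hrw : ∀ a, φ a = hV.isoSpec.inv (Spec.map (g.appLE V U hle) (hU.isoSpec.hom a)) := fun a => by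
      show g.resLE V U hle a = _
      rw [SchMor12.resLE_eq g hU hV hle]
      rfl
    rw [hrw, hrw] at e'
    exact hV.isoSpec.inv.isOpenEmbedding.injective e'
  have hle' : (P : PrimeSpectrum Γ(Z, U)).asIdeal ≤ (Q : PrimeSpectrum Γ(Z, U)).asIdeal :=
    (PrimeSpectrum.le_iff_specializes _ _).2 (hs.map hU.isoSpec.hom.continuous)
  have heq : P = Q := PrimeSpectrum.ext
    (HenselLib.WEt.eq_of_le_of_comap_eq (A := Γ(X, V)) hle' (congrArg PrimeSpectrum.asIdeal hPQ))
  exact congrArg Subtype.val (hU.isoSpec.hom.isOpenEmbedding.injective heq)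

/-- Weakly etale morphisms have algebraic residue extensions. -/
theorem isAlgebraic_residueFieldMap (z : Z) :
    @Algebra.IsAlgebraic (X.residueField (g z)) (Z.residueField z) _ _ (g.residueFieldMap z).hom.toAlgebra := by
  obtain ⟨V, U, hV, hU, hle, hz⟩ := exists_affine_chart g z
  letI : Algebra (X.residueField (g z)) (Z.residueField z) := (g.residueFieldMap z).hom.toAlgebra
  letI := (g.appLE V U hle).hom.toAlgebra
  haveI : Algebra.WeaklyEtale Γ(X, V) Γ(Z, U) := (SchMor12.weaklyEtale_iff_affineOpens g).1 inferInstance U V hU hV hle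
  let α : Γ(X, V) ⟶ X.residueField (g z) := X.presheaf.germ V (g z) (hle hz) ≫ X.residue (g z)
  let β : Γ(Z, U) ⟶ Z.residueField z := Z.presheaf.germ U z hz ≫ Z.residue z
  letI : Algebra Γ(X, V) (X.residueField (g z)) := α.hom.toAlgebra
  letI : Algebra Γ(Z, U) (Z.residueField z) := β.hom.toAlgebra
  letI : Algebra Γ(X, V) (Z.residueField z) := (α ≫ g.residueFieldMap z).hom.toAlgebra
  haveI : IsScalarTower Γ(X, V) (X.residueField (g z)) (Z.residueField z) := IsScalarTower.of_algebraMap_eq' rfl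
  haveI : IsScalarTower Γ(X, V) Γ(Z, U) (Z.residueField z) := IsScalarTower.of_algebraMap_eq' (by
    have h : α ≫ g.residueFieldMap z = g.appLE V U hle ≫ β := by
      show (_ ≫ _) ≫ _ = _ ≫ _ ≫ _
      rw [Category.assoc, Scheme.residue_residueFieldMap, ← Category.assoc, Scheme.Hom.germ_stalkMap,
        ← Category.assoc]
      congr 1
      rw [Scheme.Hom.appLE, Category.assoc, TopCat.Presheaf.germ_res]
    exact congrArg CommRingCat.Hom.hom h)
  refine isAlgebraic_of_weaklyEtale (A := Γ(X, V)) (B := Γ(Z, U)) fun m => ?_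
  obtain ⟨s, rfl⟩ := Z.residue_surjective z m
  letI := TopCat.Presheaf.algebra_section_stalk Z.presheaf (⟨z, hz⟩ : U)
  haveI := hU.isLocalization_stalk ⟨z, hz⟩
  obtain ⟨⟨c, d⟩, hcd⟩ := IsLocalization.surj (hU.primeIdealOf ⟨z, hz⟩).asIdeal.primeCompl s
  refine ⟨c, d.1, ?_⟩
  have hd : IsUnit (Z.presheaf.germ U z hz d.1) := IsLocalization.map_units (Z.presheaf.stalk z) d
  have hne : β d.1 ≠ 0 := (hd.map (Z.residue z).hom).ne_zero
  refine (div_eq_iff hne).2 ?_
  show Z.residue z (Z.presheaf.germ U z hz c) = Z.residue z s * Z.residue z (Z.presheaf.germ U z hz d.1)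
  rw [← map_mul]
  exact congrArg (Z.residue z) hcd.symm

omit g in
/-- Residue fields of strict localizations of subschemes. -/
theorem cohDim_fraction_le {ℓ : ℕ} (hℓ : ℓ.Prime) {c : ℕ} (x y : Z) (hxy : x ⤳ y)
    (hc : Dix.CohDimLEAt (Spec (Z.residueField x)) ℓ c) (R : Type u) [CommRing R] [IsLocalRing R]
    [Algebra (Z.presheaf.stalk y) R] [IsLocalHom (algebraMap (Z.presheaf.stalk y) R)]
    [Hensel.IsStrictHenselization (Z.presheaf.stalk y) R] (P : Ideal R)
    (hP : P ∈ ((RingHom.ker (Cyc.specMap y x hxy)).map (algebraMap (Z.presheaf.stalk y) R)).minimalPrimes) :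
    Dix.CohDimLEAt (Spec (CommRingCat.of (FractionRing (R ⧸ P)))) ℓ c := by
  let A := Z.presheaf.stalk y
  haveI := weaklyEtale_strict A R
  obtain ⟨p₀, rfl⟩ : ∃ p₀ : Spec A, Z.fromSpecStalk y p₀ = x := by
    have h : x ∈ Set.range (Z.fromSpecStalk y) := by
      rw [Scheme.range_fromSpecStalk]
      exact hxy
    exact h
  rw [CycLib28.ker_specMap p₀ hxy] at hP
  obtain ⟨hPp, hPc⟩ := (HenselLib.WEt.mem_minimalPrimes_map_iff _ _).1 hP
  haveI := hPp
  haveI : P.LiesOver p₀.asIdeal := ⟨hPc.symm⟩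
  letI : Algebra (Localization.AtPrime p₀.asIdeal) (Localization.AtPrime P) :=
    Localization.AtPrime.algebraOfLiesOver p₀.asIdeal P
  haveI := FieldBase.isAlgebraic_residueField p₀.asIdeal P
  let g₀ := Z.fromSpecStalk y
  haveI : IsIso (g₀.residueFieldMap p₀) := by
    have hs := g₀.stalkMap_surjective p₀
    have hr : Function.Surjective (g₀.residueFieldMap p₀).hom := fun a => by
      obtain ⟨b, rfl⟩ := (Spec A).residue_surjective p₀ a
      obtain ⟨c', rfl⟩ := hs b
      exact ⟨Z.residue (g₀ p₀) c', congrArg (fun k => k c') (Scheme.residue_residueFieldMap g₀ p₀)⟩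
    exact (ConcreteCategory.isIso_iff_bijective _).2 ⟨(g₀.residueFieldMap p₀).hom.injective, hr⟩
  let π₁ : Spec (CommRingCat.of P.ResidueField) ⟶ Spec (CommRingCat.of p₀.asIdeal.ResidueField) :=
    H8Lim.algSpec p₀.asIdeal.ResidueField P.ResidueField
  haveI : IsIntegralHom π₁ := IsIntegralHom.SpecMap_iff.2 (algebraMap_isIntegral_iff.2 inferInstance)
  let π₂ : Spec (CommRingCat.of p₀.asIdeal.ResidueField) ⟶ Spec (Z.residueField (g₀ p₀)) :=
    Spec.map (g₀.residueFieldMap p₀ ≫ (Scheme.Spec.residueFieldIso A p₀).hom)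
  haveI : IsFinite π₂ := inferInstance
  let ε : FractionRing (R ⧸ P) ≃+* P.ResidueField := (FractionRing.algEquiv (R ⧸ P) P.ResidueField).toRingEquiv
  let π₀ : Spec (CommRingCat.of (FractionRing (R ⧸ P))) ⟶ Spec (CommRingCat.of P.ResidueField) :=
    Spec.map ε.toCommRingCatIso.inv
  haveI : IsFinite π₀ := inferInstance
  exact Transc.cohDimLEAt_of_cdKilled hℓ fun m hm =>
    (((Transc.cdKilled_of_cohDimLEAt hc hm).of_finite π₂).of_finite π₁).of_finite π₀

omit g in
/-- A bound from a dimension function and bounds for the residue fields. -/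
theorem cohDimLEAt_of_weight [AlgebraicGeometry.IsNoetherian Z] {ℓ : ℕ} (hℓ : ℓ.Prime) (a : Z → ℕ) (n : ℕ)
    (hn : ∀ z, a z ≤ n) (ha : ∀ z w : Z, z ⤳ w → z ≠ w → a w < a z)
    (hc : ∀ z, Dix.CohDimLEAt (Spec (Z.residueField z)) ℓ (a z)) :
    Dix.CohDimLEAt Z ℓ ((n + 1) * (n + 1)) := by
  intro F hF q hq
  refine S3491.result Z ℓ hℓ (fun z => (a z + 1) * (a z + 1)) (fun z G hG r hr => hc z G hG r ?_) ?_ F hF q fun z _ => ?_
  · nlinarith
  · intro x y hxy hne R _ _ _ _ _ P hP
    refine ⟨a x, ?_, cohDim_fraction_le hℓ x y hxy (hc x) R P hP⟩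
    have := ha x y hxy hne
    nlinarith
  · have := hn z
    nlinarith

variable {k : Type u} [Field k] {Y : Scheme.{u}}

omit g in
/-- The higher direct images of torsion sheaves vanish in high degrees. -/
theorem isZero_Rpush_of_large (a : X ⟶ Spec (CommRingCat.of k)) (b : Y ⟶ Spec (CommRingCat.of k))
    [LocallyOfFiniteType a] [QuasiCompact a] [LocallyOfFiniteType b] [QuasiCompact b]
    (f : X ⟶ Y) (w : f ≫ b = a) (n : ℕ) (hn : ∀ x : X, DimLib.ptDim a x ≤ n)
    (F : EtCoh.Ab X) (hF : EtCoh.IsTorsion F) (q : ℕ) (hq : (n + 1) * (n + 1) < q) :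
    IsZero ((EtCoh.Rpush f q).obj F) := by
  haveI : IsLocallyNoetherian Y := LocallyOfFiniteType.isLocallyNoetherian b
  haveI : LocallyOfFiniteType (f ≫ b) := w.symm ▸ inferInstance
  haveI : LocallyOfFiniteType f := locallyOfFiniteType_of_comp f b
  haveI : QuasiCompact (f ≫ b) := w.symm ▸ inferInstance
  haveI : QuasiCompact f := QuasiCompact.of_comp f b
  haveI : IsLocallyNoetherian X := LocallyOfFiniteType.isLocallyNoetherian a
  haveI : QuasiSeparated f := inferInstance
  refine ClosedPointSupport.isZero_of_supp_empty (Set.eq_empty_iff_forall_notMem.2 fun y hy => ?_)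
  let A := Y.presheaf.stalk y
  let R := HenselLib.LocalSH A
  haveI hR : Hensel.IsStrictHenselization A R := HenselLib.isStrictHenselization_localSH (R := A)
  haveI := hR.henselian
  haveI : IsSepClosed (ResidueField R) := hR.isSepClosure.sep_closed
  refine (mem_supp_iff _ (Hens2.geomPt Y y R) (EtStalkLib.geomPt_default Y y R)).1 hy ?_
  obtain ⟨e⟩ := EtStalkLib.nonempty_stalk_Rpush_iso f y R q
  let Z := pullback f (Hens2.specOf Y y R)
  let g : Z ⟶ X := pullback.fst f (Hens2.specOf Y y R)
  let s : Z ⟶ Spec (CommRingCat.of R) := pullback.snd f (Hens2.specOf Y y R)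
  haveI : WeaklyEtale (Hens2.specOf Y y R) := S0754.result Y y R
  haveI : WeaklyEtale g := inferInstance
  haveI : IsNoetherianRing R := isNoetherianRing_strict A R
  haveI : LocallyOfFiniteType s := MorphismProperty.pullback_snd _ _ inferInstance
  haveI : QuasiCompact s := MorphismProperty.pullback_snd _ _ inferInstance
  haveI : IsLocallyNoetherian Z := LocallyOfFiniteType.isLocallyNoetherian s
  haveI : CompactSpace Z := QuasiCompact.compactSpace_of_compactSpace s
  haveI : AlgebraicGeometry.IsNoetherian Z := { }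
  let ψ : k →+* R := (Spec.preimage (Hens2.specOf Y y R ≫ b)).hom
  letI : Algebra k R := ψ.toAlgebra
  obtain ⟨E, _, _, _, gE, -⟩ := FieldBase.exists_sepClosed_subfield k R (b := Algebra.trdeg k (ResidueField R)) rfl
  have hres : ∀ z : Z, ∀ ℓ : ℕ, ℓ.Prime → Dix.CohDimLEAt (Spec (Z.residueField z)) ℓ (DimLib.ptDim a (g z)) := by
    intro z ℓ hℓ
    refine Transc.cohDimLEAt_of_cdKilled hℓ fun m hm => ?_
    letI : Algebra k (X.residueField (g z)) := (DimLib.baseRingHom a (g z)).toAlgebra
    letI : Algebra (X.residueField (g z)) (Z.residueField z) := (g.residueFieldMap z).hom.toAlgebra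
    letI : Algebra k (Z.residueField z) := ((g.residueFieldMap z).hom.comp (DimLib.baseRingHom a (g z))).toAlgebra
    haveI : IsScalarTower k (X.residueField (g z)) (Z.residueField z) := IsScalarTower.of_algebraMap_eq' rfl
    haveI := isAlgebraic_residueFieldMap g z
    have hk : Algebra.trdeg k (Z.residueField z) = (DimLib.ptDim a (g z) : ℕ) := by
      rw [← trdeg_add_eq k (X.residueField (g z)) (A := Z.residueField z),
        trdeg_eq_zero (R := X.residueField (g z)) (A := Z.residueField z), add_zero]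
      exact FieldBase.trdeg_residueField a (g z)
    let ρ : CommRingCat.of R ⟶ Z.residueField z := Spec.preimage (Z.fromSpecResidueField z ≫ s)
    have hρ : CommRingCat.ofHom ψ ≫ ρ = CommRingCat.ofHom (DimLib.baseRingHom a (g z)) ≫ g.residueFieldMap z := by
      apply Spec.map_injective
      rw [Spec.map_comp, Spec.map_comp, Spec.map_preimage, DimLib.specMap_baseRingHom,
        Scheme.Hom.SpecMap_residueFieldMap_fromSpecResidueField_assoc, Category.assoc,
        show Spec.map (CommRingCat.ofHom ψ) = Hens2.specOf Y y R ≫ b from Spec.map_preimage _,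
        ← Category.assoc s, ← pullback.condition, Category.assoc, w]
    letI : Algebra E (Z.residueField z) := (ρ.hom.comp gE.toRingHom).toAlgebra
    haveI : IsScalarTower k E (Z.residueField z) := IsScalarTower.of_algebraMap_eq fun r => by
      show _ = ρ (gE (algebraMap k E r))
      rw [gE.commutes]
      exact (congr($hρ r)).symm
    have hadd := trdeg_add_eq k E (A := Z.residueField z)
    rw [hk] at hadd
    have hle : Algebra.trdeg E (Z.residueField z) ≤ (DimLib.ptDim a (g z) : ℕ) := hadd ▸ self_le_add_left _ _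
    obtain ⟨j, hj⟩ := Cardinal.lt_aleph0.1 (hle.trans_lt (Cardinal.natCast_lt_aleph0))
    rw [hj, Nat.cast_le] at hle
    intro G hG r hr
    exact FieldBase.cdKilled_of_trdeg hj hm.1 (FieldBase.cdKilled_sepClosed E m) G hG r (by omega)
  have hZ : EtCoh.CohDimLE Z ((n + 1) * (n + 1)) := S0148.cohDimLE_of_cdKilled fun m hm =>
    cdKilled_of_cdLEAt m hm fun p hp _ =>
      cohDimLEAt_of_weight hp (fun z => DimLib.ptDim a (g z)) n (fun z => hn _)
        (fun z z' h hne => DimLib.ptDim_lt_of_specializes a (h.map g.continuous) fun e => hne (eq_of_specializes g h e))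
        fun z => hres z p hp
  have hT : EtCoh.IsTorsion ((EtCoh.pull g).obj F) :=
    (TorsionColim.isTorsion_iff _).2 (CdField.isLTorsion_pull' g ((TorsionColim.isTorsion_iff F).1 hF))
  exact IsZero.of_iso (@AddCommGrpCat.isZero_of_subsingleton ((EtCoh.HF Z q).obj ((EtCoh.pull g).obj F))
    (hZ _ hT q hq)) (e.app F)

end Groth.Agent.CdDev9.RelBound
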