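import Groth.Agent.CdDev9.ResidueCd
import Groth.Agent.CdDev9.RelBound
import Groth.Agent.DVRDom.Basic
import Groth.Agent.HenselLib.Olivier
import Groth.Agent.HenselLib.PairHens
import Groth.Agent.DimLib.Algebra
import Groth.Agent.CdDev9.DiscreteCover
import Groth.Agent.CAlgMisc2.KrullAkizuki

/-!
`dim A ≤ cd_ℓ(Frac A)` for strictly henselian noetherian local domains.
-/

set_option autoImplicit false
set_option linter.all false
set_option backward.isDefEq.respectTransparency.types false
set_option backward.isDefEq.respectTransparency false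
set_option synthInstance.maxHeartbeats 400000
set_option maxHeartbeats 1000000

universe u

open CategoryTheory CategoryTheory.Limits AlgebraicGeometry Opposite IsLocalRing
open Groth.Agent.Et18

noncomputable section

namespace Groth.Agent.CdDev9.LowerBound

open Groth.Agent.GalEt

/-- Flat unramified local extensions of discrete valuation rings. -/
theorem isDVR_of_flat (A S : Type u) [CommRing A] [IsDomain A] [IsDiscreteValuationRing A] [CommRing S]
    [IsLocalRing S] [IsNoetherianRing S] [Algebra A S] [Module.Flat A S]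
    (hmax : (maximalIdeal A).map (algebraMap A S) = maximalIdeal S) :
    ∃ _ : IsDomain S, IsDiscreteValuationRing S := by
  obtain ⟨ϖ, hϖ⟩ := IsDiscreteValuationRing.exists_irreducible A
  let π : S := algebraMap A S ϖ
  have hm : maximalIdeal S = Ideal.span {π} := by
    rw [← hmax, hϖ.maximalIdeal_eq, Ideal.map_span, Set.image_singleton]
  have hreg : ∀ a : S, π * a = 0 → a = 0 := fun a ha => by
    have h : IsSMulRegular S (algebraMap A S ϖ) :=
      (IsSMulRegular.of_ne_zero hϖ.ne_zero : IsSMulRegular A ϖ).of_flat
    exact h (show π • a = π • (0 : S) by rw [smul_eq_mul, smul_eq_mul, mul_zero]; exact ha)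
  have hdec : ∀ a : S, a ≠ 0 → ∃ (n : ℕ) (v : S), IsUnit v ∧ a = v * π ^ n := fun a ha => by
    have hne : ∃ n, a ∉ (maximalIdeal S) ^ n := by
      by_contra h
      push Not at h
      refine ha (Ideal.mem_bot.1 ?_)
      rw [← Ideal.iInf_pow_eq_bot_of_isLocalRing (maximalIdeal S) (IsLocalRing.maximalIdeal.isMaximal S).ne_top]
      exact Ideal.mem_iInf.2 h
    classical
    let n := Nat.find hne
    have hn0 : n ≠ 0 := fun h0 => Nat.find_spec hne (by rw [show Nat.find hne = 0 from h0, pow_zero, Ideal.one_eq_top]; trivial)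
    have hmem : a ∈ (maximalIdeal S) ^ (n - 1) := not_not.1 (Nat.find_min hne (by omega))
    rw [hm, Ideal.span_singleton_pow, Ideal.mem_span_singleton'] at hmem
    obtain ⟨v, hva⟩ := hmem
    refine ⟨n - 1, v, ?_, hva.symm⟩
    by_contra hv
    have hv' : v ∈ maximalIdeal S := hv
    refine Nat.find_spec hne ?_
    have hn' : Nat.find hne = 1 + (n - 1) := by show n = 1 + (n - 1); omega
    rw [hn', pow_add, pow_one, ← hva]
    refine Ideal.mul_mem_mul hv' ?_
    rw [hm, Ideal.span_singleton_pow]
    exact Ideal.mem_span_singleton_self _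
  have hpow : ∀ n, ∀ a : S, π ^ n * a = 0 → a = 0 := by
    intro n
    induction n with
    | zero => intro a ha; simpa using ha
    | succ n ih => intro a ha; exact hreg a (ih _ (by rw [← mul_assoc, ← pow_succ]; exact ha))
  haveI : NoZeroDivisors S := ⟨fun {a b} hab => by
    by_cases ha : a = 0
    · exact Or.inl ha
    obtain ⟨n, v, hv, rfl⟩ := hdec a ha
    exact Or.inr (hpow n b (hv.mul_right_eq_zero.1 (by rw [← mul_assoc]; exact hab)))⟩
  haveI : IsDomain S := NoZeroDivisors.to_isDomain S
  refine ⟨inferInstance, ?_⟩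
  have hnf : ¬ IsField S := fun hf => by
    have h0 : π = 0 := by
      have : π ∈ maximalIdeal S := hm ▸ Ideal.mem_span_singleton_self π
      rwa [IsLocalRing.isField_iff_maximalIdeal_eq.1 hf, Ideal.mem_bot] at this
    exact one_ne_zero (hreg 1 (by rw [h0, zero_mul]))
  exact (List.TFAE.out (IsDiscreteValuationRing.TFAE S hnf) 0 4 : IsDiscreteValuationRing S ↔ (maximalIdeal S).IsPrincipal).2
    ⟨⟨π, hm⟩⟩

/-- Localizations have the same fraction field. -/
theorem cohDim_localization {ℓ d : ℕ} (hℓ : ℓ.Prime) (A T K : Type u) [CommRing A] [IsDomain A] [CommRing T]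
    [IsDomain T] [Algebra A T] (M : Submonoid A) [IsLocalization M T] (hM : M ≤ nonZeroDivisors A) [Field K]
    [Algebra A K] [IsFractionRing A K] (hK : Dix.CohDimLEAt (Spec (CommRingCat.of K)) ℓ d) :
    Dix.CohDimLEAt (Spec (CommRingCat.of (FractionRing T))) ℓ d := by
  letI : Algebra T K := (IsLocalization.lift (M := M) (g := algebraMap A K) fun y =>
    IsLocalization.map_units K (⟨y.1, hM y.2⟩ : nonZeroDivisors A)).toAlgebra
  haveI : IsScalarTower A T K := IsScalarTower.of_algebraMap_eq fun a => (IsLocalization.lift_eq _ a).symm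
  haveI : IsFractionRing T K := IsFractionRing.isFractionRing_of_isLocalization M T K hM
  let e : FractionRing T ≃+* K := (FractionRing.algEquiv T K).toRingEquiv
  let π : Spec (CommRingCat.of (FractionRing T)) ⟶ Spec (CommRingCat.of K) := Spec.map e.toCommRingCatIso.inv
  haveI : IsFinite π := inferInstance
  exact Transc.cohDimLEAt_of_cdKilled hℓ fun r hr => (Transc.cdKilled_of_cohDimLEAt hK hr).of_finite π

/-- Henselization of a discrete valuation ring. -/
theorem exists_henselian (V : Type u) [CommRing V] [IsDomain V] [IsDiscreteValuationRing V] {ℓ : ℕ}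
    (hℓ : ℓ.Prime) (hu : IsUnit (ℓ : V)) {d : ℕ} (hK : Dix.CohDimLEAt (Spec (CommRingCat.of (FractionRing V))) ℓ d) :
    1 ≤ d ∧ Dix.CohDimLEAt (Spec (CommRingCat.of (ResidueField V))) ℓ (d - 1) := by
  let S := HenselLib.LocalH V
  haveI : IsLocalRing S := HenselLib.isLocalRing_hull
  haveI : HenselianLocalRing S := HenselLib.henselianLocalRing_localH
  haveI : IsNoetherianRing S := HenselLib.isNoetherianRing_localH
  haveI : Algebra.WeaklyEtale V S := HenselLib.weaklyEtale_hull
  haveI : Module.Flat V S := inferInstance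
  obtain ⟨_, _⟩ := isDVR_of_flat V S HenselLib.map_maximalIdeal_localH
  haveI : FaithfulSMul V S := (faithfulSMul_iff_algebraMap_injective V S).2 (by
    have := Module.FaithfullyFlat.of_flat_of_isLocalHom (A := V) (B := S)
    exact FaithfulSMul.algebraMap_injective V S)
  letI := FractionRing.liftAlgebra V (FractionRing S)
  haveI : IsScalarTower V (FractionRing V) (FractionRing S) := FractionRing.isScalarTower_liftAlgebra V _
  haveI : Algebra.IsAlgebraic (FractionRing V) (FractionRing S) :=
    RelBound.isAlgebraic_of_weaklyEtale (A := V) (B := S) fun z => by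
      obtain ⟨c, d, -, h⟩ := IsFractionRing.div_surjective S z
      exact ⟨c, d, h⟩
  have hS : Dix.CohDimLEAt (Spec (CommRingCat.of (FractionRing S))) ℓ d := by
    refine Transc.cohDimLEAt_of_cdKilled hℓ fun m hm => ?_
    let g : Spec (CommRingCat.of (FractionRing S)) ⟶ Spec (CommRingCat.of (FractionRing V)) :=
      H8Lim.algSpec (FractionRing V) (FractionRing S)
    haveI : IsIntegralHom g := IsIntegralHom.SpecMap_iff.2 (algebraMap_isIntegral_iff.2 inferInstance)
    exact (Transc.cdKilled_of_cohDimLEAt hK hm).of_finite g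
  have huS : IsUnit (ℓ : S) := by
    have := hu.map (algebraMap V S)
    rwa [map_natCast] at this
  obtain ⟨hd, hres⟩ := Residue.cohDim_residue S (FractionRing S) hℓ huS hS
  refine ⟨hd, ?_⟩
  let m₀ : Ideal V := maximalIdeal V
  letI : Field (V ⧸ m₀) := Ideal.Quotient.field m₀
  have hh : Function.Surjective (HenselLib.hullPt V (V ⧸ m₀)) := HenselLib.hullPt_surjective V m₀
  have hk : RingHom.ker (HenselLib.hullPt V (V ⧸ m₀)).toRingHom = maximalIdeal S :=
    IsLocalRing.eq_maximalIdeal (RingHom.ker_isMaximal_of_surjective _ hh)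
  let e₂ : ResidueField S ≃+* ResidueField V :=
    (Ideal.quotEquivOfEq hk.symm).trans (RingHom.quotientKerEquivOfSurjective hh)
  let π : Spec (CommRingCat.of (ResidueField V)) ⟶ Spec (CommRingCat.of (ResidueField S)) :=
    Spec.map e₂.toCommRingCatIso.hom
  haveI : IsFinite π := inferInstance
  exact Transc.cohDimLEAt_of_cdKilled hℓ fun m hm => (Transc.cdKilled_of_cohDimLEAt hres hm).of_finite π

/-- The residue step for one-dimensional noetherian local domains. -/
theorem exists_finite_residue (T : Type u) [CommRing T] [IsDomain T] [IsNoetherianRing T] [IsLocalRing T]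
    [Ring.KrullDimLE 1 T] (hT : ¬ IsField T) {ℓ : ℕ} (hℓ : ℓ.Prime) (hu : IsUnit (ℓ : T)) {d : ℕ}
    (hK : Dix.CohDimLEAt (Spec (CommRingCat.of (FractionRing T))) ℓ d) :
    1 ≤ d ∧ ∃ (L : Type u) (_ : Field L) (_ : Algebra (ResidueField T) L),
      Module.Finite (ResidueField T) L ∧ Dix.CohDimLEAt (Spec (CommRingCat.of L)) ℓ (d - 1) := by
  let K := FractionRing T
  let W := integralClosure T K
  haveI : IsNoetherianRing W := DVRDom.isNoetherianRing_integralClosure T K
  haveI : Algebra.IsIntegral T W := integralClosure.AlgebraIsIntegral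
  have hinj : Function.Injective (algebraMap T W) := fun a b h =>
    IsFractionRing.injective T K (congrArg Subtype.val h)
  haveI : IsIntegrallyClosed W := integralClosure.isIntegrallyClosedOfFiniteExtension K
  haveI : IsFractionRing W K := integralClosure.isFractionRing_of_finite_extension K K
  haveI : Ring.DimensionLEOne W := by
    haveI : Ring.DimensionLEOne T := ⟨fun {p} hp0 hp => by
      rcases Ring.krullDimLE_one_iff.mp inferInstance p hp with h | h
      · rw [IsDomain.minimalPrimes_eq_singleton_bot, Set.mem_singleton_iff] at h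
        exact absurd h hp0
      · exact h⟩
    infer_instance
  haveI : IsDedekindDomain W := { }
  haveI : FaithfulSMul T W := (faithfulSMul_iff_algebraMap_injective T W).mpr hinj
  obtain ⟨Q, hQ, hQm⟩ := Ideal.exists_ideal_over_maximal_of_isIntegral (S := W) (maximalIdeal T)
    (by rw [(RingHom.injective_iff_ker_eq_bot _).mp hinj]; exact bot_le)
  have hQ0 : Q ≠ ⊥ := fun h => by
    rw [h, ← RingHom.ker_eq_comap_bot, (RingHom.injective_iff_ker_eq_bot _).mp hinj] at hQm
    exact hT (IsLocalRing.isField_iff_maximalIdeal_eq.mpr hQm.symm)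
  haveI := hQ.isPrime
  obtain ⟨x, hx, hx0⟩ : ∃ x ∈ maximalIdeal T, x ≠ 0 :=
    Submodule.exists_mem_ne_zero_of_ne_bot fun h => hT (IsLocalRing.isField_iff_maximalIdeal_eq.mpr h)
  haveI : Module.Finite T (W ⧸ Q) := by
    haveI := CAlgMisc2.finite_quot (R := T) K K W Subtype.val_injective x hx0
    let xW : Submodule T W := Ideal.span {x} • ⊤
    have hle : xW ≤ Q.restrictScalars T := by
      refine Submodule.smul_le.2 fun a ha w _ => ?_
      show a • w ∈ Q
      rw [Algebra.smul_def]
      refine Q.mul_mem_right _ ?_
      have : a ∈ maximalIdeal T := (Ideal.span_singleton_le_iff_mem _).2 hx ha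
      rwa [← hQm] at this
    exact Module.Finite.of_surjective ((xW.liftQ (Ideal.Quotient.mkₐ T Q).toLinearMap (by
      intro w hw
      exact Ideal.Quotient.eq_zero_iff_mem.2 (hle hw))))
      (fun z => by obtain ⟨w, rfl⟩ := Ideal.Quotient.mk_surjective z; exact ⟨Submodule.Quotient.mk w, rfl⟩)
  let V := Localization.AtPrime Q
  haveI : IsDiscreteValuationRing V := IsLocalization.AtPrime.isDiscreteValuationRing_of_dedekind_domain W hQ0 V
  have huV : IsUnit (ℓ : V) := by
    have := (hu.map (algebraMap T W)).map (algebraMap W V)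
    rwa [map_natCast, map_natCast] at this
  obtain ⟨hd, hres⟩ := exists_henselian V hℓ huV
    (cohDim_localization hℓ W V K Q.primeCompl Q.primeCompl_le_nonZeroDivisors hK)
  refine ⟨hd, ?_⟩
  haveI : Q.IsMaximal := hQ
  letI : Field (W ⧸ Q) := Ideal.Quotient.field Q
  letI : Algebra (ResidueField T) (W ⧸ Q) :=
    (Ideal.quotientMap Q (algebraMap T W) hQm.ge).toAlgebra
  haveI : IsScalarTower T (ResidueField T) (W ⧸ Q) := IsScalarTower.of_algebraMap_eq fun _ => rfl
  refine ⟨W ⧸ Q, inferInstance, inferInstance, Module.Finite.of_restrictScalars_finite T _ _, ?_⟩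
  let e₁ : W ⧸ Q ≃+* ResidueField V :=
    (RingEquiv.ofBijective (algebraMap (W ⧸ Q) Q.ResidueField) Q.bijective_algebraMap_quotient_residueField)
  let π : Spec (CommRingCat.of (W ⧸ Q)) ⟶ Spec (CommRingCat.of (ResidueField V)) :=
    Spec.map e₁.symm.toCommRingCatIso.hom
  haveI : IsFinite π := inferInstance
  exact Transc.cohDimLEAt_of_cdKilled hℓ fun m hm => (Transc.cdKilled_of_cohDimLEAt hres hm).of_finite π

/-- A finite domain extension with prescribed fraction field. -/
theorem exists_finite_domain (A : Type u) [CommRing A] [IsDomain A] (L : Type u) [Field L] [Algebra A L]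
    [FaithfulSMul A L] [Algebra (FractionRing A) L] [IsScalarTower A (FractionRing A) L]
    [Module.Finite (FractionRing A) L] :
    ∃ B : Subalgebra A L, Module.Finite A B ∧ IsFractionRing B L := by
  classical
  let K := FractionRing A
  let b := Module.finBasis K L
  haveI : Algebra.IsAlgebraic A L := (IsFractionRing.comap_isAlgebraic_iff (A := A) (K := K) (C := L)).2 inferInstance
  have hmul : ∀ i, ∃ y : A, y ≠ 0 ∧ IsIntegral A (y • b i) := fun i =>
    (Algebra.IsAlgebraic.isAlgebraic (R := A) (b i)).exists_integral_multiple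
  choose y hy0 hy using hmul
  let B := Algebra.adjoin A ((Finset.univ.image fun i => y i • b i : Finset L) : Set L)
  haveI : Module.Finite A B := Module.Finite.iff_fg.2 (fg_adjoin_of_finite (Finset.finite_toSet _) (fun z hz => by
    obtain ⟨i, -, rfl⟩ := Finset.mem_image.1 hz
    exact hy i))
  refine ⟨B, inferInstance, IsFractionRing.of_field B L fun z => ?_⟩
  obtain ⟨s, hs⟩ := IsLocalization.exist_integer_multiples_of_finite (nonZeroDivisors A)
    (fun i => b.repr z i / algebraMap A K (y i))
  choose a ha using hs
  have hw : algebraMap A L (s : A) * z ∈ B := by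
    have e : algebraMap A L (s : A) * z = ∑ i, algebraMap A L (a i) * (y i • b i) := by
      conv_lhs => rw [← b.sum_repr z, Finset.mul_sum]
      refine Finset.sum_congr rfl fun i _ => ?_
      have h1 : algebraMap A K (a i) = algebraMap A K (s : A) * (b.repr z i / algebraMap A K (y i)) := by
        rw [ha i, Algebra.smul_def]
      rw [Algebra.smul_def, Algebra.smul_def, IsScalarTower.algebraMap_apply A K L (a i), h1, map_mul,
        map_div₀, ← IsScalarTower.algebraMap_apply, ← IsScalarTower.algebraMap_apply]
      have : algebraMap A L (y i) ≠ 0 := fun h0 => hy0 i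
        (FaithfulSMul.algebraMap_injective A L (h0.trans (map_zero _).symm))
      field_simp
    rw [e]
    exact B.sum_mem fun i _ => B.mul_mem (B.algebraMap_mem _) (Algebra.subset_adjoin (by simp))
  refine ⟨⟨_, hw⟩, algebraMap A B (s : A), ?_⟩
  show z = algebraMap A L (s : A) * z / algebraMap A L (s : A)
  have : algebraMap A L (s : A) ≠ 0 := fun h0 => nonZeroDivisors.coe_ne_zero s
    (FaithfulSMul.algebraMap_injective A L (h0.trans (map_zero _).symm))
  field_simp

/-- `dim A ≤ cd_ℓ(Frac A)`. -/
theorem dim_le {ℓ : ℕ} (hℓ : ℓ.Prime) : ∀ (m : ℕ) (A : Type u) [CommRing A] [IsDomain A] [IsNoetherianRing A]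
    [HenselianLocalRing A] [IsSepClosed (ResidueField A)], IsUnit (ℓ : A) → (m : WithBot ℕ∞) ≤ ringKrullDim A →
    ∀ d : ℕ, Dix.CohDimLEAt (Spec (CommRingCat.of (FractionRing A))) ℓ d → m ≤ d := by
  intro m
  induction m with
  | zero => intros; omega
  | succ m ih =>
    intro A _ _ _ _ _ hu hm d hK
    obtain ⟨c, hc⟩ := Order.le_krullDim_iff.1 hm
    let p₁ := c ⟨1, by omega⟩
    have hp₁ : p₁.asIdeal ≠ ⊥ := by
      have h01 : c ⟨0, by omega⟩ < p₁ := c.strictMono (by simp [Fin.lt_def])
      exact ne_bot_of_gt (show (c ⟨0, by omega⟩).asIdeal < p₁.asIdeal from h01)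
    obtain ⟨x, hx, hx0⟩ := Submodule.exists_mem_ne_zero_of_ne_bot hp₁
    haveI := p₁.2
    obtain ⟨q, hq, hqle⟩ := Ideal.exists_minimalPrimes_le (I := Ideal.span {x}) (J := p₁.asIdeal)
      ((Ideal.span_singleton_le_iff_mem _).2 hx)
    haveI := hq.1.1
    have hq0 : q ≠ ⊥ := fun h => hx0 (by
      have := hq.1.2 (Ideal.mem_span_singleton_self x)
      rwa [h, Ideal.mem_bot] at this)
    have hht : q.height ≤ 1 := Ideal.height_le_one_of_isPrincipal_of_mem_minimalPrimes _ q hq
    -- dimension of the quotient
    let A' := A ⧸ q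
    have hm' : (m : WithBot ℕ∞) ≤ ringKrullDim A' := by
      rw [ringKrullDim_quotient]
      have hmem : ∀ i : Fin c.length, c ⟨i.1 + 1, by omega⟩ ∈ PrimeSpectrum.zeroLocus (q : Set A) := fun i => by
        rw [PrimeSpectrum.mem_zeroLocus, SetLike.coe_subset_coe]
        refine hqle.trans ?_
        exact c.strictMono.monotone (show (⟨1, _⟩ : Fin (c.length + 1)) ≤ ⟨i.1 + 1, _⟩ by simp [Fin.le_def])
      let c' : LTSeries (PrimeSpectrum.zeroLocus (q : Set A)) :=
        { length := m
          toFun := fun i => ⟨c ⟨i.1 + 1, by omega⟩, hmem ⟨i.1, by omega⟩⟩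
          step := fun i => c.strictMono (by simp [Fin.lt_def]) }
      exact Order.le_krullDim_iff.2 ⟨c', rfl⟩
    haveI : IsLocalRing A' := IsLocalRing.of_surjective' (Ideal.Quotient.mk q) Ideal.Quotient.mk_surjective
    haveI : HenselianLocalRing A' := HopfQuot.UnitComp.henselianLocalRing_of_finite (R := A) A'
    -- the one dimensional localization
    let T := Localization.AtPrime q
    haveI : IsDomain T := IsLocalization.isDomain_localization q.primeCompl_le_nonZeroDivisors
    haveI : IsNoetherianRing T := IsLocalization.isNoetherianRing q.primeCompl T inferInstance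
    haveI : Ring.KrullDimLE 1 T := by
      rw [Ring.krullDimLE_iff, IsLocalization.AtPrime.ringKrullDim_eq_height q T]
      exact WithBot.coe_le_coe.2 hht
    have hT : ¬ IsField T := fun hf => by
      have h1 := IsLocalRing.isField_iff_maximalIdeal_eq.1 hf
      have h2 := IsLocalization.AtPrime.comap_maximalIdeal (S := T) q
      rw [h1, Ideal.under_def, Ideal.comap_bot_of_injective _
        (IsLocalization.injective T q.primeCompl_le_nonZeroDivisors)] at h2
      exact hq0 h2.symm
    have hKT : Dix.CohDimLEAt (Spec (CommRingCat.of (FractionRing T))) ℓ d :=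
      cohDim_localization hℓ A T (FractionRing A) q.primeCompl q.primeCompl_le_nonZeroDivisors hK
    obtain ⟨hd, L, _, _, hfin, hL⟩ := exists_finite_residue T hT hℓ (by
      have := hu.map (algebraMap A T)
      rwa [map_natCast] at this) hKT
    letI : Algebra A' L := ((algebraMap q.ResidueField L).comp (algebraMap A' q.ResidueField)).toAlgebra
    haveI : FaithfulSMul A' L := (faithfulSMul_iff_algebraMap_injective A' L).2
      ((algebraMap q.ResidueField L).injective.comp (IsFractionRing.injective A' q.ResidueField))
    letI : Algebra (FractionRing A') L :=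
      ((algebraMap q.ResidueField L).comp (FractionRing.algEquiv A' q.ResidueField).toRingEquiv.toRingHom).toAlgebra
    haveI : IsScalarTower A' (FractionRing A') L := IsScalarTower.of_algebraMap_eq fun a => by
      show _ = algebraMap q.ResidueField L ((FractionRing.algEquiv A' q.ResidueField) (algebraMap A' _ a))
      rw [AlgEquiv.commutes]
      rfl
    haveI : Module.Finite (FractionRing A') L := by
      have h1 : (algebraMap q.ResidueField L).Finite := RingHom.finite_algebraMap.2 hfin
      exact RingHom.finite_algebraMap.1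
        (h1.comp (RingHom.Finite.of_surjective _ (FractionRing.algEquiv A' q.ResidueField).surjective))
    obtain ⟨B, hB, hBL⟩ := exists_finite_domain A' L
    haveI := hB
    haveI := hBL
    haveI : IsLocalRing B := HenselLib.Olivier.isLocalRing_of_integral_domain (A := A') B
    haveI : HenselianLocalRing B := HopfQuot.UnitComp.henselianLocalRing_of_finite (R := A') B
    haveI : IsNoetherianRing B := IsNoetherianRing.of_finite A' B
    have hinjB : Function.Injective (algebraMap A' B) := fun a b h =>
      FaithfulSMul.algebraMap_injective A' L (congrArg Subtype.val h)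
    haveI : FaithfulSMul A' B := (faithfulSMul_iff_algebraMap_injective A' B).2 hinjB
    haveI : IsLocalHom (algebraMap A' B) := Algebra.IsIntegral.isLocalHom A' B
    haveI : IsSepClosed (ResidueField B) := by
      haveI : IsLocalHom (Ideal.Quotient.mk q) := IsLocalHom.of_surjective _ Ideal.Quotient.mk_surjective
      let φ : ResidueField A →+* ResidueField A' := IsLocalRing.ResidueField.map (Ideal.Quotient.mk q)
      have hφ : Function.Surjective φ := fun z => by
        obtain ⟨a, rfl⟩ := residue_surjective z
        obtain ⟨a, rfl⟩ := Ideal.Quotient.mk_surjective a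
        exact ⟨residue A a, rfl⟩
      haveI : IsSepClosed (ResidueField A') :=
        CdDev9.isSepClosed_ringEquiv (RingEquiv.ofBijective φ ⟨φ.injective, hφ⟩)
      exact Algebra.IsAlgebraic.isSepClosed (F := ResidueField A') (E := ResidueField B)
    have hdimB : (m : WithBot ℕ∞) ≤ ringKrullDim B := by
      rw [← DimLib.ringKrullDim_eq_of_isIntegral (R := A') (S := B) hinjB]
      exact hm'
    have huB : IsUnit (ℓ : B) := by
      have := (hu.map (Ideal.Quotient.mk q)).map (algebraMap A' B)
      rwa [map_natCast, map_natCast] at this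
    have hBcd : Dix.CohDimLEAt (Spec (CommRingCat.of (FractionRing B))) ℓ (d - 1) := by
      let e : FractionRing B ≃+* L := (FractionRing.algEquiv B L).toRingEquiv
      let π : Spec (CommRingCat.of (FractionRing B)) ⟶ Spec (CommRingCat.of L) :=
        Spec.map e.toCommRingCatIso.inv
      haveI : IsFinite π := inferInstance
      exact Transc.cohDimLEAt_of_cdKilled hℓ fun r hr => (Transc.cdKilled_of_cohDimLEAt hL hr).of_finite π
    have := ih B huB hdimB (d - 1) hBcd
    omega

end Groth.Agent.CdDev9.LowerBound
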