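import Mathlib.Algebra.Order.Ring.Ordering.Basic
import Mathlib.Algebra.Ring.Semireal.Defs
import Mathlib.Order.Zorn
import Mathlib.Tactic.Ring
import Mathlib.Tactic.LinearCombination
import Mathlib.Algebra.Order.Ring.Defs
import Mathlib.Algebra.Order.Monoid.Unbundled.Basic
import Mathlib.Algebra.Field.Basic
import Mathlib.Algebra.BigOperators.Fin

/-!
The theorem of Artin and Schreier: formally real fields are orderable.
-/

set_option autoImplicit false
set_option linter.all false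

universe u

namespace Groth.Agent.CdDev9.Semireal

variable {K : Type u} [Field K]

/-- A set of elements which may serve as nonnegative cone. -/
structure IsCone (P : Set K) : Prop where
  add : ∀ {a b}, a ∈ P → b ∈ P → a + b ∈ P
  mul : ∀ {a b}, a ∈ P → b ∈ P → a * b ∈ P
  sq : ∀ a, a * a ∈ P
  neg_one : (-1 : K) ∉ P

theorem isCone_sumSq (h : ¬ IsSumSq (-1 : K)) : IsCone {a : K | IsSumSq a} :=
  ⟨fun ha hb => ha.add hb, fun ha hb => ha.mul hb, fun a => IsSumSq.mul_self a, h⟩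

theorem exists_maximal (h : ¬ IsSumSq (-1 : K)) :
    ∃ P : Set K, IsCone P ∧ ∀ Q : Set K, IsCone Q → P ⊆ Q → Q = P := by
  obtain ⟨P, -, hP⟩ := zorn_subset_nonempty {P : Set K | IsCone P} (fun c hc hchain hne => by
    refine ⟨⋃₀ c, ⟨?_, ?_, ?_, ?_⟩, fun s hs => Set.subset_sUnion_of_mem hs⟩
    · rintro a b ⟨s, hs, ha⟩ ⟨t, ht, hb⟩
      rcases hchain.total hs ht with hle | hle
      · exact ⟨t, ht, (hc ht).add (hle ha) hb⟩
      · exact ⟨s, hs, (hc hs).add ha (hle hb)⟩
    · rintro a b ⟨s, hs, ha⟩ ⟨t, ht, hb⟩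
      rcases hchain.total hs ht with hle | hle
      · exact ⟨t, ht, (hc ht).mul (hle ha) hb⟩
      · exact ⟨s, hs, (hc hs).mul ha (hle hb)⟩
    · intro a
      obtain ⟨s, hs⟩ := hne
      exact ⟨s, hs, (hc hs).sq a⟩
    · rintro ⟨s, hs, hm⟩
      exact (hc hs).neg_one hm) _ (isCone_sumSq h)
  exact ⟨P, hP.prop, fun Q hQ hle => (hP.eq_of_subset hQ hle).symm⟩

theorem IsCone.mem_or_neg_mem {P : Set K} (hP : IsCone P) (hmax : ∀ Q : Set K, IsCone Q → P ⊆ Q → Q = P) (x : K) :
    x ∈ P ∨ -x ∈ P := by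
  have hone : (1 : K) ∈ P := by simpa using hP.sq 1
  have hzero : (0 : K) ∈ P := by simpa using hP.sq 0
  have key : ∀ y : K, y ∉ P → ∃ a ∈ P, ∃ b ∈ P, -1 = a + y * b := by
    intro y hy
    by_contra hcon
    push Not at hcon
    let Q : Set K := {z | ∃ a ∈ P, ∃ b ∈ P, z = a + y * b}
    have hQ : IsCone Q := by
      refine ⟨?_, ?_, ?_, ?_⟩
      · rintro _ _ ⟨a, ha, b, hb, rfl⟩ ⟨c, hc, d, hd, rfl⟩
        exact ⟨a + c, hP.add ha hc, b + d, hP.add hb hd, by ring⟩
      · rintro _ _ ⟨a, ha, b, hb, rfl⟩ ⟨c, hc, d, hd, rfl⟩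
        exact ⟨a * c + y * y * (b * d), hP.add (hP.mul ha hc) (hP.mul (hP.sq y) (hP.mul hb hd)),
          a * d + b * c, hP.add (hP.mul ha hd) (hP.mul hb hc), by ring⟩
      · exact fun a => ⟨a * a, hP.sq a, 0, hzero, by ring⟩
      · rintro ⟨a, ha, b, hb, he⟩
        exact hcon a ha b hb he
    have hQP := hmax Q hQ fun a ha => ⟨a, ha, 0, hzero, by ring⟩
    exact hy (hQP ▸ ⟨0, hzero, 1, hone, by ring⟩)
  by_contra hcon
  push Not at hcon
  obtain ⟨a, ha, b, hb, h1⟩ := key x hcon.1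
  obtain ⟨c, hc, d, hd, h2⟩ := key (-x) hcon.2
  refine hP.neg_one ?_
  rw [show (-1 : K) = a + c + a * c + x * x * (b * d) by linear_combination (1 + c) * h1 + (-x * b) * h2 + (0 : K) * h1]
  exact hP.add (hP.add (hP.add ha hc) (hP.mul ha hc)) (hP.mul (hP.sq x) (hP.mul hb hd))

/-- Formally real fields are orderable. -/
theorem exists_order (h : ¬ IsSumSq (-1 : K)) : ∃ _ : LinearOrder K, IsStrictOrderedRing K := by
  classical
  obtain ⟨P, hP, hmax⟩ := exists_maximal h
  have hzero : (0 : K) ∈ P := by simpa using hP.sq 0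
  have hanti : ∀ a, a ∈ P → -a ∈ P → a = 0 := fun a ha hna => by
    by_contra h0
    refine hP.neg_one ?_
    rw [show (-1 : K) = -a * a * (a⁻¹ * a⁻¹) by field_simp]
    exact hP.mul (hP.mul hna ha) (hP.sq _)
  letI lo : LinearOrder K :=
    { le := fun a b => b - a ∈ P
      le_refl := fun a => by show a - a ∈ P; rw [sub_self]; exact hzero
      le_trans := fun a b c hab hbc => by
        show c - a ∈ P
        rw [show c - a = (b - a) + (c - b) by ring]
        exact hP.add hab hbc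
      le_antisymm := fun a b hab hba => by
        have := hanti (b - a) hab (by rw [neg_sub]; exact hba)
        exact (sub_eq_zero.1 this).symm
      le_total := fun a b => by
        show b - a ∈ P ∨ a - b ∈ P
        rcases hP.mem_or_neg_mem hmax (b - a) with h1 | h1
        · exact Or.inl h1
        · exact Or.inr (by rwa [neg_sub] at h1)
      toDecidableLE := Classical.decRel _ }
  refine ⟨lo, ?_⟩
  haveI : IsOrderedAddMonoid K :=
    { add_le_add_left := fun a b hab c => by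
        show (b + c) - (a + c) ∈ P
        rw [add_sub_add_right_eq_sub]
        exact hab }
  haveI : ZeroLEOneClass K := ⟨by show (1 : K) - 0 ∈ P; rw [sub_zero]; simpa using hP.sq 1⟩
  refine IsStrictOrderedRing.of_mul_pos fun a b ha hb => ?_
  rw [lt_iff_le_and_ne] at ha hb ⊢
  refine ⟨?_, (mul_ne_zero (Ne.symm ha.2) (Ne.symm hb.2)).symm⟩
  show a * b - 0 ∈ P
  have h1 : a ∈ P := sub_zero a ▸ (ha.1 : a - 0 ∈ P)
  have h2 : b ∈ P := sub_zero b ▸ (hb.1 : b - 0 ∈ P)
  rw [sub_zero]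
  exact hP.mul h1 h2

/-- Sums of squares as finite families. -/
theorem exists_sum_sq {a : K} (h : IsSumSq a) : ∃ (n : ℕ) (x : Fin n → K), ∑ i, x i ^ 2 = a := by
  induction h with
  | zero => exact ⟨0, Fin.elim0, by simp⟩
  | sq_add b hs ih =>
    obtain ⟨n, x, rfl⟩ := ih
    exact ⟨n + 1, Fin.cons b x, by rw [Fin.sum_univ_succ]; simp [sq]⟩

end Groth.Agent.CdDev9.Semireal
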