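import Groth.Agent.CdDev9.SerreLift
import Groth.Agent.CdDev9.TranscStep
import Groth.Agent.CdDev9.Semireal
import Mathlib.FieldTheory.KummerExtension
import Mathlib.RingTheory.ZMod.UnitsCyclic
import Mathlib.GroupTheory.Sylow
import Mathlib.FieldTheory.IsAlgClosed.AlgebraicClosure
import Mathlib.FieldTheory.PurelyInseparable.Basic

/-!
The cohomological dimension of a field does not drop under finite extensions (Serre).
-/

set_option autoImplicit false
set_option linter.all false
set_option backward.isDefEq.respectTransparency.types false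
set_option backward.isDefEq.respectTransparency false
set_option backward.defeqAttrib.useBackward true
set_option synthInstance.maxHeartbeats 400000
set_option maxHeartbeats 1000000

universe u

open CategoryTheory CategoryTheory.Limits CategoryTheory.Abelian AlgebraicGeometry Opposite
open Groth.Agent.Et18 Groth.Agent.Et18.CdField
open Groth.Agent.GalEt

noncomputable section

namespace Groth.Agent.CdDev9.Serre

/-- Vanishing above `d` for sheaves killed by `ℓ`. -/
abbrev Cd (K : Type u) [Field K] (ℓ d : ℕ) : Prop := CdKilled (Spec (CommRingCat.of K)) ℓ d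

theorem cd_up (K L : Type u) [Field K] [Field L] [Algebra K L] [Module.Finite K L] {ℓ d : ℕ}
    (h : Cd K ℓ d) : Cd L ℓ d := h.of_finite (mor K L)

theorem cd_ringEquiv {K L : Type u} [Field K] [Field L] (e : K ≃+* L) {ℓ d : ℕ} (h : Cd K ℓ d) : Cd L ℓ d := by
  let π : Spec (CommRingCat.of L) ⟶ Spec (CommRingCat.of K) := Spec.map e.toCommRingCatIso.hom
  haveI : IsFinite π := inferInstance
  exact h.of_finite π

theorem cd_radicial (K L : Type u) [Field K] [Field L] [Algebra K L] [Module.Finite K L] [IsPurelyInseparable K L]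
    {ℓ d : ℕ} (h : Cd L ℓ d) : Cd K ℓ d := by
  haveI : UniversallyInjective (H8Lim.algSpec K L) := H8Lim.universallyInjective_algSpec K L
  haveI : UniversallyInjective (mor K L) := inferInstanceAs (UniversallyInjective (H8Lim.algSpec K L))
  exact h.of_universalHomeomorph (mor K L)

theorem cd_coprime (K L : Type u) [Field K] [Field L] [Algebra K L] [Module.Finite K L] [Algebra.IsSeparable K L]
    {ℓ d : ℕ} (hℓ : ℓ.Prime) (hdeg : ¬ ℓ ∣ Module.finrank K L) (h : Cd L ℓ d) : Cd K ℓ d := by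
  intro F hF q hq
  refine GalEt.subsingleton_of_forall_eq_zero fun x => ?_
  haveI := etale_mor K L
  haveI : EtShriek.JCont (mor K L) := jCont (mor K L)
  have h0 : Subsingleton (EtCoh.H (Spec (CommRingCat.of L)) ((EtCoh.pull (mor K L)).obj F) q) :=
    h _ (map_killed _ hF) q hq
  exact GalEt.eq_zero_of_coprime (finrank_nsmul_eq_zero K L F q x (@Subsingleton.elim _ h0 _ _))
    (GalEt.nsmul_eq_zero_of_nsmul_id F ℓ hF q x) ((Nat.Prime.coprime_iff_not_dvd hℓ).2 hdeg).symm

/-- Cohomological dimension zero step: lowering to the dimension of an extension. -/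
theorem cd_of_cd_succ (K L : Type u) [Field K] [Field L] [Algebra K L] [Module.Finite K L] [Algebra.IsSeparable K L]
    {ℓ d m : ℕ} (hd : d ≤ m) (h : Cd L ℓ d) (hK : Cd K ℓ (m + 1)) : Cd K ℓ m := by
  intro F hF q hq
  rcases lt_or_eq_of_le (Nat.succ_le_of_lt hq) with h' | h'
  · exact hK F hF q h'
  subst h'
  obtain ⟨φ, hφ⟩ := exists_epi_push_pull K L F
  haveI := etale_mor K L
  haveI : EtShriek.JCont (mor K L) := jCont (mor K L)
  let S := ShortComplex.mk (kernel.ι φ) φ (kernel.condition φ)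
  have hS : S.ShortExact :=
    { exact := ShortComplex.exact_kernel φ
      mono_f := inferInstanceAs (Mono (kernel.ι φ))
      epi_g := hφ }
  have hP : ℓ • 𝟙 ((EtCoh.push (mor K L)).obj ((EtCoh.pull (mor K L)).obj F)) = 0 :=
    map_killed _ (map_killed _ hF)
  have h0 : Subsingleton (EtCoh.H (Spec (CommRingCat.of K)) S.X₂ (m + 1)) :=
    (CdField.subsingleton_H_push_iff (mor K L) _ (m + 1)).2 (h _ (map_killed _ hF) (m + 1) (by omega))
  refine GalEt.subsingleton_of_forall_eq_zero fun z => ?_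
  have h1 : Subsingleton (EtCoh.H (Spec (CommRingCat.of K)) S.X₁ (m + 2)) :=
    hK _ (killed_of_mono (kernel.ι φ) hP) (m + 2) (by omega)
  obtain ⟨y, hy⟩ := Ext.covariant_sequence_exact₃ _ hS z (rfl : m + 1 + 1 = m + 2) (@Subsingleton.elim _ h1 _ _)
  rw [← hy, @Subsingleton.elim _ h0 y 0, Ext.zero_comp]

/-- A cyclic extension of degree `ℓ` embedding in one of degree `ℓ²` does not lower `cd_ℓ`. -/
theorem cd_of_lift (K L M : Type u) [Field K] [Field L] [Field M] [Algebra K L] [Module.Finite K L] [IsGalois K L]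
    [Algebra K M] [Module.Finite K M] [IsGalois K M] [Algebra L M] [IsScalarTower K L M]
    (s : M ≃ₐ[K] M) (hs : ∀ τ, τ ∈ Subgroup.zpowers s) {ℓ d : ℕ}
    (hc : Nat.card (M ≃ₐ[K] M) = ℓ * Nat.card (L ≃ₐ[K] L)) (h : Cd L ℓ d) : Cd K ℓ d := by
  haveI := etale_mor K L
  haveI : EtShriek.JCont (mor K L) := jCont (mor K L)
  have h2 : Cd K ℓ (d + 2) := fun F hF q hq => by
    obtain ⟨n, rfl⟩ : ∃ n, q = n + 3 := ⟨q - 3, by omega⟩
    exact subsingleton_H_of_lift K L M s hs ℓ hc n F
      (fun x => GalEt.nsmul_eq_zero_of_nsmul_id F ℓ hF (n + 1) x)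
      (h _ (map_killed _ hF) (n + 2) (by omega)) (h _ (map_killed _ hF) (n + 3) (by omega))
  exact cd_of_cd_succ K L le_rfl h (cd_of_cd_succ K L (Nat.le_succ d) h h2)

/-- An automorphism fixing a generator fixes the field it generates. -/
theorem apply_eq_of_mem_adjoin {K Ω : Type u} [Field K] [Field Ω] [Algebra K Ω] (f : Ω ≃ₐ[K] Ω) {r : Ω}
    (h : f r = r) {y : Ω} (hy : y ∈ IntermediateField.adjoin K {r}) : f y = y := by
  induction hy using IntermediateField.adjoin_induction with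
  | mem x hx => obtain rfl : x = r := hx; exact h
  | algebraMap c => exact f.commutes c
  | add x y _ _ hx hy => rw [map_add, hx, hy]
  | inv x _ hx => rw [map_inv₀, hx]
  | mul x y _ _ hx hy => rw [map_mul, hx, hy]

/-- The lifting criterion by a radical. -/
theorem cd_of_radical (K : Type u) [Field K] (L : IntermediateField K (AlgebraicClosure K)) [Module.Finite K L]
    [IsGalois K L] {ℓ d : ℕ} (hℓ : ℓ.Prime) (hℓK : (ℓ : K) ≠ 0) (hL : Module.finrank K L = ℓ)
    (ζ : K) (hζ : IsPrimitiveRoot ζ ℓ) (β : AlgebraicClosure K) (hβ : β ^ ℓ ∈ L)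
    (hmem : ∀ f : AlgebraicClosure K ≃ₐ[K] AlgebraicClosure K, f β ∈ IntermediateField.adjoin K (insert β (L : Set (AlgebraicClosure K))))
    (hne : ∀ f : AlgebraicClosure K ≃ₐ[K] AlgebraicClosure K, (∃ x ∈ L, f x ≠ x) → f^[ℓ] β ≠ β)
    (h : Cd L ℓ d) : Cd K ℓ d := by
  classical
  let Ω := AlgebraicClosure K
  let M := IntermediateField.adjoin K (insert β (L : Set Ω))
  have hLM : L ≤ M := fun x hx => IntermediateField.subset_adjoin K _ (Set.mem_insert_of_mem _ hx)
  letI : Algebra L M := (IntermediateField.inclusion hLM).toRingHom.toAlgebra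
  haveI : IsScalarTower K L M := IsScalarTower.of_algebraMap_eq' rfl
  haveI : IsScalarTower L M Ω := IsScalarTower.of_algebraMap_eq' rfl
  have hcard : Nat.card (L ≃ₐ[K] L) = ℓ := by rw [IsGalois.card_aut_eq_finrank, hL]
  haveI : Fact ℓ.Prime := ⟨hℓ⟩
  obtain ⟨σ, hσ⟩ : ∃ σ : L ≃ₐ[K] L, σ ≠ 1 := by
    by_contra hall
    push Not at hall
    haveI : Subsingleton (L ≃ₐ[K] L) := ⟨fun a b => (hall a).trans (hall b).symm⟩
    exact hℓ.ne_one (hcard.symm.trans Nat.card_unique)
  obtain ⟨x, hx⟩ : ∃ x, σ x ≠ x := by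
    by_contra hall
    push Not at hall
    exact hσ (AlgEquiv.ext hall)
  haveI : Normal K Ω := IsAlgClosure.normal K Ω
  let f : Ω ≃ₐ[K] Ω := σ.liftNormal Ω
  have hf : ∀ y : L, f y = σ y := fun y => σ.liftNormal_commutes Ω y
  have hfβ : f^[ℓ] β ≠ β := hne f ⟨x, x.2, fun he => hx (Subtype.ext ((hf x).symm.trans he))⟩
  have hfL : ∀ n (y : L), f^[n] (y : Ω) = ((σ ^ n) y : L) := fun n => by
    induction n with
    | zero => exact fun y => rfl
    | succ n ih => intro y; rw [Function.iterate_succ', Function.comp_apply, ih, hf, pow_succ']; rfl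
  have hσℓ : σ ^ ℓ = 1 := hcard ▸ pow_card_eq_one'
  have hβL : β ∉ L := fun hb => hfβ (by rw [hfL ℓ ⟨β, hb⟩, hσℓ]; rfl)
  have hirr : Irreducible (Polynomial.X ^ ℓ - Polynomial.C (⟨β ^ ℓ, hβ⟩ : L)) := by
    refine X_pow_sub_C_irreducible_of_prime hℓ fun b hb => hβL ?_
    have hb' : (b : Ω) ^ ℓ = β ^ ℓ := congrArg Subtype.val hb
    have hb0 : (b : Ω) ≠ 0 := fun h0 => hfβ (by
      rw [h0, zero_pow hℓ.pos.ne'] at hb'
      rw [eq_zero_of_pow_eq_zero hb'.symm, show (f^[ℓ] (0 : Ω)) = 0 from Function.iterate_fixed (map_zero f) ℓ])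
    obtain ⟨i, -, hi⟩ := (hζ.map_of_injective (algebraMap K Ω).injective).eq_pow_of_pow_eq_one
      (show (β / b) ^ ℓ = 1 by rw [div_pow, hb', div_self (hb' ▸ pow_ne_zero _ hb0)])
    rw [eq_div_iff hb0] at hi
    rw [← hi, ← map_pow]
    exact L.mul_mem (L.algebraMap_mem _) b.2
  have hint : IsIntegral L β := Algebra.IsIntegral.isIntegral β
  have hmin : minpoly L β = Polynomial.X ^ ℓ - Polynomial.C (⟨β ^ ℓ, hβ⟩ : L) :=
    (minpoly.eq_of_irreducible_of_monic hirr (by simp) (Polynomial.monic_X_pow_sub_C _ hℓ.pos.ne')).symm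
  have hMadj : M = (IntermediateField.adjoin L {β}).restrictScalars K := by
    rw [IntermediateField.restrictScalars_adjoin]
    show IntermediateField.adjoin K _ = IntermediateField.adjoin K _
    rw [Set.insert_eq, Set.union_comm]
  haveI : Algebra.IsSeparable L (IntermediateField.adjoin L {β}) := by
    rw [IntermediateField.isSeparable_adjoin_simple_iff_isSeparable, IsSeparable, hmin]
    refine Polynomial.separable_X_pow_sub_C _ (fun h0 => hℓK ((algebraMap K L).injective (by rwa [map_natCast, map_zero]))) ?_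
    exact fun h0 => hfβ (by
      have hβ0 : β = 0 := eq_zero_of_pow_eq_zero (congrArg Subtype.val h0)
      rw [hβ0]; exact Function.iterate_fixed (map_zero f) ℓ)
  haveI : FiniteDimensional L (IntermediateField.adjoin L {β}) := IntermediateField.adjoin.finiteDimensional hint
  let eM : M ≃ₐ[K] (IntermediateField.adjoin L {β}).restrictScalars K := IntermediateField.equivOfEq hMadj
  haveI : Algebra.IsSeparable K ((IntermediateField.adjoin L {β}).restrictScalars K) :=
    Algebra.IsSeparable.trans K L (IntermediateField.adjoin L {β})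
  haveI : Module.Finite K ((IntermediateField.adjoin L {β}).restrictScalars K) :=
    Module.Finite.trans L (IntermediateField.adjoin L {β})
  haveI : Algebra.IsSeparable K M := AlgEquiv.Algebra.isSeparable eM.symm
  haveI : Module.Finite K M := Module.Finite.equiv eM.symm.toLinearEquiv
  have hstable : ∀ g : Ω ≃ₐ[K] Ω, ∀ y ∈ M, g y ∈ M := fun g => by
    have hle : M ≤ M.comap g.toAlgHom := by
      refine IntermediateField.adjoin_le_iff.2 ?_
      rintro y (rfl | hy)
      · exact hmem g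
      · refine hLM ?_
        have := (g.toAlgHom.restrictNormal L ⟨y, hy⟩).2
        rwa [show ((g.toAlgHom.restrictNormal L ⟨y, hy⟩ : L) : Ω) = g y from
          g.toAlgHom.restrictNormal_commutes L ⟨y, hy⟩] at this
    exact fun y hy => hle hy
  haveI : Normal K M := by
    rw [IntermediateField.normal_iff_forall_fieldRange_le]
    rintro g _ ⟨y, rfl⟩
    obtain ⟨g', hg'⟩ : ∃ g' : Ω ≃ₐ[K] Ω, ∀ z : M, g' z = g z :=
      ⟨AlgEquiv.ofBijective _ (Algebra.IsAlgebraic.algHom_bijective (g.liftNormal Ω)), fun z => g.liftNormal_commutes Ω z⟩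
    exact (hg' y) ▸ hstable g' y y.2
  haveI : IsGalois K M := ⟨⟩
  let s : M ≃ₐ[K] M := f.restrictNormal M
  have hsf : ∀ n (y : M), ((s ^ n) y : Ω) = f^[n] y := fun n => by
    induction n with
    | zero => exact fun y => rfl
    | succ n ih =>
      intro y
      rw [Function.iterate_succ', Function.comp_apply, ← ih, pow_succ']
      exact f.restrictNormal_commutes M _
  have hMdeg : Nat.card (M ≃ₐ[K] M) = ℓ * ℓ := by
    rw [IsGalois.card_aut_eq_finrank, eM.toLinearEquiv.finrank_eq]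
    show Module.finrank K (IntermediateField.adjoin L {β}) = _
    rw [← Module.finrank_mul_finrank K L, hL, IntermediateField.adjoin.finrank hint, hmin,
      Polynomial.natDegree_X_pow_sub_C]
  refine cd_of_lift K L M s (fun τ => ?_) (by rw [hMdeg, hcard]) h
  have hord : orderOf s = ℓ ^ (1 + 1) := by
    refine orderOf_eq_prime_pow (fun h0 => hfβ ?_) ?_
    · rw [pow_one] at h0
      have := hsf ℓ ⟨β, IntermediateField.subset_adjoin K _ (Set.mem_insert _ _)⟩
      rw [h0] at this
      exact this.symm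
    · rw [show ℓ ^ (1 + 1) = Nat.card (M ≃ₐ[K] M) by rw [hMdeg]; ring]
      exact pow_card_eq_one'
  have htop : Subgroup.zpowers s = ⊤ := by
    refine Subgroup.eq_top_of_card_eq _ ?_
    rw [Nat.card_zpowers, hord, hMdeg]
    ring
  rw [htop]
  trivial

/-- Kummer extensions when `μ_{ℓ²}` is in the field. -/
theorem cd_kummer (K L : Type u) [Field K] [Field L] [Algebra K L] [Module.Finite K L] [IsGalois K L]
    {ℓ d : ℕ} (hℓ : ℓ.Prime) (hℓK : (ℓ : K) ≠ 0) (hL : Module.finrank K L = ℓ)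
    (ζ : K) (hζ : IsPrimitiveRoot ζ (ℓ ^ 2)) (h : Cd L ℓ d) : Cd K ℓ d := by
  classical
  haveI := Fact.mk hℓ
  have hζ1 : IsPrimitiveRoot (ζ ^ ℓ) ℓ := hζ.pow (pow_pos hℓ.pos 2) (sq ℓ)
  haveI : IsCyclic Gal(L/K) := isCyclic_of_prime_card (p := ℓ) (by rw [IsGalois.card_aut_eq_finrank, hL])
  obtain ⟨α, ⟨a, ha⟩, hα⟩ := exists_root_adjoin_eq_top_of_isCyclic K L
    ⟨ζ ^ ℓ, by rw [hL]; exact (mem_primitiveRoots hℓ.pos).2 hζ1⟩
  rw [hL] at ha
  let Ω := AlgebraicClosure K
  let ι : L →ₐ[K] Ω := IsAlgClosed.lift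
  let L₁ := ι.fieldRange
  let e : L ≃ₐ[K] L₁ := AlgEquiv.ofInjectiveField ι
  haveI : Module.Finite K L₁ := Module.Finite.equiv e.toLinearEquiv
  haveI : IsGalois K L₁ := IsGalois.of_algEquiv e
  obtain ⟨β, hβ⟩ := IsAlgClosed.exists_pow_nat_eq (ι α) hℓ.pos
  have hroot : IsPrimitiveRoot (algebraMap K Ω ζ) (ℓ ^ 2) := hζ.map_of_injective (algebraMap K Ω).injective
  have hα0 : α ≠ 0 := fun h0 => by
    subst h0
    rw [IntermediateField.adjoin_zero] at hα
    have h1 := IntermediateField.finrank_bot (F := K) (E := L)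
    rw [hα, IntermediateField.finrank_top', hL] at h1
    exact hℓ.ne_one h1
  have hβ0 : β ≠ 0 := fun h0 => hα0 ((map_eq_zero ι.toRingHom).1 (show ι α = 0 by rw [← hβ, h0, zero_pow hℓ.pos.ne']))
  have hf : ∀ f : Ω ≃ₐ[K] Ω, ∃ k : ℕ, f β = algebraMap K Ω (ζ ^ k) * β := fun f => by
    obtain ⟨k, -, hk⟩ := hroot.eq_pow_of_pow_eq_one (show (f β / β) ^ (ℓ ^ 2) = 1 by
      rw [div_pow, div_eq_one_iff_eq (pow_ne_zero _ hβ0), ← map_pow, sq, pow_mul, hβ, ← map_pow, ← ha,
        ι.commutes, f.commutes])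
    exact ⟨k, by rw [map_pow, hk, div_mul_cancel₀ _ hβ0]⟩
  refine cd_of_radical K L₁ hℓ hℓK (by rw [← e.toLinearEquiv.finrank_eq, hL]) (ζ ^ ℓ) hζ1 β
    (hβ ▸ ⟨α, rfl⟩) (fun f => ?_) (fun f hfne => ?_) (cd_ringEquiv e.toRingEquiv h)
  · obtain ⟨k, hk⟩ := hf f
    rw [hk]
    exact IntermediateField.mul_mem _ (IntermediateField.algebraMap_mem _ _)
      (IntermediateField.subset_adjoin K _ (Set.mem_insert _ _))
  · obtain ⟨k, hk⟩ := hf f
    have hiter : ∀ n, f^[n] β = algebraMap K Ω (ζ ^ k) ^ n * β := fun n => by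
      induction n with
      | zero => simp
      | succ n ih => rw [Function.iterate_succ', Function.comp_apply, ih, map_mul, map_pow, f.commutes, hk]; ring
    intro hfix
    rw [hiter] at hfix
    have h1 : algebraMap K Ω (ζ ^ k) ^ ℓ = 1 := mul_right_cancel₀ hβ0 (hfix.trans (one_mul _).symm)
    have hfα : f (ι α) = ι α := by
      rw [← hβ, map_pow, hk, mul_pow, h1, one_mul]
    obtain ⟨x, ⟨x', rfl⟩, hxne⟩ := hfne
    refine hxne ?_
    refine apply_eq_of_mem_adjoin f hfα ?_
    have hm : ι x' ∈ (IntermediateField.adjoin K {α}).map ι := ⟨x', hα ▸ IntermediateField.mem_top, rfl⟩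
    rwa [IntermediateField.adjoin_map, Set.image_singleton] at hm

/-- Galois extensions of `ℓ`-power degree when `μ_{ℓ²}` is in the field. -/
theorem cd_pgroup {ℓ d : ℕ} (hℓ : ℓ.Prime) :
    ∀ (n : ℕ) (K N : Type u) [Field K] [Field N] [Algebra K N] [Module.Finite K N] [IsGalois K N],
      (ℓ : K) ≠ 0 → (∃ ζ : K, IsPrimitiveRoot ζ (ℓ ^ 2)) → Module.finrank K N = ℓ ^ n → Cd N ℓ d → Cd K ℓ d := by
  haveI := Fact.mk hℓ
  intro n
  induction n with
  | zero =>
    intro K N _ _ _ _ _ hℓK _ hdeg h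
    exact cd_coprime K N hℓ (by rw [hdeg, pow_zero]; exact hℓ.not_dvd_one) h
  | succ n ih =>
    intro K N _ _ _ _ _ hℓK ⟨ζ, hζ⟩ hdeg h
    have hcard : Nat.card Gal(N/K) = ℓ ^ (n + 1) := by rw [IsGalois.card_aut_eq_finrank, hdeg]
    have hp : IsPGroup ℓ Gal(N/K) := IsPGroup.of_card hcard
    haveI : Nontrivial Gal(N/K) := Finite.one_lt_card_iff_nontrivial.1 (by
      rw [hcard]; exact Nat.one_lt_pow n.succ_ne_zero hℓ.one_lt)
    haveI := hp.center_nontrivial
    obtain ⟨j, hj⟩ := IsPGroup.iff_card.1 (hp.to_subgroup (Subgroup.center Gal(N/K)))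
    have hj0 : j ≠ 0 := fun h0 => by
      subst h0
      rw [pow_zero, Nat.card_eq_one_iff_unique] at hj
      exact not_subsingleton (Subgroup.center Gal(N/K)) hj.1
    obtain ⟨z, hz⟩ := exists_prime_orderOf_dvd_card' (G := Subgroup.center Gal(N/K)) ℓ (hj ▸ dvd_pow_self ℓ hj0)
    let H := Subgroup.zpowers (z : Gal(N/K))
    haveI : H.Normal := ⟨fun x hx g => by
      have hc : x ∈ Subgroup.center Gal(N/K) := (Subgroup.zpowers_le.2 z.2) hx
      rw [(Subgroup.mem_center_iff.1 hc g), mul_inv_cancel_right]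
      exact hx⟩
    have hH : Nat.card H = ℓ := by rw [Nat.card_zpowers, Subgroup.orderOf_coe, hz]
    let L := IntermediateField.fixedField H
    haveI : IsGalois K L := IsGalois.of_fixedField_normal_subgroup H
    have hNL : Module.finrank L N = ℓ := by rw [IntermediateField.finrank_fixedField_eq_card, hH]
    have hLK : Module.finrank K L = ℓ ^ n := by
      have := Module.finrank_mul_finrank K L N
      rw [hNL, hdeg, pow_succ] at this
      exact Nat.eq_of_mul_eq_mul_right hℓ.pos this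
    have hℓL : (ℓ : L) ≠ 0 := fun h0 => hℓK ((algebraMap K L).injective (by rwa [map_natCast, map_zero]))
    exact ih K L hℓK ⟨ζ, hζ⟩ hLK
      (cd_kummer L N hℓ hℓL hNL (algebraMap K L ζ) (hζ.map_of_injective (algebraMap K L).injective) h)

/-- Serre's theorem when `μ_{ℓ²}` is in the field. -/
theorem cd_of_roots (K E : Type u) [Field K] [Field E] [Algebra K E] [Module.Finite K E] {ℓ d : ℕ} (hℓ : ℓ.Prime)
    (hℓK : (ℓ : K) ≠ 0) (hroot : ∃ ζ : K, IsPrimitiveRoot ζ (ℓ ^ 2)) (h : Cd E ℓ d) : Cd K ℓ d := by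
  haveI := Fact.mk hℓ
  let S := separableClosure K E
  have hS : Cd S ℓ d := cd_radicial S E h
  let ι : S →ₐ[K] SeparableClosure K := IsSepClosed.lift
  letI : Algebra S (SeparableClosure K) := ι.toRingHom.toAlgebra
  haveI : IsScalarTower K S (SeparableClosure K) := IsScalarTower.of_algebraMap_eq' ι.comp_algebraMap.symm
  let N := IntermediateField.normalClosure K S (SeparableClosure K)
  haveI : Module.Finite S N := Module.Finite.of_restrictScalars_finite K S N
  have hN : Cd N ℓ d := cd_up S N hS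
  let P : Sylow ℓ Gal(N/K) := default
  let L := IntermediateField.fixedField (P : Subgroup Gal(N/K))
  haveI : Algebra.IsSeparable K L := Algebra.isSeparable_tower_bot_of_isSeparable K L N
  have hidx : ¬ ℓ ∣ Module.finrank K L := by
    rw [IntermediateField.finrank_eq_fixingSubgroup_index, IntermediateField.fixingSubgroup_fixedField]
    exact P.not_dvd_index
  obtain ⟨a, ha⟩ : ∃ a, Module.finrank L N = ℓ ^ a := by
    rw [IntermediateField.finrank_fixedField_eq_card]
    exact IsPGroup.iff_card.1 P.isPGroup'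
  obtain ⟨ζ, hζ⟩ := hroot
  refine cd_coprime K L hℓ hidx (cd_pgroup hℓ a L N ?_ ⟨_, hζ.map_of_injective (algebraMap K L).injective⟩ ha hN)
  exact fun h0 => hℓK ((algebraMap K L).injective (by rwa [map_natCast, map_zero]))

/-- Adjoining the roots of unity keeps the hypothesis. -/
theorem exists_cd_adjoin (K E : Type u) [Field K] [Field E] [Algebra K E] [Module.Finite K E] {ℓ d : ℕ}
    (hℓ : ℓ.Prime) (hℓK : (ℓ : K) ≠ 0) (h : Cd E ℓ d) (S : IntermediateField K (AlgebraicClosure K))
    [Module.Finite K S] (hS : ∃ ζ : S, IsPrimitiveRoot ζ (ℓ ^ 2)) : Cd S ℓ d := by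
  let ι : E →ₐ[K] AlgebraicClosure K := IsAlgClosed.lift
  let e : E ≃ₐ[K] ι.fieldRange := AlgEquiv.ofInjectiveField ι
  haveI : FiniteDimensional K ι.fieldRange := Module.Finite.equiv e.toLinearEquiv
  let T := ι.fieldRange ⊔ S
  haveI : FiniteDimensional K T := IntermediateField.finiteDimensional_sup _ _
  letI : Algebra ι.fieldRange T := (IntermediateField.inclusion le_sup_left).toRingHom.toAlgebra
  haveI : IsScalarTower K ι.fieldRange T := IsScalarTower.of_algebraMap_eq' rfl
  haveI : Module.Finite ι.fieldRange T := Module.Finite.of_restrictScalars_finite K _ _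
  letI : Algebra S T := (IntermediateField.inclusion le_sup_right).toRingHom.toAlgebra
  haveI : IsScalarTower K S T := IsScalarTower.of_algebraMap_eq' rfl
  haveI : Module.Finite S T := Module.Finite.of_restrictScalars_finite K _ _
  exact cd_of_roots S T hℓ (fun h0 => hℓK ((algebraMap K S).injective (by rwa [map_natCast, map_zero]))) hS
    (cd_up ι.fieldRange T (cd_ringEquiv e.toRingEquiv h))

/-- Odd primes. -/
theorem cd_cyclotomic (K : Type u) [Field K] {ℓ d : ℕ} (hℓ : ℓ.Prime) (hℓ2 : ℓ ≠ 2) (hℓK : (ℓ : K) ≠ 0)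
    (ζ₁ : K) (hζ₁ : IsPrimitiveRoot ζ₁ ℓ)
    (h : ∀ (S : IntermediateField K (AlgebraicClosure K)) [Module.Finite K S],
      (∃ ζ : S, IsPrimitiveRoot ζ (ℓ ^ 2)) → Cd S ℓ d) : Cd K ℓ d := by
  classical
  haveI := Fact.mk hℓ
  let Ω := AlgebraicClosure K
  haveI : NeZero ((ℓ ^ 3 : ℕ) : Ω) := ⟨by
    rw [← map_natCast (algebraMap K Ω)]
    exact (map_ne_zero _).2 (by push_cast; exact pow_ne_zero _ hℓK)⟩
  obtain ⟨ζ₃, hζ₃⟩ := HasEnoughRootsOfUnity.exists_primitiveRoot Ω (ℓ ^ 3)
  have hζ₂ : IsPrimitiveRoot (ζ₃ ^ ℓ) (ℓ ^ 2) := hζ₃.pow (pow_pos hℓ.pos 3) (by ring)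
  let z₂ : Ω := ζ₃ ^ ℓ
  have hint : IsIntegral K z₂ := Algebra.IsIntegral.isIntegral _
  let L := IntermediateField.adjoin K {z₂}
  haveI : FiniteDimensional K L := IntermediateField.adjoin.finiteDimensional hint
  have hz₂L : z₂ ∈ L := IntermediateField.mem_adjoin_simple_self K _
  have hLcd : Cd L ℓ d := h L ⟨⟨z₂, hz₂L⟩, IsPrimitiveRoot.coe_submonoidClass_iff.1 hζ₂⟩
  obtain ⟨i, -, hi⟩ := (hζ₁.map_of_injective (algebraMap K Ω).injective).eq_pow_of_pow_eq_one
    (show (z₂ ^ ℓ) ^ ℓ = 1 by rw [← pow_mul, ← sq]; exact hζ₂.pow_eq_one)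
  by_cases hK2 : ∃ b : K, b ^ ℓ = ζ₁ ^ i
  · obtain ⟨b, hb⟩ := hK2
    have hb0 : algebraMap K Ω b ≠ 0 := (map_ne_zero _).2 fun h0 => by
      rw [h0, zero_pow hℓ.pos.ne'] at hb
      exact pow_ne_zero i (hζ₁.ne_zero hℓ.ne_zero) hb.symm
    obtain ⟨j, -, hj⟩ := (hζ₁.map_of_injective (algebraMap K Ω).injective).eq_pow_of_pow_eq_one
      (show (z₂ / algebraMap K Ω b) ^ ℓ = 1 by
        rw [div_pow, div_eq_one_iff_eq (pow_ne_zero _ hb0), ← map_pow, hb, map_pow, hi])
    rw [eq_div_iff hb0] at hj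
    have hbot : L = ⊥ := IntermediateField.adjoin_simple_eq_bot_iff.2
      (IntermediateField.mem_bot.2 ⟨ζ₁ ^ j * b, by rw [map_mul, map_pow, hj]⟩)
    exact cd_ringEquiv ((IntermediateField.equivOfEq hbot).trans (IntermediateField.botEquiv K Ω)).toRingEquiv hLcd
  have hirr : Irreducible (Polynomial.X ^ ℓ - Polynomial.C (ζ₁ ^ i)) :=
    X_pow_sub_C_irreducible_of_prime hℓ fun b hb => hK2 ⟨b, hb⟩
  have hmin : minpoly K z₂ = Polynomial.X ^ ℓ - Polynomial.C (ζ₁ ^ i) :=
    (minpoly.eq_of_irreducible_of_monic hirr (by simp [← hi]) (Polynomial.monic_X_pow_sub_C _ hℓ.pos.ne')).symm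
  have hdeg : Module.finrank K L = ℓ := by
    rw [IntermediateField.adjoin.finrank hint, hmin, Polynomial.natDegree_X_pow_sub_C]
  haveI : Algebra.IsSeparable K L := by
    rw [IntermediateField.isSeparable_adjoin_simple_iff_isSeparable, IsSeparable, hmin]
    exact Polynomial.separable_X_pow_sub_C _ hℓK (pow_ne_zero i (hζ₁.ne_zero hℓ.ne_zero))
  have hstab : ∀ f : Ω ≃ₐ[K] Ω, ∃ j : ℕ, f ζ₃ = ζ₃ ^ j := fun f => by
    haveI : NeZero (ℓ ^ 3) := ⟨(pow_pos hℓ.pos 3).ne'⟩
    obtain ⟨j, -, hj⟩ := hζ₃.eq_pow_of_pow_eq_one (show (f ζ₃) ^ (ℓ ^ 3) = 1 by rw [← map_pow, hζ₃.pow_eq_one, map_one])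
    exact ⟨j, hj.symm⟩
  haveI : Normal K L := by
    rw [IntermediateField.normal_iff_forall_fieldRange_le]
    rintro g _ ⟨y, rfl⟩
    let g' : Ω ≃ₐ[K] Ω := AlgEquiv.ofBijective _ (Algebra.IsAlgebraic.algHom_bijective (g.liftNormal Ω))
    have hle : L ≤ L.comap g'.toAlgHom := IntermediateField.adjoin_le_iff.2 (by
      rintro _ rfl
      obtain ⟨j, hj⟩ := hstab g'
      show g' (ζ₃ ^ ℓ) ∈ L
      rw [map_pow, hj, ← pow_mul, mul_comm, pow_mul]
      exact pow_mem hz₂L j)
    exact (g.liftNormal_commutes Ω y) ▸ hle y.2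
  haveI : IsGalois K L := ⟨⟩
  refine cd_of_radical K L hℓ hℓK hdeg ζ₁ hζ₁ ζ₃ hz₂L (fun f => ?_) (fun f hfne => ?_) hLcd
  · obtain ⟨j, hj⟩ := hstab f
    rw [hj]
    exact pow_mem (IntermediateField.subset_adjoin K _ (Set.mem_insert _ _)) j
  · obtain ⟨j, hj⟩ := hstab f
    have hiter : ∀ n, f^[n] ζ₃ = ζ₃ ^ (j ^ n) := fun n => by
      induction n with
      | zero => simp
      | succ n ih => rw [Function.iterate_succ', Function.comp_apply, ih, map_pow, hj, ← pow_mul]; ring
    intro hfix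
    rw [hiter] at hfix
    have hmod : ∀ a b : ℕ, ζ₃ ^ a = ζ₃ ^ b → a ≡ b [MOD ℓ ^ 3] := fun a b hab => by
      have hu := hζ₃.isUnit (pow_pos hℓ.pos 3).ne'
      have h0 : orderOf hu.unit = ℓ ^ 3 := by rw [← orderOf_units, IsUnit.unit_spec, ← hζ₃.eq_orderOf]
      rw [← h0]
      exact pow_eq_pow_iff_modEq.1 (Units.ext (by push_cast; simpa using hab))
    have hj3 : ((j : ZMod (ℓ ^ (2 + 1))) ^ ℓ) = 1 := by
      rw [← Nat.cast_pow, ← Nat.cast_one (R := ZMod (ℓ ^ (2 + 1))), ZMod.natCast_eq_natCast_iff']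
      exact hmod _ 1 (hfix.trans (pow_one ζ₃).symm)
    have hj1 : j % ℓ = 1 % ℓ := by
      have e1 : f (ζ₃ ^ (ℓ * ℓ)) = ζ₃ ^ (ℓ * ℓ) := by
        rw [pow_mul, ← hi, ← map_pow]
        exact f.commutes _
      rw [map_pow, hj, ← pow_mul] at e1
      have h4 := hmod _ _ e1
      rw [show ℓ ^ 3 = ℓ * (ℓ * ℓ) by ring] at h4
      exact Nat.ModEq.mul_right_cancel' (c := ℓ * ℓ) (by have := hℓ.pos; positivity)
        (show j * (ℓ * ℓ) ≡ 1 * (ℓ * ℓ) [MOD ℓ * (ℓ * ℓ)] by rwa [one_mul])
    obtain ⟨a, ha⟩ : (ℓ : ℤ) ∣ (j : ℤ) - 1 := by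
      rw [← ZMod.intCast_zmod_eq_zero_iff_dvd]
      push_cast
      rw [sub_eq_zero, ← Nat.cast_one (R := ZMod ℓ), ZMod.natCast_eq_natCast_iff']
      exact hj1
    by_cases hdvd : (ℓ : ℤ) ∣ a
    · obtain ⟨b, hb⟩ := hdvd
      obtain ⟨x, hxL, hxne⟩ := hfne
      refine hxne ?_
      have hz : f z₂ = z₂ := by
        show f (ζ₃ ^ ℓ) = ζ₃ ^ ℓ
        rw [map_pow, hj, ← pow_mul]
        have h5 : j * ℓ ≡ ℓ [MOD ℓ ^ 3] := by
          rw [Nat.modEq_iff_dvd]
          push_cast
          exact ⟨-b, by rw [show (ℓ : ℤ) - (j : ℤ) * ℓ = -(((j : ℤ) - 1) * ℓ) by ring, ha, hb]; ring⟩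
        rw [← pow_mod_orderOf ζ₃, ← pow_mod_orderOf ζ₃ ℓ, ← hζ₃.eq_orderOf, h5]
      exact apply_eq_of_mem_adjoin f hz hxL
    · have h2 := ZMod.orderOf_one_add_mul_prime hℓ hℓ2 a hdvd 2
      have hj' : (1 + ℓ * a : ZMod (ℓ ^ (2 + 1))) = (j : ZMod (ℓ ^ (2 + 1))) := by
        have := congrArg (Int.cast : ℤ → ZMod (ℓ ^ (2 + 1))) ha
        push_cast at this
        rw [← this]; ring
      rw [hj'] at h2
      have h3 := orderOf_dvd_of_pow_eq_one hj3
      rw [h2] at h3
      have := Nat.le_of_dvd hℓ.pos h3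
      nlinarith [hℓ.two_le]

/-- The induction on the number of squares. -/
theorem cd_sum_squares {d : ℕ} : ∀ (n : ℕ) (K E : Type u) [Field K] [Field E] [Algebra K E] [Module.Finite K E],
    (2 : K) ≠ 0 → ∀ x : Fin n → K, ∑ i, x i ^ 2 = -1 → Cd E 2 d → Cd K 2 d := by
  intro n
  induction n with
  | zero =>
    intro K E _ _ _ _ h2 x hx h
    rw [Finset.univ_eq_empty, Finset.sum_empty] at hx
    exact absurd hx (by simp)
  | succ n ih =>
    intro K E _ _ _ _ h2 x hx h
    have hroot : ∀ y : K, y ^ 2 = -1 → Cd K 2 d := fun y hy => by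
      refine cd_of_roots K E Nat.prime_two (by simpa using h2) ⟨y, ?_⟩ h
      rw [IsPrimitiveRoot.iff_orderOf]
      refine orderOf_eq_prime_pow (p := 2) (n := 1) (fun h0 => h2 ?_) ?_
      · rw [pow_one, hy] at h0
        linear_combination -h0
      · rw [show (2 : ℕ) ^ (1 + 1) = 2 * 2 by norm_num, pow_mul, hy]; ring
    rcases n with - | n
    · rw [Fin.sum_univ_one] at hx
      exact hroot (x 0) hx
    let c := x 0 ^ 2 + x 1 ^ 2
    have hsum : c + ∑ i : Fin n, x i.succ.succ ^ 2 = -1 := by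
      rw [← hx, Fin.sum_univ_succ, Fin.sum_univ_succ]
      simp only [c]
      rw [add_assoc]
      rfl
    by_cases hc : ∃ r : K, r ^ 2 = c
    · obtain ⟨r, hr⟩ := hc
      exact ih K E h2 (Fin.cons r fun i => x i.succ.succ) (by rw [Fin.sum_univ_succ]; simp [hr, hsum]) h
    have hc0 : c ≠ 0 := fun h0 => hc ⟨0, by rw [h0]; ring⟩
    have ha0 : x 0 ≠ 0 := fun h0 => hc ⟨x 1, by simp [c, h0]⟩
    let Ω := AlgebraicClosure K
    obtain ⟨r, hr⟩ := IsAlgClosed.exists_pow_nat_eq (algebraMap K Ω c) (show 0 < 2 by norm_num)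
    have hint : IsIntegral K r := Algebra.IsIntegral.isIntegral _
    let L := IntermediateField.adjoin K {r}
    haveI : FiniteDimensional K L := IntermediateField.adjoin.finiteDimensional hint
    have hrL : r ∈ L := IntermediateField.mem_adjoin_simple_self K _
    have h2L : (2 : L) ≠ 0 := fun h0 => h2 ((algebraMap K L).injective (by rw [map_ofNat, map_zero, h0]))
    have hirr : Irreducible (Polynomial.X ^ 2 - Polynomial.C c) :=
      X_pow_sub_C_irreducible_of_prime Nat.prime_two fun b hb => hc ⟨b, hb⟩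
    have hmin : minpoly K r = Polynomial.X ^ 2 - Polynomial.C c :=
      (minpoly.eq_of_irreducible_of_monic hirr (by simp [hr]) (Polynomial.monic_X_pow_sub_C _ two_ne_zero)).symm
    have hdeg : Module.finrank K L = 2 := by
      rw [IntermediateField.adjoin.finrank hint, hmin, Polynomial.natDegree_X_pow_sub_C]
    haveI : Algebra.IsSeparable K L := by
      rw [IntermediateField.isSeparable_adjoin_simple_iff_isSeparable, IsSeparable, hmin]
      exact Polynomial.separable_X_pow_sub_C _ (by simpa using h2) hc0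
    have hfr : ∀ f : Ω ≃ₐ[K] Ω, f r = r ∨ f r = -r := fun f => by
      refine sq_eq_sq_iff_eq_or_eq_neg.1 ?_
      rw [← map_pow, hr, f.commutes]
    haveI : Normal K L := by
      rw [IntermediateField.normal_iff_forall_fieldRange_le]
      rintro g _ ⟨y, rfl⟩
      let g' : Ω ≃ₐ[K] Ω := AlgEquiv.ofBijective _ (Algebra.IsAlgebraic.algHom_bijective (g.liftNormal Ω))
      have hle : L ≤ L.comap g'.toAlgHom := IntermediateField.adjoin_le_iff.2 (by
        intro w hw
        obtain hw : w = r := hw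
        show g' w ∈ L
        rw [hw]
        rcases hfr g' with h' | h' <;> rw [h']
        exacts [hrL, neg_mem hrL])
      exact (g.liftNormal_commutes Ω y) ▸ hle y.2
    haveI : IsGalois K L := ⟨⟩
    have hL : Cd L 2 d := by
      let ι : E →ₐ[K] Ω := IsAlgClosed.lift
      let e : E ≃ₐ[K] ι.fieldRange := AlgEquiv.ofInjectiveField ι
      haveI : FiniteDimensional K ι.fieldRange := Module.Finite.equiv e.toLinearEquiv
      let T := ι.fieldRange ⊔ L
      haveI : FiniteDimensional K T := IntermediateField.finiteDimensional_sup _ _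
      letI : Algebra ι.fieldRange T := (IntermediateField.inclusion le_sup_left).toRingHom.toAlgebra
      haveI : IsScalarTower K ι.fieldRange T := IsScalarTower.of_algebraMap_eq' rfl
      haveI : Module.Finite ι.fieldRange T := Module.Finite.of_restrictScalars_finite K _ _
      letI : Algebra L T := (IntermediateField.inclusion le_sup_right).toRingHom.toAlgebra
      haveI : IsScalarTower K L T := IsScalarTower.of_algebraMap_eq' rfl
      haveI : Module.Finite L T := Module.Finite.of_restrictScalars_finite K _ _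
      refine ih L T h2L (Fin.cons ⟨r, hrL⟩ fun i => algebraMap K L (x i.succ.succ)) ?_
        (cd_up ι.fieldRange T (cd_ringEquiv e.toRingEquiv h))
      rw [Fin.sum_univ_succ]
      simp only [Fin.cons_zero, Fin.cons_succ, ← map_pow, ← map_sum]
      rw [show (⟨r, hrL⟩ : L) ^ 2 = algebraMap K L c from Subtype.ext hr, ← map_add, hsum, map_neg, map_one]
    let a := algebraMap K Ω (x 0)
    let b := algebraMap K Ω (x 1)
    have hcab : r ^ 2 = a ^ 2 + b ^ 2 := by rw [hr]; simp [c, a, b]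
    obtain ⟨β, hβ⟩ := IsAlgClosed.exists_pow_nat_eq (r ^ 2 + a * r) (show 0 < 2 by norm_num)
    have hr0 : r ≠ 0 := fun h0 => hc0 (by
      rw [h0, zero_pow two_ne_zero] at hr
      exact (map_eq_zero (algebraMap K Ω)).1 hr.symm)
    have hβ0 : β ≠ 0 := fun h0 => hc ⟨x 0, by
      rw [h0, zero_pow two_ne_zero] at hβ
      have h1 : r = -a := by
        have : r * (r + a) = 0 := by linear_combination -hβ
        rcases mul_eq_zero.1 this with h1 | h1
        exacts [absurd h1 hr0, eq_neg_of_add_eq_zero_left h1]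
      refine (algebraMap K Ω).injective ?_
      rw [← hr, h1, map_pow]
      ring⟩
    have hmemL : β ^ 2 ∈ L := by
      rw [hβ]
      exact add_mem (pow_mem hrL 2) (mul_mem (IntermediateField.algebraMap_mem _ _) hrL)
    have key : ∀ f : Ω ≃ₐ[K] Ω, f r = -r → ∃ ε : Ω, (ε = 1 ∨ ε = -1) ∧ f β = ε * (b * r / β) := fun f hf => by
      have h1 : (f β) ^ 2 = r ^ 2 - a * r := by
        rw [← map_pow, hβ, map_add, map_mul, map_pow, hf, show f a = a from f.commutes _]
        ring
      have h3 : (f β) ^ 2 = (b * r / β) ^ 2 := by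
        rw [h1, div_pow, eq_div_iff (pow_ne_zero _ hβ0), hβ]
        linear_combination (r ^ 2) * hcab
      rcases sq_eq_sq_iff_eq_or_eq_neg.1 h3 with h' | h'
      · exact ⟨1, Or.inl rfl, by rw [h', one_mul]⟩
      · exact ⟨-1, Or.inr rfl, by rw [h', neg_one_mul]⟩
    refine cd_of_radical K L Nat.prime_two (by simpa using h2) hdeg (-1)
      (IsPrimitiveRoot.iff_orderOf.2 (orderOf_eq_prime (by ring) (fun h0 => h2 (by linear_combination -h0))))
      β hmemL (fun f => ?_) (fun f hfne => ?_) hL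
    · rcases hfr f with hf | hf
      · have h3 : (f β) ^ 2 = β ^ 2 := by
          rw [← map_pow, hβ, map_add, map_mul, map_pow, hf, show f a = a from f.commutes _]
        have hm : β ∈ IntermediateField.adjoin K (insert β (L : Set Ω)) :=
          IntermediateField.subset_adjoin K _ (Set.mem_insert _ _)
        rcases sq_eq_sq_iff_eq_or_eq_neg.1 h3 with h' | h' <;> rw [h']
        exacts [hm, neg_mem hm]
      · obtain ⟨ε, hε, he⟩ := key f hf
        rw [he]
        have hr' : r ∈ IntermediateField.adjoin K (insert β (L : Set Ω)) :=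
          IntermediateField.subset_adjoin K _ (Set.mem_insert_of_mem _ hrL)
        refine mul_mem ?_ (div_mem (mul_mem (IntermediateField.algebraMap_mem _ _) hr')
          (IntermediateField.subset_adjoin K _ (Set.mem_insert _ _)))
        rcases hε with rfl | rfl
        exacts [one_mem _, neg_mem (one_mem _)]
    · obtain ⟨y, hyL, hyne⟩ := hfne
      have hf : f r = -r := (hfr f).resolve_left fun h' => hyne (by
        exact apply_eq_of_mem_adjoin f h' hyL)
      obtain ⟨ε, hε, he⟩ := key f hf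
      intro hfix
      rw [show f^[2] β = f (f β) from rfl, he, map_mul, map_div₀, map_mul, he, show f b = b from f.commutes _, hf] at hfix
      have hfε : f ε = ε := by rcases hε with rfl | rfl <;> simp
      have hε0 : ε ≠ 0 := by rcases hε with rfl | rfl <;> simp
      have hb0 : b ≠ 0 := (map_ne_zero _).2 fun h0 => hc ⟨x 0, by simp [c, h0]⟩
      rw [hfε] at hfix
      have h3 : ε * (b * -r / (ε * (b * r / β))) = -β := by
        rw [mul_div_assoc', mul_neg, div_eq_iff (mul_ne_zero hε0 (div_ne_zero (mul_ne_zero hb0 hr0) hβ0))]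
        rw [show -β * (ε * (b * r / β)) = -(ε * (b * r)) * (β / β) by ring, div_self hβ0]
        ring
      rw [h3] at hfix
      have h2Ω : (2 : Ω) ≠ 0 := fun h0 => h2 ((algebraMap K Ω).injective (by rw [map_ofNat, map_zero, h0]))
      have h4 : (2 : Ω) * β = 0 := by linear_combination -hfix
      exact mul_ne_zero h2Ω hβ0 h4

/-- Serre's theorem for fields. -/
theorem cd_serre (K E : Type u) [Field K] [Field E] [Algebra K E] [Module.Finite K E] {ℓ d : ℕ} (hℓ : ℓ.Prime)
    (hℓK : (ℓ : K) ≠ 0) (hord : ℓ ≠ 2 ∨ ¬ ∃ _ : LinearOrder K, IsStrictOrderedRing K) (h : Cd E ℓ d) :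
    Cd K ℓ d := by
  rcases eq_or_ne ℓ 2 with rfl | hℓ2
  · have hord' := hord.resolve_left (fun h0 => h0 rfl)
    obtain ⟨n, x, hx⟩ : ∃ (n : ℕ) (x : Fin n → K), ∑ i, x i ^ 2 = -1 :=
      Semireal.exists_sum_sq (not_not.1 fun hs => hord' (Semireal.exists_order hs))
    exact cd_sum_squares n K E (by simpa using hℓK) x hx h
  · haveI := Fact.mk hℓ
    let Ω := AlgebraicClosure K
    haveI : NeZero ((ℓ : ℕ) : Ω) := ⟨by rw [← map_natCast (algebraMap K Ω)]; exact (map_ne_zero _).2 hℓK⟩
    obtain ⟨z, hz⟩ := HasEnoughRootsOfUnity.exists_primitiveRoot Ω ℓ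
    have hint : IsIntegral K z := Algebra.IsIntegral.isIntegral _
    let K₂ := IntermediateField.adjoin K {z}
    haveI : FiniteDimensional K K₂ := IntermediateField.adjoin.finiteDimensional hint
    have hzK : z ∈ K₂ := IntermediateField.mem_adjoin_simple_self K _
    have hℓ₂ : (ℓ : K₂) ≠ 0 := fun h0 => hℓK ((algebraMap K K₂).injective (by rwa [map_natCast, map_zero]))
    haveI : Algebra.IsSeparable K K₂ := by
      rw [IntermediateField.isSeparable_adjoin_simple_iff_isSeparable]
      exact (Polynomial.separable_X_pow_sub_C (1 : K) hℓK one_ne_zero).of_dvd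
        (minpoly.dvd K z (by simp [hz.pow_eq_one]))
    have hdeg : ¬ ℓ ∣ Module.finrank K K₂ := by
      rw [IntermediateField.adjoin.finrank hint]
      intro hdvd
      have hd : minpoly K z ∣ Polynomial.cyclotomic ℓ K := minpoly.dvd K z (by
        rw [Polynomial.aeval_def, ← Polynomial.eval_map, Polynomial.map_cyclotomic]
        exact hz.isRoot_cyclotomic hℓ.pos)
      have hle := Polynomial.natDegree_le_of_dvd hd (Polynomial.cyclotomic_ne_zero ℓ K)
      rw [Polynomial.natDegree_cyclotomic, Nat.totient_prime hℓ] at hle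
      have := Nat.le_of_dvd (minpoly.natDegree_pos hint) hdvd
      have := hℓ.two_le
      omega
    refine cd_coprime K K₂ hℓ hdeg ?_
    let ι : E →ₐ[K] Ω := IsAlgClosed.lift
    let e : E ≃ₐ[K] ι.fieldRange := AlgEquiv.ofInjectiveField ι
    haveI : FiniteDimensional K ι.fieldRange := Module.Finite.equiv e.toLinearEquiv
    let T := ι.fieldRange ⊔ K₂
    haveI : FiniteDimensional K T := IntermediateField.finiteDimensional_sup _ _
    letI : Algebra ι.fieldRange T := (IntermediateField.inclusion le_sup_left).toRingHom.toAlgebra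
    haveI : IsScalarTower K ι.fieldRange T := IsScalarTower.of_algebraMap_eq' rfl
    haveI : Module.Finite ι.fieldRange T := Module.Finite.of_restrictScalars_finite K _ _
    letI : Algebra K₂ T := (IntermediateField.inclusion le_sup_right).toRingHom.toAlgebra
    haveI : IsScalarTower K K₂ T := IsScalarTower.of_algebraMap_eq' rfl
    haveI : Module.Finite K₂ T := Module.Finite.of_restrictScalars_finite K _ _
    have hT : Cd T ℓ d := cd_up ι.fieldRange T (cd_ringEquiv e.toRingEquiv h)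
    exact cd_cyclotomic K₂ hℓ hℓ2 hℓ₂ ⟨z, hzK⟩ (IsPrimitiveRoot.coe_submonoidClass_iff.1 hz)
      fun S _ hS => exists_cd_adjoin K₂ T hℓ hℓ₂ hT S hS

/-- Serre's theorem in terms of torsion sheaves. -/
theorem cohDimLEAt_serre (K E : Type u) [Field K] [Field E] [Algebra K E] [Module.Finite K E] {ℓ d : ℕ}
    (hℓ : ℓ.Prime) (hℓK : (ℓ : K) ≠ 0) (hord : ℓ ≠ 2 ∨ ¬ ∃ _ : LinearOrder K, IsStrictOrderedRing K)
    (h : Dix.CohDimLEAt (Spec (CommRingCat.of E)) ℓ d) : Dix.CohDimLEAt (Spec (CommRingCat.of K)) ℓ d := by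
  have hK : Cd K ℓ d := cd_serre K E hℓ hℓK hord (Transc.cdKilled_of_cohDimLEAt h
    ⟨hℓ.pos, fun p hp hd => (Nat.prime_dvd_prime_iff_eq hp hℓ).1 hd⟩)
  refine Transc.cohDimLEAt_of_cdKilled hℓ fun m hm => ?_
  obtain ⟨a, rfl⟩ : ∃ a, m = ℓ ^ a :=
    ⟨_, Nat.eq_prime_pow_of_unique_prime_dvd hm.1.ne' fun {p} hp hd => hm.2 p hp hd⟩
  clear hm
  induction a with
  | zero =>
    intro F hF q hq
    rw [pow_zero, one_nsmul] at hF
    exact Sheaf.subsingleton_H_of_isZero ((IsZero.iff_id_eq_zero F).2 hF) q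
  | succ a ih =>
    intro F hF q hq
    let μ : F ⟶ F := ℓ • 𝟙 F
    let S := ShortComplex.mk (kernel.ι μ) (Abelian.factorThruImage μ) (by
      rw [← cancel_mono (Abelian.image.ι μ), Category.assoc, Abelian.image.fac, zero_comp]
      exact kernel.condition μ)
    have hS : S.ShortExact :=
      { exact := by
          refine ShortComplex.exact_of_f_is_kernel _ (KernelFork.IsLimit.ofι' (kernel.ι μ) S.zero fun {W} t ht =>
            ⟨kernel.lift μ t ?_, kernel.lift_ι _ _ _⟩)
          have ht' : t ≫ Abelian.factorThruImage μ = 0 := ht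
          rw [← Abelian.image.fac μ, ← Category.assoc, ht', zero_comp]
        mono_f := inferInstanceAs (Mono (kernel.ι μ))
        epi_g := inferInstanceAs (Epi (Abelian.factorThruImage μ)) }
    have hk : ℓ • 𝟙 (kernel μ) = 0 := by
      rw [← cancel_mono (kernel.ι μ), Preadditive.nsmul_comp, Category.id_comp, zero_comp]
      calc ℓ • kernel.ι μ = kernel.ι μ ≫ μ := by
            show _ = _ ≫ (ℓ • 𝟙 F)
            rw [Preadditive.comp_nsmul, Category.comp_id]
        _ = 0 := kernel.condition μ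
    have hI : ℓ ^ a • 𝟙 (Abelian.image μ) = 0 := by
      rw [← cancel_epi (Abelian.factorThruImage μ), ← cancel_mono (Abelian.image.ι μ), Preadditive.comp_nsmul,
        Category.comp_id, comp_zero, zero_comp, Preadditive.nsmul_comp, Abelian.image.fac]
      show ℓ ^ a • (ℓ • 𝟙 F) = 0
      rw [smul_smul, ← pow_succ, hF]
    exact CdField.subsingleton_of_shortExact hS (hK _ hk q hq) (ih _ hI q hq)

end Groth.Agent.CdDev9.Serre
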