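import Groth.Agent.CdDev9.TranscStep
import Groth.Agent.CdDev9.Loc2
import Groth.Agent.CdDev9.DiscreteCover
import Groth.Agent.Et18.CdSHFrac
import Groth.Agent.Et18.Descent0.ClosedPoint

/-!
Upper bound for the cohomological dimension of the fraction field of a henselian discrete valuation ring.
-/

set_option autoImplicit false
set_option linter.all false
set_option backward.isDefEq.respectTransparency.types false
set_option backward.isDefEq.respectTransparency false
set_option synthInstance.maxHeartbeats 400000
set_option maxHeartbeats 1000000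

universe u

open CategoryTheory CategoryTheory.Limits AlgebraicGeometry Opposite IsLocalRing
open Groth.Agent.Et18
open scoped TensorProduct

noncomputable section

namespace Groth.Agent.CdDev9.UpperDvr

open Groth.Agent.GalEt

/-- Henselian local schemes have the cohomological dimension of their closed point. -/
theorem cdKilled_henselian (W : Type u) [CommRing W] [HenselianLocalRing W] {N d : ℕ}
    (h : CdKilled (Spec (CommRingCat.of (ResidueField W))) N d) : CdKilled (Spec (CommRingCat.of W)) N d := by
  intro F hF q hq
  let i := Descent0.closedIncl W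
  haveI : PreservesFiniteLimits (EtCoh.pull i) := inferInstance
  haveI : (EtCoh.pull i).Additive := inferInstance
  haveI := h _ (map_killed (EtCoh.pull i) hF) q hq
  exact (Descent0.bijective_Hpull F q).1.subsingleton

/-- `cd_ℓ(K) ≤ cd_ℓ(k) + 1`. -/
theorem cdKilled_fraction (W K : Type u) [CommRing W] [IsDomain W] [IsDiscreteValuationRing W] [HenselianLocalRing W]
    [Field K] [Algebra W K] [IsFractionRing W K] {N d : ℕ} (hN : 0 < N) (hu : IsUnit (N : W))
    (h : CdKilled (Spec (CommRingCat.of (ResidueField W))) N d) :
    CdKilled (Spec (CommRingCat.of K)) N (d + 1) := by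
  let Y := Spec (CommRingCat.of W)
  let f : Spec (CommRingCat.of K) ⟶ Y := Spec.map (CommRingCat.ofHom (algebraMap W K))
  intro G hG q hq
  refine Transc.subsingleton_H_of_killed f (cdKilled_henselian W h) G hG (fun C ι π w hS p => ?_) q hq
  refine ClosedPointSupport.isZero_of_supp_empty (Set.eq_empty_iff_forall_notMem.2 fun y hy => ?_)
  let A : Type u := Y.presheaf.stalk y
  let P : Ideal W := PrimeSpectrum.asIdeal y
  letI : Algebra W A := (StructureSheaf.toStalk W y).hom.toAlgebra
  haveI : IsLocalization.AtPrime A P := StructureSheaf.IsLocalization.to_stalk W y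
  let R := HenselLib.LocalSH A
  haveI : IsLocalRing R := HenselLib.isLocalRing_hull
  haveI hsh := HenselLib.isStrictHenselization_localSH (R := A)
  haveI := hsh.henselian
  haveI := hsh.isSepClosure
  haveI : IsSepClosed (ResidueField R) := IsSepClosure.sep_closed (ResidueField A)
  let ψ : W →+* R := (Spec.preimage (Hens2.specOf Y y R)).hom
  have hψ : Spec.map (CommRingCat.ofHom ψ) = Hens2.specOf Y y R := Spec.map_preimage _
  letI : Algebra W R := ψ.toAlgebra
  have hψ' : ∀ w : W, ψ w = algebraMap A R (algebraMap W A w) := by
    have e : CommRingCat.ofHom ψ = CommRingCat.ofHom ((algebraMap A R).comp (algebraMap W A)) := by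
      apply Spec.map_injective
      rw [hψ, CommRingCat.ofHom_comp, Spec.map_comp]
      show Spec.map _ ≫ Y.fromSpecStalk y = _
      congr 1
      exact Spec.fromSpecStalk_eq' _ y
    exact fun w => RingHom.congr_fun (congrArg CommRingCat.Hom.hom e) w
  let M := Algebra.algebraMapSubmonoid R (nonZeroDivisors W)
  let T := K ⊗[W] R
  letI : Algebra R T := Algebra.TensorProduct.rightAlgebra
  haveI hT : IsLocalization M T := by
    rw [Algebra.isLocalization_iff_isPushout _ K]
    infer_instance
  have hP : CdKilled (pullback f (Hens2.specOf Y y R)) N 1 := by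
    suffices hTc : CdKilled (Spec (CommRingCat.of T)) N 1 by
      let e : pullback f (Hens2.specOf Y y R) ≅ Spec (CommRingCat.of T) :=
        pullback.congrHom rfl hψ.symm ≪≫ pullbackSpecIso W K R
      exact hTc.of_finite e.hom
    by_cases hy0 : P = ⊥
    · have hA : IsField A := by
        haveI : IsDomain A := IsLocalization.isDomain_of_atPrime A P
        rw [IsLocalRing.isField_iff_maximalIdeal_eq, ← IsLocalization.AtPrime.map_eq_maximalIdeal P A, hy0,
          Ideal.map_bot]
      have hR : IsField R := by
        rw [IsLocalRing.isField_iff_maximalIdeal_eq, ← HenselLib.map_maximalIdeal_localSH,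
          IsLocalRing.isField_iff_maximalIdeal_eq.1 hA, Ideal.map_bot]
      letI : Field R := hR.toField
      have hM : M ≤ IsUnit.submonoid R := by
        rintro _ ⟨w, hw, rfl⟩
        show IsUnit (ψ w)
        rw [hψ']
        refine IsUnit.map _ (IsLocalization.map_units A (⟨w, ?_⟩ : P.primeCompl))
        intro h0
        replace h0 : w ∈ P := h0
        rw [hy0, Ideal.mem_bot] at h0
        exact nonZeroDivisors.ne_zero hw h0
      let eT : R ≃ₐ[R] T := IsLocalization.atUnits R M hM
      haveI : IsSepClosed R := by
        let e : R ≃+* ResidueField R :=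
          RingEquiv.ofBijective (residue R) ⟨(residue R).injective, residue_surjective⟩
        exact CdDev9.isSepClosed_ringEquiv e.symm
      let π : Spec (CommRingCat.of T) ⟶ Spec (CommRingCat.of R) := Spec.map eT.toRingEquiv.toCommRingCatIso.hom
      haveI : IsFinite π := inferInstance
      intro G' hG' r hr
      exact ((show CdKilled (Spec (CommRingCat.of R)) N 0 from fun G _ q hq =>
        AlgClosedFunctionField.subsingleton_H R G q (by omega)).of_finite π) G' hG' r (by omega)
    · haveI : IsDomain A := IsLocalization.isDomain_of_atPrime A P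
      haveI : IsDiscreteValuationRing A :=
        IsLocalization.AtPrime.isDiscreteValuationRing_of_dedekind_domain W hy0 A
      obtain ⟨_, _⟩ := Loc2.isDVR_strict A R
      obtain ⟨ϖ, hϖ⟩ := IsDiscreteValuationRing.exists_irreducible W
      have hPmax : P = maximalIdeal W := IsLocalRing.eq_maximalIdeal (Ideal.IsPrime.isMaximal inferInstance hy0)
      have hgen : maximalIdeal R = Ideal.span {ψ ϖ} := by
        rw [← HenselLib.map_maximalIdeal_localSH, ← IsLocalization.AtPrime.map_eq_maximalIdeal P A, hPmax,
          hϖ.maximalIdeal_eq, Ideal.map_span, Set.image_singleton, Ideal.map_span, Set.image_singleton, hψ']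
      have hψ0 : ψ ϖ ≠ 0 := fun h0 => IsDiscreteValuationRing.not_a_field R (by rw [hgen, h0, Ideal.span_singleton_eq_bot])
      have hirr : Irreducible (ψ ϖ) := (IsDiscreteValuationRing.irreducible_iff_uniformizer _).2 hgen
      have hM : M ≤ nonZeroDivisors R := by
        rintro _ ⟨w, hw, rfl⟩
        refine mem_nonZeroDivisors_of_ne_zero ?_
        obtain ⟨n, u, hwu⟩ := IsDiscreteValuationRing.eq_unit_mul_pow_irreducible (nonZeroDivisors.ne_zero hw) hϖ
        show ψ w ≠ 0
        rw [hwu, map_mul, map_pow]
        exact mul_ne_zero ((u.isUnit.map ψ).ne_zero) (pow_ne_zero _ hψ0)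
      haveI : IsDomain T := IsLocalization.isDomain_of_le_nonZeroDivisors (S := T) hM
      have hfield : IsField T := by
        refine ⟨⟨0, 1, zero_ne_one⟩, mul_comm, fun {z} hz => ?_⟩
        obtain ⟨a, m, rfl⟩ := IsLocalization.exists_mk'_eq M z
        have ha : a ≠ 0 := fun h0 => hz (by rw [h0, IsLocalization.mk'_zero])
        obtain ⟨n, u, hau⟩ := IsDiscreteValuationRing.eq_unit_mul_pow_irreducible ha hirr
        have hunit : IsUnit (algebraMap R T a) := by
          rw [hau, map_mul, map_pow]
          refine (u.isUnit.map _).mul (IsUnit.pow _ (IsLocalization.map_units T (⟨ψ ϖ, ⟨ϖ, ?_, rfl⟩⟩ : M)))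
          exact mem_nonZeroDivisors_of_ne_zero hϖ.ne_zero
        have : IsUnit (IsLocalization.mk' T a m) := by
          rw [IsLocalization.mk'_eq_mul_mk'_one]
          exact hunit.mul (IsUnit.of_mul_eq_one (algebraMap R T m) ((IsLocalization.mk'_spec T 1 m).trans (map_one _)))
        obtain ⟨b, hb⟩ := this.exists_right_inv
        exact ⟨b, hb⟩
      letI : Field T := hfield.toField
      haveI : FaithfulSMul R T := (faithfulSMul_iff_algebraMap_injective R T).2 (IsLocalization.injective T hM)
      haveI : IsFractionRing R T := IsFractionRing.of_field R T fun z => by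
        obtain ⟨a, m, rfl⟩ := IsLocalization.exists_mk'_eq M z
        refine ⟨a, m, ?_⟩
        rw [eq_div_iff ((map_ne_zero_iff _ (IsLocalization.injective T hM)).2 (nonZeroDivisors.ne_zero (hM m.2)))]
        exact IsLocalization.mk'_spec T a m
      haveI : NeZero N := ⟨hN.ne'⟩
      have huR : IsUnit (N : R) := by
        have := hu.map ψ
        rwa [map_natCast] at this
      intro G' hG' r hr
      refine Et18.CdSHFrac.subsingleton_H R T N huR G' (fun V z => ?_) r (by omega)
      have h := congr(ConcreteCategory.hom (($hG').hom.app (op V)) z)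
      exact h
  exact (mem_supp_iff _ (Hens2.geomPt Y y R) (EtStalkLib.geomPt_default Y y R)).1 hy
    (Transc.isZero_stalk_Rpush f y R hP hG hS p)

/-- Upper bound in terms of torsion sheaves. -/
theorem cohDimLEAt_fraction (W K : Type u) [CommRing W] [IsDomain W] [IsDiscreteValuationRing W] [HenselianLocalRing W]
    [Field K] [Algebra W K] [IsFractionRing W K] {ℓ d : ℕ} (hℓ : ℓ.Prime) (hu : IsUnit (ℓ : W))
    (h : Dix.CohDimLEAt (Spec (CommRingCat.of (ResidueField W))) ℓ d) :
    Dix.CohDimLEAt (Spec (CommRingCat.of K)) ℓ (d + 1) := by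
  refine Transc.cohDimLEAt_of_cdKilled hℓ fun m hm => cdKilled_fraction W K hm.1 ?_ (Transc.cdKilled_of_cohDimLEAt h hm)
  obtain ⟨a, rfl⟩ : ∃ a, m = ℓ ^ a :=
    ⟨_, Nat.eq_prime_pow_of_unique_prime_dvd hm.1.ne' fun {p} hp hd => hm.2 p hp hd⟩
  rw [Nat.cast_pow]
  exact hu.pow a

end Groth.Agent.CdDev9.UpperDvr
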