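import Groth.Agent.CdDev9.DvrBase
import Groth.Agent.CdDev9.SerreCd
import Groth.Agent.CdDev9.UpperDvr

/-!
Residue fields of noetherian local domains and cohomological dimension.
-/

set_option autoImplicit false
set_option linter.all false
set_option backward.isDefEq.respectTransparency.types false
set_option backward.isDefEq.respectTransparency false
set_option synthInstance.maxHeartbeats 400000
set_option maxHeartbeats 1000000

universe u

open CategoryTheory CategoryTheory.Limits AlgebraicGeometry Opposite IsLocalRing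
open Groth.Agent.Et18

noncomputable section

namespace Groth.Agent.CdDev9.LowerGeneral

open Groth.Agent.GalEt

/-- Fields with orderings map only to such fields. -/
theorem not_orderable_of_hom {F E : Type u} [Field F] [Field E] (f : F →+* E)
    (h : ¬ ∃ _ : LinearOrder F, IsStrictOrderedRing F) : ¬ ∃ _ : LinearOrder E, IsStrictOrderedRing E := by
  rintro ⟨lo, ho⟩
  letI := lo
  haveI := ho
  obtain ⟨n, x, hx⟩ := Semireal.exists_sum_sq (not_not.1 fun hs => h (Semireal.exists_order hs))
  have h1 : ∑ i, (f (x i)) ^ 2 = (-1 : E) := by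
    rw [← map_one f, ← map_neg, ← hx, map_sum]
    simp only [map_pow]
  have h2 : (0 : E) ≤ ∑ i, (f (x i)) ^ 2 := Finset.sum_nonneg fun i _ => sq_nonneg _
  rw [h1] at h2
  linarith

/-- Integral extensions that are domains of henselian local rings are henselian. -/
theorem henselianLocalRing_of_integral (A : Type u) [CommRing A] [HenselianLocalRing A] (W : Type u) [CommRing W]
    [IsDomain W] [Algebra A W] [Algebra.IsIntegral A W] [IsLocalRing W] : HenselianLocalRing W := by
  classical
  refine HenselianLocalRing.mk fun f hf a₀ ha₀ hu => ?_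
  let s : Set W := insert a₀ (Set.range fun i : Fin (f.natDegree + 1) => f.coeff i)
  let B := Algebra.adjoin A s
  haveI : Module.Finite A B := Module.Finite.iff_fg.2
    (fg_adjoin_of_finite ((Set.finite_range _).insert _) fun z _ => Algebra.IsIntegral.isIntegral z)
  haveI : IsLocalRing B := HenselLib.Olivier.isLocalRing_of_integral_domain (A := A) B
  haveI : HenselianLocalRing B := HopfQuot.UnitComp.henselianLocalRing_of_finite (R := A) B
  haveI : Algebra.IsIntegral B W := Algebra.IsIntegral.tower_top A
  haveI : IsLocalHom (algebraMap B W) := Algebra.IsIntegral.isLocalHom B W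
  have hsB : s ⊆ B := Algebra.subset_adjoin
  have hlift : f ∈ Polynomial.lifts (algebraMap B W) := by
    rw [Polynomial.lifts_iff_coeff_lifts]
    intro i
    by_cases hi : i ≤ f.natDegree
    · exact ⟨⟨f.coeff i, hsB (Set.mem_insert_of_mem _ ⟨⟨i, by omega⟩, rfl⟩)⟩, rfl⟩
    · exact ⟨0, by rw [map_zero, Polynomial.coeff_eq_zero_of_natDegree_lt (by omega)]⟩
  obtain ⟨g, hg, -, hgm⟩ := Polynomial.lifts_and_natDegree_eq_and_monic hlift hf
  let b₀ : B := ⟨a₀, hsB (Set.mem_insert _ _)⟩
  have he : ∀ (p : Polynomial B) (b : B), algebraMap B W (p.eval b) = (p.map (algebraMap B W)).eval (algebraMap B W b) :=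
    fun p b => by rw [Polynomial.eval_map, Polynomial.eval₂_at_apply]
  obtain ⟨b, hb, hbm⟩ := HenselianLocalRing.is_henselian g hgm b₀ (by
    rw [IsLocalRing.mem_maximalIdeal, mem_nonunits_iff]
    intro h'
    have := h'.map (algebraMap B W)
    rw [he, hg] at this
    exact (IsLocalRing.mem_maximalIdeal _).1 ha₀ this) (by
    refine isUnit_of_map_unit (algebraMap B W) _ ?_
    rw [he, ← Polynomial.derivative_map, hg]
    exact hu)
  refine ⟨algebraMap B W b, ?_, ?_⟩
  · rw [Polynomial.IsRoot, ← hg, ← he, hb.eq_zero, map_zero]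
  · have := map_nonunit (algebraMap B W) _ hbm
    rwa [map_sub] at this

/-- `dim A ≤ cd_ℓ(Frac A) - cd_ℓ(k)`. -/
theorem dim_le_residue {ℓ : ℕ} (hℓ : ℓ.Prime) : ∀ (m : ℕ) (A : Type u) [CommRing A] [IsDomain A] [IsNoetherianRing A]
    [IsLocalRing A], IsUnit (ℓ : A) → ringKrullDim A = m →
    (ℓ ≠ 2 ∨ ∀ p : PrimeSpectrum A, p.asIdeal ≠ ⊥ →
      ¬ ∃ _ : LinearOrder p.asIdeal.ResidueField, IsStrictOrderedRing p.asIdeal.ResidueField) →
    ∀ d : ℕ, Dix.CohDimLEAt (Spec (CommRingCat.of (FractionRing A))) ℓ d →
      m ≤ d ∧ Dix.CohDimLEAt (Spec (CommRingCat.of (ResidueField A))) ℓ (d - m) := by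
  intro m
  induction m with
  | zero =>
    intro A _ _ _ _ hu hdim _ d hK
    refine ⟨Nat.zero_le d, ?_⟩
    haveI : Ring.KrullDimLE 0 A := Ring.krullDimLE_iff.2 hdim.le
    have hA : IsField A := Ring.KrullDimLE.isField_of_isDomain
    letI : Field A := hA.toField
    let e₁ : A ≃+* ResidueField A := RingEquiv.ofBijective (residue A) ⟨(residue A).injective, residue_surjective⟩
    let e₂ : A ≃+* FractionRing A :=
      RingEquiv.ofBijective (algebraMap A (FractionRing A))
        ⟨IsFractionRing.injective A _, fun z => by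
          obtain ⟨a, b, -, rfl⟩ := IsFractionRing.div_surjective A z
          exact ⟨a / b, by rw [map_div₀]⟩⟩
    exact DvrBase.cohDimLEAt_ringEquiv hℓ (e₁.symm.trans e₂) hK
  | succ m ih =>
    intro A _ _ _ _ hu hdim hord d hK
    obtain ⟨c, hc⟩ := Order.le_krullDim_iff.1 hdim.ge
    let p₁ := c ⟨1, by omega⟩
    have hp₁ : p₁.asIdeal ≠ ⊥ := by
      have h01 : c ⟨0, by omega⟩ < p₁ := c.strictMono (by simp [Fin.lt_def])
      exact ne_bot_of_gt (show (c ⟨0, by omega⟩).asIdeal < p₁.asIdeal from h01)
    obtain ⟨x, hx, hx0⟩ := Submodule.exists_mem_ne_zero_of_ne_bot hp₁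
    haveI := p₁.2
    obtain ⟨q, hq, hqle⟩ := Ideal.exists_minimalPrimes_le (I := Ideal.span {x}) (J := p₁.asIdeal)
      ((Ideal.span_singleton_le_iff_mem _).2 hx)
    haveI := hq.1.1
    have hxq : x ∈ q := hq.1.2 (Ideal.mem_span_singleton_self x)
    have hq0 : q ≠ ⊥ := fun h => hx0 (by rwa [h, Ideal.mem_bot] at hxq)
    have hht : q.height ≤ 1 := Ideal.height_le_one_of_isPrincipal_of_mem_minimalPrimes _ q hq
    let A' := A ⧸ q
    haveI : IsLocalRing A' := IsLocalRing.of_surjective' (Ideal.Quotient.mk q) Ideal.Quotient.mk_surjective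
    have hge : (m : WithBot ℕ∞) ≤ ringKrullDim A' := by
      rw [ringKrullDim_quotient]
      have hmem : ∀ i : Fin c.length, c ⟨i.1 + 1, by omega⟩ ∈ PrimeSpectrum.zeroLocus (q : Set A) := fun i => by
        rw [PrimeSpectrum.mem_zeroLocus, SetLike.coe_subset_coe]
        refine hqle.trans ?_
        exact c.strictMono.monotone (show (⟨1, _⟩ : Fin (c.length + 1)) ≤ ⟨i.1 + 1, _⟩ by simp [Fin.le_def])
      let c' : LTSeries (PrimeSpectrum.zeroLocus (q : Set A)) :=
        { length := m
          toFun := fun i => ⟨c ⟨i.1 + 1, by omega⟩, hmem ⟨i.1, by omega⟩⟩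
          step := fun i => c.strictMono (by simp [Fin.lt_def]) }
      exact Order.le_krullDim_iff.2 ⟨c', rfl⟩
    have hdim' : ringKrullDim A' = m := by
      have hle : ringKrullDim A' + 1 ≤ ((m + 1 : ℕ) : WithBot ℕ∞) := by
        rw [← hdim]
        refine le_trans (add_le_add (ringKrullDim_le_of_surjective _
          (Ideal.Quotient.factor_surjective ((Ideal.span_singleton_le_iff_mem _).2 hxq))) le_rfl) ?_
        exact ringKrullDim_quotient_succ_le_of_nonZeroDivisor (mem_nonZeroDivisors_of_ne_zero hx0)
      haveI : Nontrivial A' := inferInstance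
      obtain ⟨n, hn⟩ : ∃ n : ℕ, ringKrullDim A' = n := by
        obtain ⟨n, hn⟩ := ENat.ne_top_iff_exists.1
          (Ideal.height_ne_top (I := maximalIdeal A') (maximalIdeal.isMaximal A').ne_top)
        exact ⟨n, by rw [← maximalIdeal_height_eq_ringKrullDim, ← hn]; rfl⟩
      rw [hn] at hle hge ⊢
      have h1 : n + 1 ≤ m + 1 := by exact_mod_cast hle
      have h2 : m ≤ n := by exact_mod_cast hge
      rw [show n = m by omega]
    let T := Localization.AtPrime q
    haveI : IsDomain T := IsLocalization.isDomain_localization q.primeCompl_le_nonZeroDivisors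
    haveI : IsNoetherianRing T := IsLocalization.isNoetherianRing q.primeCompl T inferInstance
    haveI : Ring.KrullDimLE 1 T := by
      rw [Ring.krullDimLE_iff, IsLocalization.AtPrime.ringKrullDim_eq_height q T]
      exact WithBot.coe_le_coe.2 hht
    have hT : ¬ IsField T := fun hf => by
      have h1 := IsLocalRing.isField_iff_maximalIdeal_eq.1 hf
      have h2 := IsLocalization.AtPrime.comap_maximalIdeal (S := T) q
      rw [h1, Ideal.under_def, Ideal.comap_bot_of_injective _
        (IsLocalization.injective T q.primeCompl_le_nonZeroDivisors)] at h2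
      exact hq0 h2.symm
    obtain ⟨hd, L, _, _, hfin, hL⟩ := LowerBound.exists_finite_residue T hT hℓ (by
      have := hu.map (algebraMap A T)
      rwa [map_natCast] at this)
      (LowerBound.cohDim_localization hℓ A T (FractionRing A) q.primeCompl q.primeCompl_le_nonZeroDivisors hK)
    haveI := hfin
    have hℓq : (ℓ : q.ResidueField) ≠ 0 := by
      have := (hu.map (algebraMap A q.ResidueField)).ne_zero
      rwa [map_natCast] at this
    have hκ : Dix.CohDimLEAt (Spec (CommRingCat.of q.ResidueField)) ℓ (d - 1) :=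
      Serre.cohDimLEAt_serre (ResidueField T) L hℓ hℓq (hord.imp id fun h => h ⟨q, inferInstance⟩ hq0) hL
    have huA : IsUnit (ℓ : A') := by
      have := hu.map (Ideal.Quotient.mk q)
      rwa [map_natCast] at this
    have hord' : ℓ ≠ 2 ∨ ∀ p : PrimeSpectrum A', p.asIdeal ≠ ⊥ →
        ¬ ∃ _ : LinearOrder p.asIdeal.ResidueField, IsStrictOrderedRing p.asIdeal.ResidueField :=
      hord.imp id fun h p _ => by
        let p₀ : PrimeSpectrum A := PrimeSpectrum.comap (Ideal.Quotient.mk q) p
        refine not_orderable_of_hom (Ideal.ResidueField.map p₀.asIdeal p.asIdeal (Ideal.Quotient.mk q) rfl)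
          (h p₀ fun h0 => hq0 ?_)
        refine le_bot_iff.1 (h0 ▸ fun a ha => ?_)
        show Ideal.Quotient.mk q a ∈ p.asIdeal
        rw [Ideal.Quotient.eq_zero_iff_mem.2 ha]
        exact zero_mem _
    obtain ⟨h1, h2⟩ := ih A' huA hdim' hord' (d - 1)
      (DvrBase.cohDimLEAt_ringEquiv hℓ (FractionRing.algEquiv A' q.ResidueField).toRingEquiv hκ)
    refine ⟨by omega, ?_⟩
    haveI : IsLocalHom (Ideal.Quotient.mk q) := IsLocalHom.of_surjective _ Ideal.Quotient.mk_surjective
    let φ : ResidueField A →+* ResidueField A' := IsLocalRing.ResidueField.map (Ideal.Quotient.mk q)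
    have hφ : Function.Surjective φ := fun z => by
      obtain ⟨a, rfl⟩ := residue_surjective z
      obtain ⟨a, rfl⟩ := Ideal.Quotient.mk_surjective a
      exact ⟨residue A a, rfl⟩
    rw [show d - (m + 1) = d - 1 - m by omega]
    exact DvrBase.cohDimLEAt_ringEquiv hℓ (RingEquiv.ofBijective φ ⟨φ.injective, hφ⟩) h2

/-- Upper bound for one dimensional henselian local domains. -/
theorem cohDim_fraction_le (A : Type u) [CommRing A] [IsDomain A] [IsNoetherianRing A] [HenselianLocalRing A]
    [Ring.KrullDimLE 1 A] (hA : ¬ IsField A) {ℓ : ℕ} (hℓ : ℓ.Prime) (hu : IsUnit (ℓ : A)) {d : ℕ}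
    (hk : Dix.CohDimLEAt (Spec (CommRingCat.of (ResidueField A))) ℓ d) :
    Dix.CohDimLEAt (Spec (CommRingCat.of (FractionRing A))) ℓ (d + 1) := by
  let K := FractionRing A
  let W := integralClosure A K
  haveI : IsNoetherianRing W := DVRDom.isNoetherianRing_integralClosure A K
  haveI : Algebra.IsIntegral A W := integralClosure.AlgebraIsIntegral
  have hinj : Function.Injective (algebraMap A W) := fun a b h =>
    IsFractionRing.injective A K (congrArg Subtype.val h)
  haveI : IsIntegrallyClosed W := integralClosure.isIntegrallyClosedOfFiniteExtension K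
  haveI : IsFractionRing W K := integralClosure.isFractionRing_of_finite_extension K K
  haveI : Ring.DimensionLEOne W := by
    haveI : Ring.DimensionLEOne A := ⟨fun {p} hp0 hp => by
      rcases Ring.krullDimLE_one_iff.mp inferInstance p hp with h | h
      · rw [IsDomain.minimalPrimes_eq_singleton_bot, Set.mem_singleton_iff] at h
        exact absurd h hp0
      · exact h⟩
    infer_instance
  haveI : IsDedekindDomain W := { }
  haveI : FaithfulSMul A W := (faithfulSMul_iff_algebraMap_injective A W).mpr hinj
  haveI : IsLocalRing W := HenselLib.Olivier.isLocalRing_of_integral_domain (A := A) W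
  haveI : HenselianLocalRing W := henselianLocalRing_of_integral A W
  haveI : IsLocalHom (algebraMap A W) := Algebra.IsIntegral.isLocalHom A W
  have hWf : ¬ IsField W := fun h => hA (isField_of_isIntegral_of_isField hinj h)
  haveI : IsDiscreteValuationRing W :=
    (List.TFAE.out (IsDiscreteValuationRing.TFAE W hWf) 0 2 : IsDiscreteValuationRing W ↔ IsDedekindDomain W).2 inferInstance
  let m := maximalIdeal W
  obtain ⟨x, hx, hx0⟩ : ∃ x ∈ maximalIdeal A, x ≠ 0 :=
    Submodule.exists_mem_ne_zero_of_ne_bot fun h => hA (IsLocalRing.isField_iff_maximalIdeal_eq.mpr h)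
  haveI : Module.Finite A (ResidueField W) := by
    haveI := CAlgMisc2.finite_quot (R := A) K K W Subtype.val_injective x hx0
    let xW : Submodule A W := Ideal.span {x} • ⊤
    have hle : xW ≤ m.restrictScalars A := by
      refine Submodule.smul_le.2 fun a ha w _ => ?_
      show a • w ∈ m
      rw [Algebra.smul_def]
      refine m.mul_mem_right _ (map_nonunit _ _ ?_)
      exact (Ideal.span_singleton_le_iff_mem _).2 hx ha
    exact Module.Finite.of_surjective ((xW.liftQ (Ideal.Quotient.mkₐ A m).toLinearMap (by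
      intro w hw
      exact Ideal.Quotient.eq_zero_iff_mem.2 (hle hw))))
      (fun z => by obtain ⟨w, rfl⟩ := Ideal.Quotient.mk_surjective z; exact ⟨Submodule.Quotient.mk w, rfl⟩)
  haveI : Module.Finite (ResidueField A) (ResidueField W) := Module.Finite.of_restrictScalars_finite A _ _
  refine UpperDvr.cohDimLEAt_fraction W K hℓ ?_ ?_
  · have := hu.map (algebraMap A W)
    rwa [map_natCast] at this
  · let π : Spec (CommRingCat.of (ResidueField W)) ⟶ Spec (CommRingCat.of (ResidueField A)) :=
      H8Lim.algSpec (ResidueField A) (ResidueField W)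
    haveI : IsFinite π := (IsFinite.SpecMap_iff _).2 (RingHom.finite_algebraMap.2 inferInstance)
    exact Transc.cohDimLEAt_of_cdKilled hℓ fun r hr => (Transc.cdKilled_of_cohDimLEAt hk hr).of_finite π

end Groth.Agent.CdDev9.LowerGeneral
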