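import Groth.Agent.GalEt.CdDimOne
import Groth.Agent.Et18.AcyclicN.AdjExtBounded
import Groth.Agent.SiteCmp16.Derived

/-!
Vanishing of the cohomology of a direct image from vanishing of the cohomology of the higher direct images,
and torsion of finite biproducts.
-/

set_option autoImplicit false
set_option linter.all false
set_option backward.isDefEq.respectTransparency.types false
set_option backward.isDefEq.respectTransparency false
set_option backward.defeqAttrib.useBackward true
set_option synthInstance.maxHeartbeats 400000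
set_option maxHeartbeats 1000000

universe u

open CategoryTheory CategoryTheory.Limits CategoryTheory.Abelian AlgebraicGeometry Opposite
open Groth.Agent.Et18 Groth.Agent.GalEt

noncomputable section

namespace Groth.Agent.CdDev9

variable {X Y : Scheme.{u}}

theorem subsingleton_H_of_iso {A B : EtCoh.Ab X} (e : A ≅ B) (q : ℕ) (h : Subsingleton (EtCoh.H X A q)) :
    Subsingleton (EtCoh.H X B q) :=
  @Equiv.subsingleton _ _ ((EtCoh.HF X q).mapIso e.symm).addCommGroupIsoToAddEquiv.toEquiv h

theorem primesIn_mul {L : Set ℕ} {m n : ℕ} (hm : EtAcyc.PrimesIn L m) (hn : EtAcyc.PrimesIn L n) :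
    EtAcyc.PrimesIn L (m * n) :=
  ⟨Nat.mul_pos hm.1 hn.1, fun p hp h => (hp.dvd_mul.1 h).elim (hm.2 p hp) (hn.2 p hp)⟩

theorem isLTorsion_biproduct {ι : Type*} [Finite ι] (P : ι → EtCoh.Ab X) {L : Set ℕ}
    (h : ∀ i, EtAcyc.IsLTorsion L (P i)) : EtAcyc.IsLTorsion L (⨁ P) := by
  classical
  letI := Fintype.ofFinite ι
  refine (isLTorsion_iff_stalks _ _).2 ?_
  intro Ω _ _ ξ t
  let T := EtCoh.stalk ξ
  haveI : PreservesLimitsOfShape (Discrete WalkingPair) T := inferInstance
  haveI : T.Additive := Functor.additive_of_preserves_binary_products T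
  choose m hm hmt using fun i => (isLTorsion_iff_stalks _ _).1 (h i) Ω ξ (T.map (biproduct.π P i) t)
  have hM : EtAcyc.PrimesIn L (∏ i, m i) := by
    refine Finset.prod_induction _ _ (fun _ _ => primesIn_mul) (TorsionColim.primesIn_one _) fun i _ => hm i
  refine ⟨∏ i, m i, hM, ?_⟩
  have htot : ∑ b, biproduct.π P b ≫ biproduct.ι P b = 𝟙 (⨁ P) := by
    refine biproduct.hom_ext' _ _ fun j => ?_
    rw [Preadditive.comp_sum, Finset.sum_eq_single j (fun b _ h => by
      rw [biproduct.ι_π_ne_assoc _ (Ne.symm h), zero_comp]) (by simp), biproduct.ι_π_self_assoc, Category.comp_id]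
  have h1 : T.map (∑ b, biproduct.π P b ≫ biproduct.ι P b) t = t := by
    rw [htot, CategoryTheory.Functor.map_id]
    rfl
  rw [Functor.map_sum] at h1
  let ev : (T.obj (⨁ P) ⟶ T.obj (⨁ P)) →+ (T.obj (⨁ P) : Type (u + 1)) :=
    AddMonoidHom.mk' (fun f => f t) (fun f g => rfl)
  rw [← h1]
  show (∏ i, m i) • ev _ = 0
  rw [map_sum, Finset.smul_sum]
  refine Finset.sum_eq_zero fun i hi => ?_
  show (∏ i, m i) • T.map (_ ≫ _) t = 0
  rw [Functor.map_comp, ConcreteCategory.comp_apply, ← map_nsmul]
  obtain ⟨c, hc⟩ : m i ∣ ∏ i, m i := Finset.dvd_prod_of_mem m hi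
  rw [hc, mul_comm, mul_smul, hmt i, smul_zero, map_zero]

/-- Cohomology of a direct image vanishes in a degree where the source and the higher direct images
have none. -/
theorem subsingleton_H_push (f : X ⟶ Y) [PreservesFiniteLimits (EtCoh.pull f)] :
    ∀ (k : ℕ) (G : EtCoh.Ab X), Subsingleton (EtCoh.H X G (k + 1)) →
      (∀ t r : ℕ, r + t + 1 = k → Subsingleton (EtCoh.H Y ((EtCoh.Rpush f (t + 1)).obj G) r)) →
      Subsingleton (EtCoh.H Y ((EtCoh.push f).obj G) (k + 1)) := by
  intro k
  induction k with
  | zero =>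
    intro G hG _
    exact (injective_HofPush f G 1 (injective_adjExtHom_one (EtCoh.pullPushAdj f) _ _)).subsingleton
  | succ k ih =>
    intro G hG hR
    let S := SiteCoh.injEmbed G
    have hS : S.ShortExact := SiteCoh.injEmbed_shortExact G
    haveI : Injective S.X₂ := inferInstanceAs (Injective (Injective.under G))
    haveI : (EtCoh.pull f).PreservesMonomorphisms := inferInstance
    haveI : Injective ((EtCoh.push f).obj S.X₂) := Injective.injective_of_adjoint (EtCoh.pullPushAdj f) _
    haveI : PreservesFiniteLimits (EtCoh.push f) := by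
      haveI : PreservesLimitsOfSize.{0, 0} (EtCoh.push f) := (EtCoh.pullPushAdj f).rightAdjoint_preservesLimits
      exact PreservesLimitsOfSize.preservesFiniteLimits _
    let a : (EtCoh.push f).obj G ⟶ (EtCoh.push f).obj S.X₂ := (EtCoh.push f).map S.f
    let b : (EtCoh.push f).obj S.X₂ ⟶ (EtCoh.push f).obj S.X₃ := (EtCoh.push f).map S.g
    have hab : a ≫ b = 0 := by
      show (EtCoh.push f).map S.f ≫ (EtCoh.push f).map S.g = 0
      rw [← Functor.map_comp, S.zero, Functor.map_zero]
    haveI := hS.mono_f
    haveI : Mono a := inferInstanceAs (Mono ((EtCoh.push f).map S.f))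
    have hex : (ShortComplex.mk a b hab).Exact :=
      (hS.exact.map_of_mono_of_preservesKernel (EtCoh.push f) hS.mono_f inferInstance)
    let e : (EtCoh.push f).obj S.X₂ ⟶ Abelian.image b := Abelian.factorThruImage b
    have hae : a ≫ e = 0 := by
      rw [← cancel_mono (Abelian.image.ι b), Category.assoc, Abelian.image.fac, hab, zero_comp]
    have hS₁ : (ShortComplex.mk a e hae).ShortExact := by
      let φ : ShortComplex.mk a e hae ⟶ ShortComplex.mk a b hab :=
        { τ₁ := 𝟙 _
          τ₂ := 𝟙 _
          τ₃ := Abelian.image.ι b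
          comm₁₂ := (Category.id_comp _).trans (Category.comp_id _).symm
          comm₂₃ := (Category.id_comp _).trans (Abelian.image.fac b).symm }
      haveI : Epi φ.τ₁ := inferInstanceAs (Epi (𝟙 _))
      haveI : IsIso φ.τ₂ := inferInstanceAs (IsIso (𝟙 _))
      haveI : Mono φ.τ₃ := inferInstanceAs (Mono (Abelian.image.ι b))
      exact
      { exact := (ShortComplex.exact_iff_of_epi_of_isIso_of_mono φ).2 hex
        mono_f := inferInstance
        epi_g := inferInstanceAs (Epi (Abelian.factorThruImage b)) }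
    have hS₂ : (ShortComplex.mk (Abelian.image.ι b) (cokernel.π b) (kernel.condition _)).ShortExact :=
      { exact := ShortComplex.exact_kernel _
        mono_f := inferInstanceAs (Mono (Abelian.image.ι b))
        epi_g := inferInstanceAs (Epi (cokernel.π b)) }
    have hQ : Subsingleton (EtCoh.H X S.X₃ (k + 1)) := by
      refine subsingleton_of_forall_eq 0 fun z => ?_
      obtain ⟨y, hy⟩ := Ext.covariant_sequence_exact₃ _ hS z rfl (@Subsingleton.elim _ hG _ _)
      rw [← hy, Ext.eq_zero_of_injective y, Ext.zero_comp]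
    have hC : Subsingleton (EtCoh.H Y (cokernel b) k) := by
      obtain ⟨i⟩ := SiteCmp16.nonempty_rightDerived_one_iso (EtCoh.push f) hS
      exact subsingleton_H_of_iso i k (hR 0 k rfl)
    have hP : Subsingleton (EtCoh.H Y ((EtCoh.push f).obj S.X₃) (k + 1)) := ih S.X₃ hQ fun t r h => by
      obtain ⟨i⟩ := SiteCmp16.nonempty_rightDerived_shift (EtCoh.push f) hS (t + 1) (Nat.succ_le_succ (Nat.zero_le t))
      exact subsingleton_H_of_iso i.symm r (hR (t + 1) r (by omega))
    have hI : Subsingleton (EtCoh.H Y (Abelian.image b) (k + 1)) := by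
      refine subsingleton_of_forall_eq 0 fun z => ?_
      obtain ⟨y, hy⟩ := Ext.covariant_sequence_exact₁ _ hS₂ z (@Subsingleton.elim _ hP _ _) (n₀ := k) rfl
      rw [← hy, show y = 0 from @Subsingleton.elim _ hC _ _, Ext.zero_comp]
    refine subsingleton_of_forall_eq 0 fun z => ?_
    obtain ⟨y, hy⟩ := Ext.covariant_sequence_exact₁ _ hS₁ z (Ext.eq_zero_of_injective _) (n₀ := k + 1) rfl
    rw [← hy, show y = 0 from @Subsingleton.elim _ hI _ _, Ext.zero_comp]

end Groth.Agent.CdDev9
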