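import Groth.Agent.EtASLib.ZarGa
import Groth.Agent.EtASLib.ProperFinite
import Groth.Agent.AS24.Vanish
import Groth.Agent.Coherent.SchemeCoh
import Groth.Agent.QCohLoc.Unit
import Groth.Prelude.Def_Dix

/-!
`H^q(Y, ℤ/p) = 0` for `q ≥ d + 2` on schemes affine over one of quasi-coherent cohomological dimension `d`.
-/

set_option autoImplicit false
set_option linter.all false
set_option backward.isDefEq.respectTransparency false
set_option backward.isDefEq.respectTransparency.types false
set_option synthInstance.maxHeartbeats 400000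
set_option maxHeartbeats 1000000

universe u

open CategoryTheory CategoryTheory.Limits CategoryTheory.Abelian AlgebraicGeometry Opposite TopologicalSpace

namespace Groth.Agent.CdDev9

/-- Quasi-coherent cohomology vanishes above `d`. -/
def QcBound (X : Scheme.{u}) (d : ℕ) : Prop :=
  ∀ M : X.Modules, Coh.IsQCoh M → ∀ q : ℕ, d < q → Subsingleton (Coh.HH X M q)

theorem QcBound.of_affine {X Y : Scheme.{u}} {d : ℕ} (hX : QcBound X d) (g : Y ⟶ X) [IsAffineHom g] :
    QcBound Y d := by
  intro M hM q hq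
  haveI : Coh.IsQCoh M := hM
  let e : Coh.HH Y M q ≃+ Coh.HH X ((Coh.push g).obj M) q :=
    ((Coherent.HHTopEquiv M q).trans (Coherent.H'PushEquiv (X := Y.toTopCat) (Y := X.toTopCat) (f := g.base)
      X.isBasis_affineOpens (Coh.toAb M) (Coherent.acyclicOverBasis_affine g M) ⊤ q)).trans
        (Coherent.HHTopEquiv ((Coh.push g).obj M) q).symm
  haveI : Coh.IsQCoh ((Coh.push g).obj M) := Coherent.isQCoh_push g M
  exact @Equiv.subsingleton _ _ e.toEquiv (hX _ inferInstance q hq)

theorem subsingleton_const_of_qc {X : Scheme.{u}} [CompactSpace X] [QuasiSeparatedSpace X] {d : ℕ}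
    (hX : QcBound X d) (p : ℕ) [hp : Fact p.Prime] (h0 : (p : Γ(X, ⊤)) = 0) (q : ℕ) (hq : d + 2 ≤ q) :
    Subsingleton (EtCoh.H X (EtCoh.const X (ZMod p)) q) := by
  haveI : EtZar.ZarCont X := Groth.Agent.Desc19b.EtQCoh.zarCont X
  have hG : ∀ r, d < r → Subsingleton (EtCoh.H X (EtCoh.Ga X) r) := fun r hr => by
    haveI := hX (Coh.structureModule X) (QCohLoc.isQCoh_structureModule X) r hr
    exact (EtASLib.cmp_bijective (X := X) r).2.subsingleton
  obtain ⟨q, rfl⟩ : ∃ r, q = r + 1 := ⟨q - 1, by omega⟩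
  exact AS24.subsingleton_succ p h0 q (fun y => ⟨0, (hG q (by omega)).elim _ _⟩) (hG (q + 1) (by omega))

end Groth.Agent.CdDev9
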