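import Groth.Agent.CdDev9.FiniteDevissage
import Groth.Agent.CdDev9.QcConst
import Groth.Agent.CdDev9.Double
import Groth.Agent.Et18.Descent0.ExtRetract
import Groth.Agent.SGA3cLib.MonoClosed

/-!
`cd_p ≤ cd_qc + 1` by dévissage with a constant bound.
-/

set_option autoImplicit false
set_option linter.all false
set_option backward.isDefEq.respectTransparency.types false
set_option backward.isDefEq.respectTransparency false
set_option backward.defeqAttrib.useBackward true
set_option synthInstance.maxHeartbeats 400000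
set_option maxHeartbeats 1000000

universe u

open CategoryTheory CategoryTheory.Limits CategoryTheory.Abelian AlgebraicGeometry Opposite TopologicalSpace
open Groth.Agent.Et18 Groth.Agent.Et18.CdField

noncomputable section

namespace Groth.Agent.CdDev9

open Groth.Agent.CdCurve24 Groth.Agent.GalEt

theorem natCast_zero_of_map {X Y : Scheme.{u}} (g : Y ⟶ X) {p : ℕ} (h : (p : Γ(X, ⊤)) = 0) : (p : Γ(Y, ⊤)) = 0 := by
  rw [← map_natCast g.appTop.hom, h, map_zero]

/-- The unit along a section of a retraction, pushed along the retraction, is a split epimorphism. -/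
theorem isSplitEpi_push_unit {Z D : Scheme.{u}} (a : Z ⟶ D) (r : D ⟶ Z) (har : a ≫ r = 𝟙 Z) (G : EtCoh.Ab Z) :
    IsSplitEpi ((EtCoh.push r).map ((EtCoh.pullPushAdj a).unit.app ((EtCoh.pull r).obj G))) := by
  let A := (EtCoh.pullPushAdj r).comp (EtCoh.pullPushAdj a)
  let e : EtCoh.pull r ⋙ EtCoh.pull a ≅ 𝟭 (EtCoh.Ab Z) :=
    (EtCore.pullComp a r).symm ≪≫ EtCore.pullCongr har ≪≫ Et18.Descent0.pullIdIso Z
  haveI : (EtCoh.pull r ⋙ EtCoh.pull a).Full := Functor.Full.of_iso e.symm
  haveI : (EtCoh.pull r ⋙ EtCoh.pull a).Faithful := Functor.Faithful.of_iso e.symm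
  haveI : IsIso (A.unit.app G) := inferInstance
  refine ⟨⟨⟨inv (A.unit.app G) ≫ (EtCoh.pullPushAdj r).unit.app G, ?_⟩⟩⟩
  rw [Category.assoc, IsIso.inv_comp_eq, Category.comp_id]
  exact ((EtCoh.pullPushAdj r).comp_unit_app (EtCoh.pullPushAdj a) G).symm

/-- Kernels of split epimorphisms have injective maps on cohomology. -/
theorem subsingleton_of_splitEpi {X : Scheme.{u}} {S : ShortComplex (EtCoh.Ab X)} (hS : S.ShortExact)
    [IsSplitEpi S.g] (q : ℕ) (h : Subsingleton (EtCoh.H X S.X₂ (q + 1))) :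
    Subsingleton (EtCoh.H X S.X₁ (q + 1)) := by
  refine subsingleton_of_forall_eq 0 fun z => ?_
  obtain ⟨y, rfl⟩ := Ext.covariant_sequence_exact₁ _ hS z (@Subsingleton.elim _ h _ _) (rfl : q + 1 = q + 1)
  have hy : y = (y.comp (Ext.mk₀ (section_ S.g)) (add_zero q)).comp (Ext.mk₀ S.g) (add_zero q) := by
    rw [Ext.comp_assoc_of_second_deg_zero, Ext.mk₀_comp_mk₀, IsSplitEpi.id, Ext.comp_mk₀_id]
  rw [hy, Ext.comp_assoc_of_second_deg_zero, hS.comp_extClass, Ext.comp_zero]

/-- `H^q(Z, j_! ℤ/p) = 0` for `q ≥ d + 2`. -/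
theorem subsingleton_open_of_qc {Z : Scheme.{u}} [AlgebraicGeometry.IsNoetherian Z] [AlgebraicGeometry.IsReduced Z] {d : ℕ}
    (hZ : QcBound Z d) (p : ℕ) [hp : Fact p.Prime] (h0 : (p : Γ(Z, ⊤)) = 0) (W : Z.Etale) [IsOpenImmersion W.hom]
    (q : ℕ) (hq : d + 2 ≤ q) : Subsingleton (EtCoh.H Z (EtPBC.extZeroConst W (ZMod p)) q) := by
  obtain ⟨q, rfl⟩ : ∃ r, q = r + 1 := ⟨q - 1, by omega⟩
  let jj : W.left ⟶ Z := W.hom
  haveI : IsOpenImmersion jj := ‹IsOpenImmersion W.hom›
  haveI : EtShriek.JCont W.hom := jCont W.hom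
  let I := Scheme.IdealSheafData.vanishingIdeal
    (⟨(Set.range jj)ᶜ, jj.isOpenEmbedding.isOpen_range.isClosed_compl⟩ : Closeds Z)
  obtain ⟨D, a, b, r, ha, hb, hr, hD, har, hbr, hpb, hu⟩ := exists_double I.subschemeι
  haveI := ha; haveI := hb; haveI := hr; haveI := hD
  obtain ⟨hjo, hjr⟩ := isOpenImmersion_into_double hpb hu jj (by rw [I.range_subschemeι]; rfl)
  let jD := jj ≫ b
  haveI : IsOpenImmersion jD := hjo
  haveI : EtShriek.JCont jD := jCont jD
  haveI : IsLocallyNoetherian D := LocallyOfFiniteType.isLocallyNoetherian r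
  haveI : CompactSpace D := QuasiCompact.compactSpace_of_compactSpace r
  haveI : AlgebraicGeometry.IsNoetherian D := { }
  let G := EtCoh.const Z (ZMod p)
  let F := (EtCoh.pull r).obj G
  obtain ⟨w, hS⟩ := shortExact_recollement (j := jD) (i := a) hjr F
  have hF : Subsingleton (EtCoh.H D F (q + 1)) :=
    CdDev9.subsingleton_H_of_iso (EtCore.pullConst r (ZMod p)).symm (q + 1)
      (subsingleton_const_of_qc (hZ.of_affine r) p (natCast_zero_of_map r h0) (q + 1) hq)
  haveI := push_preservesHomology_of_integral r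
  haveI : PreservesFiniteColimits (EtCoh.push r) :=
    (EtCoh.push r).preservesFiniteColimits_of_preservesHomology
  let S' := (ShortComplex.mk _ _ w).map (EtCoh.push r)
  have hS' : S'.ShortExact := hS.map_of_exact (EtCoh.push r)
  haveI : IsSplitEpi S'.g := isSplitEpi_push_unit a r har G
  have h1 : Subsingleton (EtCoh.H Z S'.X₁ (q + 1)) :=
    subsingleton_of_splitEpi hS' q ((CdField.subsingleton_H_push_iff r F (q + 1)).2 hF)
  obtain ⟨e₀⟩ := nonempty_extZeroConst_iso W (ZMod p)
  obtain ⟨c⟩ := nonempty_compactification jD r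
  have hjD : jD ≫ r = W.hom := by rw [Category.assoc, hbr, Category.comp_id]
  let E : EtShriek.extZero W.hom ≅ EtShriek.extZero jD ⋙ EtCoh.push r :=
    extZeroShriekIso W.hom ≪≫ eqToIso (by congr 1; exact hjD.symm) ≪≫ c
  let eF : EtCoh.const W.left (ZMod p) ≅ (EtShriek.restrAlong jD).obj F :=
    (EtCore.pullConst jD (ZMod p)).symm ≪≫ (EtCoh.pull jD).mapIso (EtCore.pullConst r (ZMod p)).symm ≪≫
      (pullRestrIso jD).app F
  exact CdDev9.subsingleton_H_of_iso
    (e₀ ≪≫ E.app _ ≪≫ (EtShriek.extZero jD ⋙ EtCoh.push r).mapIso eF).symm (q + 1) h1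

/-- Vanishing for sheaves with unipotent generic stalk, with a constant bound. -/
theorem vanish_of_good_const {Z : Scheme.{u}} [AlgebraicGeometry.IsNoetherian Z] {η : Z} (hη : ∀ x : Z, η ⤳ x)
    {ℓ n : ℕ} (hℓ : ℓ.Prime)
    (hlow : ∀ G : EtCoh.Ab Z, EtAcyc.IsLTorsion {ℓ} G → η ∉ closure (EtPBC.supp G) →
      ∀ q, n < q → Subsingleton (EtCoh.H Z G q))
    (hopen : ∀ (W : Z.Etale) [IsOpenImmersion W.hom], ∀ q, n < q →
      Subsingleton (EtCoh.H Z (EtPBC.extZeroConst W (ZMod ℓ)) q))
    (hconst : ∀ q, n < q → Subsingleton (EtCoh.H Z (EtCoh.const Z (ZMod ℓ)) q))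
    (L : Type u) [Field L] (j : Spec (CommRingCat.of L) ⟶ Z) [IsPreimmersion j] (hrange : Set.range j = {η})
    (M : Type u) [Field M] [Algebra L M] [Module.Finite L M] [IsGalois L M] (hM : IsPGroup ℓ (M ≃ₐ[L] M))
    (G : EtCoh.Ab Z) (hGc : EtPBC.IsConstructible G) (hGt : EtAcyc.IsLTorsion {ℓ} G)
    (hG : Good L M ((EtCoh.pull j).obj G) ℓ) (q : ℕ) (hq : n < q) :
    Subsingleton (EtCoh.H Z G q) := by
  haveI := finite_stalk_of_isConstructible hGc (sepPoint Z η)
  generalize hN : Nat.card ((EtCoh.stalk (sepPoint Z η)).obj G) = N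
  induction N using Nat.strong_induction_on generalizing G with
  | _ N ih =>
  subst hN
  by_cases hz : η ∈ EtPBC.supp G
  swap
  · exact hlow G hGt (notMem_closure_supp hη hGc hz) q hq
  haveI : Nontrivial ((EtCoh.stalk (xi L M)).obj ((EtCoh.pull j).obj G)) := by
    rw [← not_subsingleton_iff_nontrivial]
    intro h
    refine (mem_supp_iff G (xi L M ≫ j) ?_).1 hz
      ((@AddCommGrpCat.isZero_of_subsingleton _ h).of_iso ((stalkPullIso j (xi L M)).app G).symm)
    exact Set.mem_singleton_iff.1 (hrange ▸ ⟨xi L M default, rfl⟩)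
  obtain ⟨σ, hσℓ, hσ⟩ := GalEt.exists_section L M hℓ hM hG
  have hσ0 : σ ≠ 0 := fun h => hσ (by rw [h, map_zero, map_zero])
  obtain ⟨⟨W, hW, ℓ', hℓ', rfl, s, hs⟩, w, hwo, hgerm⟩ :=
    exists_sectData_generic hη j hrange G ℓ hℓ.pos σ hσ0 hσℓ
  let d : SectData (fun m => m = ℓ') G := ⟨W, hW, ℓ', hℓ', rfl, s, hs⟩
  haveI : IsOpenImmersion W.hom := hwo
  haveI : NeZero ℓ' := ⟨hℓ.ne_zero⟩
  have hηW : η ∈ Set.range W.hom := ⟨fiberPt w, (hom_fiberPt w).trans (sepPoint_default Z η)⟩
  obtain ⟨hEt, -, hEf, hEd⟩ := open_const_facts (n := n + 1) hℓ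
    (fun G' h1 h2 q hq => hlow G' h1 h2 q (by omega)) (fun q hq => hconst q (by omega)) W hηW
  let ξ := sepPoint Z η
  let E := EtPBC.extZeroConst W (ZMod ℓ')
  have hEc : EtPBC.IsConstructible E := isConstructible_extZeroConst W hW _
  let ψ : E ⟶ G := d.hom
  obtain ⟨z, hzs⟩ := mem_range_stalk_sectData d (ξ := ξ) w
  have hKc := (isConstructible_kernel_cokernel ψ hEc hGc).1
  have hCc := (isConstructible_kernel_cokernel ψ hEc hGc).2
  have hψinj : Function.Injective ((EtCoh.stalk ξ).map ψ) := by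
    refine (injective_iff_map_eq_zero ((EtCoh.stalk ξ).map ψ).hom).2 fun z₁ hz₁ => ?_
    by_contra hne
    haveI := hEf
    have hz₁' : addOrderOf z₁ = ℓ' := by
      refine (hℓ.eq_one_or_self_of_dvd _ (addOrderOf_dvd_natCard z₁ |>.trans hEd)).resolve_left ?_
      exact fun h => hne (AddMonoid.addOrderOf_eq_one_iff.1 h)
    have hcard : Nat.card ((EtCoh.stalk ξ).obj E) = ℓ' :=
      Nat.dvd_antisymm hEd (hz₁' ▸ addOrderOf_dvd_natCard z₁)
    haveI : Fact ℓ'.Prime := ⟨hℓ⟩
    obtain ⟨k, hk⟩ := AddSubgroup.mem_zmultiples_iff.1 (mem_zmultiples_of_prime_card hcard hne : z ∈ _)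
    apply hgerm
    refine hzs.symm.trans ?_
    rw [← hk, map_zsmul, show (EtCoh.stalk ξ).map ψ z₁ = 0 from hz₁, smul_zero]
  have hKs : η ∉ EtPBC.supp (kernel ψ) := fun hmem => by
    refine (mem_supp_iff _ ξ (sepPoint_default Z η)).1 hmem ?_
    haveI : Mono ((EtCoh.stalk ξ).map ψ) := (AddCommGrpCat.mono_iff_injective _).2 hψinj
    exact IsZero.of_iso (isZero_kernel_of_mono _) (PreservesKernel.iso _ ψ)
  have hKlow := hlow _ (isLTorsion_of_mono (kernel.ι ψ) hEt) (notMem_closure_supp hη hKc hKs)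
  have hC : Subsingleton (EtCoh.H Z (cokernel ψ) q) := by
    haveI : Epi ((EtCoh.pull j).map (cokernel.π ψ)) := inferInstance
    haveI := finite_stalk_of_isConstructible hCc ξ
    have hsurj : Function.Surjective ((EtCoh.stalk ξ).map (cokernel.π ψ)) :=
      (AddCommGrpCat.epi_iff_surjective _).1 inferInstance
    refine ih _ (lt_of_le_of_ne (Nat.card_le_card_of_surjective _ hsurj) fun he => ?_) (cokernel ψ) hCc
      (Et18.isLTorsion_of_epi _ (cokernel.π ψ) hGt) (hG.of_epi L M ((EtCoh.pull j).map (cokernel.π ψ))) inferInstance rfl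
    have hbij := hsurj.bijective_of_nat_card_le he.symm.le
    apply hgerm
    refine hbij.1 (Eq.trans ?_ (map_zero _).symm)
    rw [← hzs, ← ConcreteCategory.comp_apply, ← Functor.map_comp, cokernel.condition, Functor.map_zero]
    rfl
  have hI : Subsingleton (EtCoh.H Z (Abelian.image ψ) q) :=
    subsingleton_right (SiteCmp16.imSeq_shortExact ψ) (hopen W q hq) (hKlow (q + 1) (by omega))
  have hS₂ : (ShortComplex.mk (Abelian.image.ι ψ) (cokernel.π ψ) (kernel.condition _)).ShortExact :=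
    { exact := ShortComplex.exact_kernel _
      mono_f := inferInstanceAs (Mono (Abelian.image.ι ψ))
      epi_g := inferInstanceAs (Epi (cokernel.π ψ)) }
  exact CdField.subsingleton_of_shortExact hS₂ hI hC

/-- The method of the trace, with the extended sheaf given. -/
theorem vanish_of_trace' {Z Z' U U' : Scheme.{u}} (u₀ : U ⟶ Z) [IsOpenImmersion u₀]
    (f : U' ⟶ U) [IsFinite f] [Etale f] (j' : U' ⟶ Z') [IsOpenImmersion j'] [EtShriek.JCont j']
    (π : Z' ⟶ Z) [IsFinite π]
    (e : j' ≫ π = f ≫ u₀) (d : ℕ) (hd : ∀ x : U, f.finrank x = d) {ℓ : ℕ} (hℓd : ¬ ℓ ∣ d) (G : EtCoh.Ab Z)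
    (hG : EtAcyc.IsLTorsion {ℓ} G) (q : ℕ)
    (hlow : ∀ G' : EtCoh.Ab Z, EtAcyc.IsLTorsion {ℓ} G' → EtPBC.supp G' ⊆ (Set.range u₀)ᶜ →
      Subsingleton (EtCoh.H Z G' q))
    (h : Subsingleton (EtCoh.H Z' ((EtShriek.extZero j').obj ((EtShriek.restrAlong j').obj
      ((EtCoh.pull π).obj G))) q)) :
    Subsingleton (EtCoh.H Z G q) := by
  haveI : EtShriek.JCont u₀ := jCont u₀
  haveI : EtShriek.JCont f := jCont f
  refine (open_recollement_vanish u₀ G hG q).1 hlow ?_
  let GU := (EtShriek.restrAlong u₀).obj G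
  let X₁ := (EtShriek.extZero u₀).obj GU
  have hX₁ : EtAcyc.IsLTorsion {ℓ} X₁ := (open_recollement_vanish u₀ G hG q).2.2
  obtain ⟨i⟩ := nonempty_model_iso u₀ f j' π e G
  have hP : Subsingleton (EtCoh.H Z ((EtShriek.extZero u₀).obj ((EtCoh.push f).obj ((EtCoh.pull f).obj GU))) q) :=
    subsingleton_H_of_iso i.symm q ((CdField.subsingleton_H_push_iff π _ q).2 h)
  let a := (EtShriek.extZero u₀).map ((EtCoh.pullPushAdj f).unit.app GU)
  let b := (EtShriek.extZero u₀).map ((pushPullAdj f).counit.app GU)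
  haveI : PreservesColimitsOfSize.{0, 0} (EtShriek.extZero u₀) :=
    (EtShriek.extZeroAdj u₀).leftAdjoint_preservesColimits
  haveI : PreservesFiniteLimits (EtShriek.extZero u₀) := Et18.extZero_preservesFiniteLimits u₀
  haveI : (EtShriek.extZero u₀).Additive := Functor.additive_of_preserves_binary_products _
  have hab : a ≫ b = d • 𝟙 X₁ := by
    rw [← Functor.map_comp, unit_trace f d hd GU,
      Functor.map_nsmul]
    exact congrArg (d • ·) ((EtShriek.extZero u₀).map_id GU)
  haveI := isIso_nsmul_of_isLTorsion {ℓ} X₁ hX₁ d (fun r hr hrℓ => by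
    rw [Set.mem_singleton_iff] at hrℓ
    exact hrℓ ▸ hℓd)
  refine subsingleton_of_forall_eq 0 fun z => ?_
  have h0 : z.comp (Ext.mk₀ a) (add_zero q) = 0 := @Subsingleton.elim _ hP _ _
  have h2 := congrArg (fun w => (Ext.comp w (Ext.mk₀ b) (add_zero q)).comp (Ext.mk₀ (inv (d • 𝟙 X₁))) (add_zero q)) h0
  simp only [Ext.comp_assoc_of_second_deg_zero, Ext.mk₀_comp_mk₀, Ext.zero_comp] at h2
  rw [hab, IsIso.hom_inv_id, Ext.comp_mk₀_id] at h2
  exact h2

variable {X : Scheme.{u}} [AlgebraicGeometry.IsNoetherian X] {p d : ℕ}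

/-- The statement for sheaves whose support lies over `W`. -/
def Over' (p d : ℕ) (W : Closeds X) : Prop :=
  ∀ (Y : Scheme.{u}) (g : Y ⟶ X) [IsFinite g] (F : EtCoh.Ab Y), EtAcyc.IsLTorsion {p} F →
    g '' closure (EtPBC.supp F) ⊆ (W : Set X) → ∀ q, d + 1 < q → Subsingleton (EtCoh.H Y F q)

theorem integral_case_qc [hp : Fact p.Prime] (h0 : (p : Γ(X, ⊤)) = 0) (hqc : QcBound X d) {W : Closeds X}
    (ih : ∀ W' < W, Over' p d W') (Z : Scheme.{u}) (g : Z ⟶ X) [IsIntegral Z] [IsFinite g]
    (hn : closure {g (genericPoint Z)} ⊆ (W : Set X)) (G : EtCoh.Ab Z)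
    (hGc : EtPBC.IsConstructible G) (hGt : EtAcyc.IsLTorsion {p} G) (q : ℕ) (hq : d + 1 < q) :
    Subsingleton (EtCoh.H Z G q) := by
  have low : ∀ (T : Scheme.{u}) (t : T ⟶ X) [IsIntegral T] [IsFinite t],
      closure {t (genericPoint T)} ⊆ (W : Set X) → ∀ G' : EtCoh.Ab T, EtAcyc.IsLTorsion {p} G' →
        genericPoint T ∉ closure (EtPBC.supp G') → ∀ q, d + 1 < q → Subsingleton (EtCoh.H T G' q) := by
    intro T t _ _ hT G' hG' hη q hq
    have hcl : IsClosed (t '' closure (EtPBC.supp G')) := t.isClosedMap _ isClosed_closure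
    refine ih ⟨_, hcl⟩ (lt_of_le_of_ne ?_ ?_) T t G' hG' subset_rfl q hq
    · rintro _ ⟨x, -, rfl⟩
      exact hT (((genericPoint_specializes x).map t.continuous).mem_closed isClosed_closure (subset_closure rfl))
    · intro he
      obtain ⟨x, hx, hxe⟩ : t (genericPoint T) ∈ t '' closure (EtPBC.supp G') :=
        (congrArg (fun C : Closeds X => (C : Set X)) he).ge (hT (subset_closure rfl))
      exact hη (Groth.Agent.SGA3cLib.eq_of_specializes_of_isIntegralHom t (genericPoint_specializes x) hxe.symm ▸ hx)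
  haveI : IsLocallyNoetherian Z := LocallyOfFiniteType.isLocallyNoetherian g
  haveI : CompactSpace Z := QuasiCompact.compactSpace_of_compactSpace g
  haveI : AlgebraicGeometry.IsNoetherian Z := { }
  obtain ⟨A, hA, hηA, -⟩ := exists_isAffineOpen_mem_and_subset (X := Z) (x := genericPoint Z) (U := ⊤) trivial
  haveI : Nonempty A.toScheme := ⟨⟨genericPoint Z, hηA⟩⟩
  haveI : Nonempty A := ⟨⟨genericPoint Z, hηA⟩⟩
  haveI : IsDomain Γ(Z, A) := inferInstance
  let K := FractionRing Γ(Z, A)
  let j₀ : Spec (CommRingCat.of K) ⟶ Z := Spec.map (CommRingCat.ofHom (algebraMap Γ(Z, A) K)) ≫ hA.fromSpec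
  obtain ⟨M, _, _, _, _, A₀, hA₀, hT⟩ :=
    exists_galois_triv K ((EtCoh.pull j₀).obj G) (isConstructible_pull j₀ hGc)
  haveI := hA₀
  let P : Sylow p (M ≃ₐ[K] M) := default
  let L := IntermediateField.fixedField (P : Subgroup (M ≃ₐ[K] M))
  haveI : Algebra.IsSeparable K L := Algebra.isSeparable_tower_bot_of_isSeparable K L M
  have hidx : ¬ p ∣ Module.finrank K L := by
    rw [IntermediateField.finrank_eq_fixingSubgroup_index, IntermediateField.fixingSubgroup_fixedField]
    exact P.not_dvd_index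
  obtain ⟨a, ha⟩ : ∃ a, Nat.card (M ≃ₐ[L] M) = p ^ a := by
    rw [IsGalois.card_aut_eq_finrank, IntermediateField.finrank_fixedField_eq_card]
    exact IsPGroup.iff_card.1 P.isPGroup'
  obtain ⟨U, U', Z', u₀, f, j', π, jL, hu₀, hf, hfe, hj', hπ, hZ', hU, hU', e, hrk, hjL, hrange, hjπ⟩ :=
    exists_cover A hA L
  haveI := hu₀; haveI := hf; haveI := hfe; haveI := hj'; haveI := hπ; haveI := hZ'; haveI := hjL
  haveI : IsFinite (π ≫ g) := inferInstance
  haveI : IsLocallyNoetherian Z' := LocallyOfFiniteType.isLocallyNoetherian π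
  haveI : CompactSpace Z' := QuasiCompact.compactSpace_of_compactSpace π
  haveI : AlgebraicGeometry.IsNoetherian Z' := { }
  haveI : EtShriek.JCont j' := jCont j'
  have hn' : closure {(π ≫ g) (genericPoint Z')} ⊆ (W : Set X) := by
    refine closure_minimal (Set.singleton_subset_iff.2 ?_) W.isClosed
    rw [Scheme.Hom.comp_apply]
    exact ((genericPoint_specializes (π (genericPoint Z'))).map g.continuous).mem_closed W.isClosed
      (hn (subset_closure rfl))
  refine vanish_of_trace' u₀ f j' π e _ hrk hidx G hGt q (fun G' hG' hs => low Z g hn G' hG' ?_ q hq) ?_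
  · intro hmem
    exact closure_minimal hs u₀.isOpenEmbedding.isOpen_range.isClosed_compl hmem
      ((genericPoint_spec Z).mem_open_set_iff u₀.isOpenEmbedding.isOpen_range |>.2
        (by simpa using Set.range_nonempty u₀))
  let G₀ := (EtCoh.pull j₀).obj G
  have e' : mor L M ≫ mor K L = mor K M := by
    rw [mor, mor, mor, ← Spec.map_comp, ← CommRingCat.ofHom_comp, ← IsScalarTower.algebraMap_eq]
  have hT' : Triv (mor L M) ((EtCoh.pull (mor K L)).obj G₀) A₀ :=
    (triv_pull_iff (mor K L) (mor L M) G₀ A₀).mpr (e'.symm ▸ hT)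
  let G' := (EtShriek.extZero j').obj ((EtShriek.restrAlong j').obj ((EtCoh.pull π).obj G))
  let cn : G' ⟶ (EtCoh.pull π).obj G := (EtShriek.extZeroAdj j').counit.app _
  have hgen : genericPoint Z' ∈ Set.range j' :=
    (genericPoint_spec Z').mem_open_set_iff j'.isOpenEmbedding.isOpen_range |>.2
      (by simpa using Set.range_nonempty j')
  let l := IsOpenImmersion.lift j' jL (by rw [hrange]; exact Set.singleton_subset_iff.2 hgen)
  haveI : IsIso ((EtCoh.pull j').map cn) := isIso_pull_map_counit (j := j') _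
  haveI : IsIso ((EtCoh.pull jL).map cn) := by
    have : jL = l ≫ j' := (IsOpenImmersion.lift_fac _ _ _).symm
    rw [NatIso.isIso_map_iff (EtCore.pullCongr this ≪≫ EtCore.pullComp l j')]
    exact Functor.map_isIso (EtCoh.pull l) _
  let ε : (EtCoh.pull (mor K L)).obj G₀ ≅ (EtCoh.pull jL).obj G' :=
    ((EtCore.pullComp (mor K L) j₀).app G).symm ≪≫ (EtCore.pullCongr hjπ.symm).app G ≪≫
      (EtCore.pullComp jL π).app G ≪≫ (asIso ((EtCoh.pull jL).map cn)).symm
  have hgood := (good_of_triv L M (isLTorsion_pull' _ (isLTorsion_pull' _ hGt)) hT').of_epi L M ε.hom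
  have hG't : EtAcyc.IsLTorsion {p} G' := (open_recollement_vanish j' _ (isLTorsion_pull' π hGt) q).2.2
  haveI : IsLocallyNoetherian U' := LocallyOfFiniteType.isLocallyNoetherian j'
  haveI : CompactSpace U' := QuasiCompact.compactSpace_of_compactSpace j'
  have hG'c : EtPBC.IsConstructible G' :=
    isConstructible_extZero j' (isConstructible_of_iso
      (isConstructible_pull j' (isConstructible_pull π hGc)) ((pullRestrIso j').app _))
  have h0' := natCast_zero_of_map (π ≫ g) h0
  exact vanish_of_good_const (fun x => genericPoint_specializes x) hp.out (low Z' (π ≫ g) hn')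
    (fun W' _ r hr => subsingleton_open_of_qc (hqc.of_affine (π ≫ g)) p h0' W' r hr)
    (fun r hr => subsingleton_const_of_qc (hqc.of_affine (π ≫ g)) p h0' r hr) L jL hrange M (IsPGroup.of_card ha)
    G' hG'c hG't hgood q hq

theorem constructible_case_qc [Fact p.Prime] (h0 : (p : Γ(X, ⊤)) = 0) (hqc : QcBound X d) {W₀ : Closeds X}
    (ih : ∀ W' < W₀, Over' p d W') (q : ℕ) (hq : d + 1 < q) (Y : Scheme.{u}) (g : Y ⟶ X) [IsFinite g] (W : Closeds Y) :
    ∀ (F : EtCoh.Ab Y), EtPBC.IsConstructible F → EtAcyc.IsLTorsion {p} F → EtPBC.supp F ⊆ W →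
      g '' (W : Set Y) ⊆ (W₀ : Set X) → Subsingleton (EtCoh.H Y F q) := by
  haveI : IsLocallyNoetherian Y := LocallyOfFiniteType.isLocallyNoetherian g
  haveI : CompactSpace Y := QuasiCompact.compactSpace_of_compactSpace g
  haveI : AlgebraicGeometry.IsNoetherian Y := { }
  induction W using WellFoundedLT.induction with
  | ind W ihW =>
  intro F hFc hFt hsupp hW
  rcases (EtPBC.supp F).eq_empty_or_nonempty with hempty | ⟨y₀, hy₀⟩
  · exact Sheaf.subsingleton_H_of_isZero (ClosedPointSupport.isZero_of_supp_empty hempty) q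
  haveI : QuasiSober (W : Set Y) := W.isClosed.isClosedEmbedding_subtypeVal.quasiSober
  let C := irreducibleComponent (⟨y₀, hsupp hy₀⟩ : (W : Set Y))
  have hC : IsIrreducible C := isIrreducible_irreducibleComponent
  obtain ⟨η, hη⟩ := QuasiSober.sober hC isClosed_irreducibleComponent
  let y : Y := η.1
  have hyW₀ : y ∈ (W : Set Y) := η.2
  have hmax : ∀ x ∈ (W : Set Y), x ⤳ y → x = y := fun x hx hxy => by
    have h : (⟨x, hx⟩ : (W : Set Y)) ⤳ η := (subtype_specializes_iff _ _).2 hxy
    have hsub : C ⊆ closure {(⟨x, hx⟩ : (W : Set Y))} := by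
      rw [← hη.def]; exact specializes_iff_closure_subset.1 h
    have he := eq_irreducibleComponent isIrreducible_singleton.closure.2 hsub
    exact congrArg Subtype.val ((hη.def.trans he.symm : closure {η} = closure {(⟨x, hx⟩ : (W : Set Y))})
      |> fun e => (Specializes.antisymm h (specializes_iff_closure_subset.2 e.ge)).eq)
  let I := Scheme.IdealSheafData.vanishingIdeal (⟨closure {y}, isClosed_closure⟩ : Closeds Y)
  let i := I.subschemeι
  have hr : Set.range i = closure {y} := by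
    rw [I.range_subschemeι]; rfl
  haveI : IsIntegral I.subscheme := isIntegral_vanishing _ isIrreducible_singleton.closure
  have hyW : closure {y} ⊆ (W : Set Y) := closure_minimal (Set.singleton_subset_iff.2 hyW₀) W.isClosed
  have hn : closure {(i ≫ g) (genericPoint I.subscheme)} ⊆ (W₀ : Set X) := by
    refine closure_minimal (Set.singleton_subset_iff.2 (hW ⟨i (genericPoint I.subscheme), ?_, ?_⟩)) W₀.isClosed
    · exact hyW (hr ▸ ⟨_, rfl⟩)
    · rw [Scheme.Hom.comp_apply]
  let u := (EtCoh.pullPushAdj i).unit.app F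
  haveI := isIso_counit (bcLiftsEtale_of_isImmersion i)
  haveI : IsIso ((EtCoh.pull i).map u) := isIso_pull_map_unit_of_counit i F
  have hP : EtPBC.IsConstructible ((EtCoh.push i).obj ((EtCoh.pull i).obj F)) :=
    isConstructible_push_closedImmersion i (isConstructible_pull i hFc)
  haveI : Epi u := by
    refine Preadditive.epi_of_isZero_cokernel _ (isZero_of_stalks fun x => by_contra fun hx => ?_)
    have hx' := (mem_supp_iff (cokernel u) (sepPoint Y x) (sepPoint_default Y x)).2 hx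
    by_cases hxi : x ∈ Set.range i
    · exact ClosedPointSupport.supp_subset_of_isZero_pull i
        (IsZero.of_iso (isZero_cokernel_of_epi _) (PreservesCokernel.iso _ u)) hx' hxi
    · refine hx (IsZero.of_epi ((EtCoh.stalk (sepPoint Y x)).map (cokernel.π u)) ?_)
      exact isZero_stalk_push_of_disjoint i _ (sepPoint Y x)
        ⟨(Set.range i)ᶜ, i.isClosedEmbedding.isClosed_range.isOpen_compl⟩
        (by rw [sepPoint_default]; exact hxi) disjoint_compl_left
  have hKc := (isConstructible_kernel_cokernel u hFc hP).1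
  have hKsub : EtPBC.supp (kernel u) ⊆ (W : Set Y) := (ClosedPointSupport.supp_mono (kernel.ι u)).trans hsupp
  have hKy : ∀ x ∈ EtPBC.supp (kernel u), x ∉ Set.range i := fun x hx hxi =>
    ClosedPointSupport.supp_subset_of_isZero_pull i
      (IsZero.of_iso (isZero_kernel_of_mono _) (PreservesKernel.iso _ u)) hx hxi
  let W' : Closeds Y := ⟨closure (EtPBC.supp (kernel u)), isClosed_closure⟩
  have hyW' : y ∉ (W' : Set Y) := fun hmem => by
    have hcons : ProCons.IsProConstructible (EtPBC.supp (kernel u)) := by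
      have := H8ProCons.isProConstructible_sInter (S := {EtPBC.supp (kernel u)})
        (fun s hs => hs ▸ (isLocallyConstructible_supp hKc).isConstructible)
      rwa [Set.sInter_singleton] at this
    obtain ⟨x, hx, hxy⟩ := (H8Lim.mem_closure_iff_exists_specializes hcons).1 hmem
    exact hKy x hx (hr ▸ hmax x (hKsub hx) hxy ▸ subset_closure rfl)
  have hlt : W' < W := lt_of_le_of_ne (closure_minimal hKsub W.isClosed) fun he =>
    hyW' (he ▸ hyW₀)
  have hK : Subsingleton (EtCoh.H Y (kernel u) q) :=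
    ihW W' hlt (kernel u) hKc (isLTorsion_of_mono (kernel.ι u) hFt) subset_closure
      ((Set.image_mono hlt.le).trans hW)
  have hI : Subsingleton (EtCoh.H Y ((EtCoh.push i).obj ((EtCoh.pull i).obj F)) q) :=
    (CdField.subsingleton_H_push_iff i _ q).2 (integral_case_qc h0 hqc ih I.subscheme (i ≫ g) hn _
      (isConstructible_pull i hFc) (isLTorsion_pull' i hFt) q hq)
  exact CdField.subsingleton_of_shortExact (S := ShortComplex.mk (kernel.ι u) u (kernel.condition u))
    { exact := ShortComplex.exact_kernel u } hK hI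

theorem over_of_qc [Fact p.Prime] (h0 : (p : Γ(X, ⊤)) = 0) (hqc : QcBound X d) (W : Closeds X) : Over' p d W := by
  induction W using WellFoundedLT.induction with
  | ind W ih =>
  intro Y g _ F hF hsupp q hq
  haveI : IsLocallyNoetherian Y := LocallyOfFiniteType.isLocallyNoetherian g
  haveI : CompactSpace Y := QuasiCompact.compactSpace_of_compactSpace g
  haveI : AlgebraicGeometry.IsNoetherian Y := { }
  have hFt : EtCoh.IsTorsion F := by
    rw [TorsionColim.isTorsion_iff, isLTorsion_iff_stalks]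
    intro Ω _ _ ξ t
    obtain ⟨m, hm, h0⟩ := (isLTorsion_iff_stalks _ _).1 hF Ω ξ t
    exact ⟨m, ⟨hm.1, fun q _ _ => trivial⟩, h0⟩
  obtain ⟨hc⟩ := ColimCons.nonempty_isColimit_im (F := F) hFt
  have := EtCechLib.preservesColimitsOfShape_HF (X := Y) q (Finset (ColimCons.Gen F))
  refine subsingleton_of_forall_eq 0 fun z => ?_
  obtain ⟨s, b, hb⟩ := Concrete.isColimit_exists_rep _ (isColimitOfPreserves (EtCoh.HF Y q) hc)
    (show ((EtCoh.HF Y q).obj F : Type (u + 1)) from z)
  haveI : Mono ((ColimCons.imCocone F).ι.app s) := inferInstanceAs (Mono (Limits.image.ι _))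
  have hv : Subsingleton (EtCoh.H Y ((ColimCons.imDiagram F).obj s) q) :=
    constructible_case_qc h0 hqc ih q hq Y g ⟨closure (EtPBC.supp F), isClosed_closure⟩ _
      (ColimCons.isConstructible_im s) (isLTorsion_of_mono ((ColimCons.imCocone F).ι.app s) hF)
      ((ColimCons.supp_im_subset s).trans subset_closure) hsupp
  show (show ((EtCoh.HF Y q).obj F : Type (u + 1)) from z) = 0
  rw [← hb]
  exact (congrArg _ (@Subsingleton.elim _ hv (show EtCoh.H Y ((ColimCons.imDiagram F).obj s) q from b) 0)).trans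
    (map_zero _)

end Groth.Agent.CdDev9
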