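import Groth.Agent.CdDev9.SerreCd
import Groth.Agent.CdDev9.LowerGeneral

/-!
Orderable fields have infinite 2-cohomological dimension.
-/

set_option autoImplicit false
set_option linter.all false
set_option backward.isDefEq.respectTransparency.types false
set_option backward.isDefEq.respectTransparency false
set_option synthInstance.maxHeartbeats 400000
set_option maxHeartbeats 1000000

universe u

open CategoryTheory CategoryTheory.Limits CategoryTheory.Abelian AlgebraicGeometry Opposite Polynomial
open Groth.Agent.Et18 Groth.Agent.Et18.CdField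
open Groth.Agent.GalEt

noncomputable section

namespace Groth.Agent.CdDev9.RealCd

/-- Formally real: minus one is not a sum of squares. -/
abbrev Real' (K : Type u) [Field K] : Prop := ¬ IsSumSq (-1 : K)

theorem real'_of_order {K : Type u} [Field K] (h : ∃ _ : LinearOrder K, IsStrictOrderedRing K) : Real' K := by
  obtain ⟨lo, ho⟩ := h
  letI := lo
  haveI := ho
  intro hs
  have := hs.nonneg
  linarith

theorem isSumSq_of_family {K : Type u} [Field K] {n : ℕ} (x : Fin n → K) : IsSumSq (∑ i, x i ^ 2) := by
  refine Finset.sum_induction _ IsSumSq (fun a b ha hb => ha.add hb) IsSumSq.zero fun i _ => ?_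
  rw [sq]
  exact IsSumSq.mul_self (x i)

/-- Odd degree extensions of formally real fields are formally real. -/
theorem real'_adjoinRoot {K : Type u} [Field K] [LinearOrder K] [IsStrictOrderedRing K] :
    ∀ (n : ℕ) (p : K[X]), p.natDegree ≤ n → Irreducible p → Odd p.natDegree →
      ∀ (m : ℕ) (f : Fin m → K[X]), (∀ i, (f i).natDegree < p.natDegree) → ¬ p ∣ ∑ i, f i ^ 2 + 1 := by
  classical
  intro n
  induction n with
  | zero =>
    intro p hp _ hodd
    rw [Nat.le_zero.1 hp] at hodd
    exact absurd hodd (by simp)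
  | succ n ih =>
    intro p hp hirr hodd m f hf hdvd
    obtain ⟨g, hg⟩ := hdvd
    set D := Finset.univ.sup fun i => (f i).natDegree with hD
    have hle : ∀ i, (f i).natDegree ≤ D := fun i => Finset.le_sup (f := fun i => (f i).natDegree) (Finset.mem_univ i)
    have hc : ∀ i, (f i ^ 2).coeff (2 * D) = (f i).coeff D ^ 2 := fun i => coeff_pow_of_natDegree_le (hle i)
    have hdeg : (∑ i, f i ^ 2 + 1).natDegree = 2 * D ∧ (∑ i, f i ^ 2 + 1) ≠ 0 := by
      have hlo : (∑ i, f i ^ 2 + 1).natDegree ≤ 2 * D := by
        refine le_trans (natDegree_add_le _ _) (max_le ?_ (by simp))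
        refine natDegree_sum_le_of_forall_le _ _ fun i _ => natDegree_pow_le.trans ?_
        have := hle i
        omega
      have hpos : 0 < (∑ i, f i ^ 2 + 1).coeff (2 * D) := by
        rw [coeff_add, finset_sum_coeff, coeff_one]
        simp only [hc]
        rcases Nat.eq_zero_or_pos D with h0 | h0
        · rw [if_pos (by omega)]
          have : 0 ≤ ∑ i, (f i).coeff D ^ 2 := Finset.sum_nonneg fun i _ => sq_nonneg _
          linarith
        · rw [if_neg (by omega), add_zero]
          haveI : Nonempty (Fin m) := by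
            by_contra h
            rw [not_nonempty_iff] at h
            rw [hD, Finset.univ_eq_empty, Finset.sup_empty] at h0
            exact lt_irrefl _ h0
          obtain ⟨i, -, hi⟩ := Finset.exists_mem_eq_sup Finset.univ Finset.univ_nonempty fun i => (f i).natDegree
          refine Finset.sum_pos' (fun j _ => sq_nonneg _) ⟨i, Finset.mem_univ i, ?_⟩
          have hi' : D = (f i).natDegree := hi
          rw [hi'] at h0 ⊢
          exact pow_two_pos_of_ne_zero (leadingCoeff_ne_zero.2 fun h => by simp [h] at h0)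
      exact ⟨le_antisymm hlo (le_natDegree_of_ne_zero hpos.ne'), fun h => by simp [h] at hpos⟩
    have hg0 : g ≠ 0 := fun h => hdeg.2 (by rw [hg, h, mul_zero])
    rw [hg, natDegree_mul hirr.ne_zero hg0] at hdeg
    have hDlt : D < p.natDegree := by
      rcases Nat.eq_zero_or_pos D with h0 | h0
      · rw [h0]; exact hirr.natDegree_pos
      · haveI : Nonempty (Fin m) := by
          by_contra h
          rw [not_nonempty_iff] at h
          rw [hD, Finset.univ_eq_empty, Finset.sup_empty] at h0
          exact lt_irrefl _ h0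
        obtain ⟨i, -, hi⟩ := Finset.exists_mem_eq_sup Finset.univ Finset.univ_nonempty fun i => (f i).natDegree
        exact hi.trans_lt (hf i)
    have hgodd : Odd g.natDegree := by
      obtain ⟨a, ha⟩ := hodd
      rw [Nat.odd_iff]
      omega
    obtain ⟨q, hq, hqg, hqodd⟩ : ∃ q, Irreducible q ∧ q ∣ g ∧ Odd q.natDegree := by
      clear hg hdeg ih hDlt
      induction g using WfDvdMonoid.induction_on_irreducible with
      | zero => exact absurd rfl hg0
      | unit u hu => simp [natDegree_eq_zero_of_isUnit hu] at hgodd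
      | mul a b ha hb IH =>
        rw [natDegree_mul (right_ne_zero_of_mul (mul_comm b a ▸ hg0)) (right_ne_zero_of_mul hg0)] at hgodd
        by_cases hbo : Odd b.natDegree
        · exact ⟨b, hb, dvd_mul_right b a, hbo⟩
        · obtain ⟨q, h1, h2, h3⟩ := IH (right_ne_zero_of_mul hg0) (by rw [Nat.odd_add] at hgodd; rw [Nat.not_odd_iff_even] at hbo; exact (Nat.odd_add'.1 (by rwa [Nat.odd_add])).2 hbo)
          exact ⟨q, h1, h2.mul_left b, h3⟩
    have hqn : q.natDegree ≤ n := by
      have := natDegree_le_of_dvd hqg hg0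
      omega
    refine ih q hqn hq hqodd m (fun i => f i % q) (fun i => natDegree_mod_lt _ (by rintro h; rw [h] at hqodd; simp at hqodd)) ?_
    have h1 : q ∣ ∑ i, f i ^ 2 + 1 := hg ▸ hqg.mul_left p
    rw [← AdjoinRoot.mk_eq_zero] at h1 ⊢
    rw [← h1, map_add, map_add, map_sum, map_sum]
    simp only [map_pow]
    congr 2
    funext i
    congr 1
    rw [AdjoinRoot.mk_eq_mk]
    exact ⟨-(f i / q), by linear_combination EuclideanDomain.mod_add_div (f i) q⟩

/-- `F` is a formally real intermediate field. -/
def IsReal' {K Ω : Type u} [Field K] [Field Ω] [Algebra K Ω] (F : IntermediateField K Ω) : Prop :=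
  ∀ (n : ℕ) (x : Fin n → Ω), (∀ i, x i ∈ F) → ∑ i, x i ^ 2 ≠ -1

theorem exists_maximal_real (K Ω : Type u) [Field K] [Field Ω] [Algebra K Ω] (h : Real' K) :
    ∃ F : IntermediateField K Ω, IsReal' F ∧ ∀ G : IntermediateField K Ω, F ≤ G → IsReal' G → G = F := by
  have h0 : IsReal' (⊥ : IntermediateField K Ω) := fun n x hx e => by
    choose y hy using fun i => IntermediateField.mem_bot.1 (hx i)
    refine h ?_
    have : ∑ i, y i ^ 2 = -1 := (algebraMap K Ω).injective (by
      rw [map_sum, map_neg, map_one, ← e]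
      simp only [map_pow, hy])
    exact this ▸ isSumSq_of_family y
  obtain ⟨F, -, hF⟩ := zorn_le_nonempty₀ {F : IntermediateField K Ω | IsReal' F} (fun c hc hchain y hy => by
    haveI : Nonempty c := ⟨⟨y, hy⟩⟩
    have hdir : Directed (· ≤ ·) (fun G : c => (G : IntermediateField K Ω)) :=
      directedOn_iff_directed.1 hchain.directedOn
    refine ⟨⨆ G : c, (G : IntermediateField K Ω), ?_, fun z hz => le_iSup (fun G : c => (G : IntermediateField K Ω)) ⟨z, hz⟩⟩
    intro n x hx
    have hx' : ∀ i, ∃ G : c, x i ∈ (G : IntermediateField K Ω) := fun i => by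
      have := hx i
      rwa [← SetLike.mem_coe, IntermediateField.coe_iSup_of_directed hdir, Set.mem_iUnion] at this
    choose G hG using hx'
    obtain ⟨G₀, hG₀⟩ := hdir.finite_le G
    exact hc G₀.2 n x fun i => hG₀ i (hG i)) _ h0
  exact ⟨F, hF.prop, fun G hle hG => (hF.eq_of_ge hG hle)⟩

/-- Formally real fields with squares and odd degree roots. -/
structure Closed (R : Type u) [Field R] : Prop where
  real : Real' R
  sq : ∀ a : R, IsSquare a ∨ IsSquare (-a)
  odd : ∀ p : R[X], Irreducible p → Odd p.natDegree → p.natDegree = 1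

theorem closed_of_maximal {K Ω : Type u} [Field K] [Field Ω] [Algebra K Ω] [IsAlgClosed Ω] (F : IntermediateField K Ω)
    (hF : IsReal' F) (hmax : ∀ G : IntermediateField K Ω, F ≤ G → IsReal' G → G = F) : Closed F := by
  classical
  have hreal : Real' F := fun hs => by
    obtain ⟨n, x, hx⟩ := Semireal.exists_sum_sq hs
    refine hF n (fun i => (x i : Ω)) (fun i => (x i).2) ?_
    have := congrArg (algebraMap F Ω) hx
    rwa [map_sum, map_neg, map_one] at this
  obtain ⟨lo, ho⟩ := Semireal.exists_order hreal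
  letI := lo
  haveI := ho
  have hadj : ∀ s : Ω, IsIntegral F s → (∀ (n : ℕ) (y : Fin n → F[X]),
      (∀ i, (y i).natDegree < (minpoly F s).natDegree) → ∑ i, aeval s (y i) ^ 2 ≠ -1) → s ∈ F := by
    intro s hs hy
    let G := (IntermediateField.adjoin F ({s} : Set Ω)).restrictScalars K
    have hle : F ≤ G := fun z hz => (IntermediateField.adjoin F ({s} : Set Ω)).algebraMap_mem ⟨z, hz⟩
    have hG : IsReal' G := fun n x hx => by
      have hq : ∀ i, ∃ q : F[X], q.natDegree < (minpoly F s).natDegree ∧ aeval s q = x i := fun i => by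
        have h1 : x i ∈ (IntermediateField.adjoin F ({s} : Set Ω)).toSubalgebra := hx i
        rw [IntermediateField.adjoin_simple_toSubalgebra_of_isAlgebraic hs.isAlgebraic,
          Algebra.adjoin_singleton_eq_range_aeval] at h1
        obtain ⟨q, hq⟩ := h1
        refine ⟨q % minpoly F s, natDegree_mod_lt _ (minpoly.natDegree_pos hs).ne', ?_⟩
        rw [← hq]
        conv_rhs => rw [← EuclideanDomain.mod_add_div q (minpoly F s)]
        simp [minpoly.aeval]
      choose q hq1 hq2 using hq
      simp only [← hq2]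
      exact hy n q hq1
    exact hmax G hle hG ▸ IntermediateField.mem_adjoin_simple_self F s
  refine ⟨hreal, fun a => ?_, fun p hirr hodd => ?_⟩
  · have key : ∀ b : F, 0 ≤ b → IsSquare b := fun b hb => by
      obtain ⟨s, hs⟩ := IsAlgClosed.exists_pow_nat_eq (algebraMap F Ω b) two_pos
      have hint : IsIntegral F s := IsIntegral.of_pow two_pos (hs ▸ isIntegral_algebraMap)
      suffices hmem : s ∈ F from ⟨⟨s, hmem⟩, Subtype.ext (by rw [← sq]; exact hs.symm)⟩
      by_contra hmem
      refine hmem (hadj s hint fun n y hy he => ?_)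
      have hd : (minpoly F s).natDegree ≤ 2 := by
        have := natDegree_le_of_dvd (minpoly.dvd F s (show aeval s (X ^ 2 - C b) = 0 by simp [hs]))
          (monic_X_pow_sub_C b two_ne_zero).ne_zero
        rwa [natDegree_X_pow_sub_C] at this
      have hy' : ∀ i, aeval s (y i) = algebraMap F Ω ((y i).coeff 0) + algebraMap F Ω ((y i).coeff 1) * s := fun i => by
        conv_lhs => rw [Polynomial.eq_X_add_C_of_natDegree_le_one (show (y i).natDegree ≤ 1 by have := hy i; omega)]
        simp [add_comm]
      simp only [hy'] at he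
      let A : F := ∑ i, (y i).coeff 0 ^ 2 + b * ∑ i, (y i).coeff 1 ^ 2
      let B : F := 2 * ∑ i, (y i).coeff 0 * (y i).coeff 1
      have hAB : algebraMap F Ω A + algebraMap F Ω B * s = -1 := by
        rw [← he]
        simp only [A, B, map_add, map_mul, map_sum, map_pow, map_ofNat, ← hs, Finset.mul_sum, Finset.sum_mul,
          ← Finset.sum_add_distrib]
        exact Finset.sum_congr rfl fun i _ => by ring
      have hA : 0 ≤ A := add_nonneg (Finset.sum_nonneg fun i _ => sq_nonneg _)
        (mul_nonneg hb (Finset.sum_nonneg fun i _ => sq_nonneg _))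
      by_cases hB : B = 0
      · rw [hB, map_zero, zero_mul, add_zero, ← map_one (algebraMap F Ω), ← map_neg] at hAB
        have := (algebraMap F Ω).injective hAB
        linarith
      · refine hmem ?_
        have : s = algebraMap F Ω ((-1 - A) / B) := by
          rw [map_div₀, eq_div_iff ((_root_.map_ne_zero _).2 hB), map_sub, map_neg, map_one]
          linear_combination hAB
        rw [this]
        exact ((-1 - A) / B).2
    rcases le_total 0 a with h | h
    · exact Or.inl (key a h)
    · exact Or.inr (key (-a) (neg_nonneg.2 h))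
  · obtain ⟨s, hs⟩ := IsAlgClosed.exists_aeval_eq_zero Ω p (degree_pos_of_irreducible hirr).ne'
    have hint : IsIntegral F s := (IsAlgebraic.isIntegral ⟨p, hirr.ne_zero, hs⟩)
    have hmin : (minpoly F s).natDegree = p.natDegree := by
      rw [← natDegree_eq_of_degree_eq (degree_eq_degree_of_associated (associated_of_dvd_dvd
        ((minpoly.irreducible hint).dvd_symm hirr (minpoly.dvd F s hs)) (minpoly.dvd F s hs)))]
    have hmem : s ∈ F := hadj s hint fun n y hy he => by
      refine real'_adjoinRoot _ (minpoly F s) le_rfl (minpoly.irreducible hint) (hmin ▸ hodd) n y hy ?_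
      refine minpoly.dvd F s ?_
      rw [map_add, map_sum, map_one]
      simp only [map_pow]
      rw [he]
      exact neg_add_cancel 1
    rw [← hmin]
    exact minpoly.natDegree_eq_one_iff.2 ⟨⟨s, hmem⟩, rfl⟩

/-- Adjoining a square root of minus one gives the algebraic closure. -/
theorem finrank_two {R : Type u} [Field R] (hR : Closed R) (Ω : Type u) [Field Ω] [Algebra R Ω]
    [IsAlgClosure R Ω] (i : Ω) (hi : i ^ 2 = -1) : IntermediateField.adjoin R ({i} : Set Ω) = ⊤ := by
  classical
  obtain ⟨lo, ho⟩ := Semireal.exists_order hR.real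
  letI := lo
  haveI := ho
  haveI : CharZero R := IsStrictOrderedRing.toCharZero
  haveI : IsAlgClosed Ω := IsAlgClosure.isAlgClosed R
  haveI : Algebra.IsAlgebraic R Ω := IsAlgClosure.isAlgebraic
  have hsq : ∀ a : R, 0 ≤ a → ∃ r, 0 ≤ r ∧ r ^ 2 = a := fun a ha => by
    rcases hR.sq a with ⟨r, hr⟩ | ⟨r, hr⟩
    · exact ⟨|r|, abs_nonneg r, by rw [sq_abs, sq, hr]⟩
    · have : a = 0 := le_antisymm (by nlinarith [mul_self_nonneg r]) ha
      exact ⟨0, le_rfl, by rw [this]; ring⟩
  let T := IntermediateField.adjoin R ({i} : Set Ω)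
  have hiT : i ∈ T := IntermediateField.mem_adjoin_simple_self R i
  have hint : IsIntegral R i := Algebra.IsIntegral.isIntegral i
  have hform : ∀ z ∈ T, ∃ a b : R, z = algebraMap R Ω a + algebraMap R Ω b * i := fun z hz => by
    have hz' : z ∈ T.toSubalgebra := hz
    rw [IntermediateField.adjoin_simple_toSubalgebra_of_isAlgebraic hint.isAlgebraic,
      Algebra.adjoin_singleton_eq_range_aeval] at hz'
    obtain ⟨q, rfl⟩ := hz'
    have hmon : (X ^ 2 + 1 : R[X]).Monic := monic_X_pow_add_C (1 : R) two_ne_zero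
    refine ⟨(q %ₘ (X ^ 2 + 1)).coeff 0, (q %ₘ (X ^ 2 + 1)).coeff 1, ?_⟩
    have h0 : aeval i (X ^ 2 + 1 : R[X]) = 0 := by simp [hi]
    show aeval i q = _
    conv_lhs => rw [← modByMonic_add_div q (X ^ 2 + 1), map_add, map_mul, h0, zero_mul, add_zero]
    have hd : (q %ₘ (X ^ 2 + 1)).natDegree ≤ 1 := by
      have hne : (X ^ 2 + 1 : R[X]) ≠ 1 := fun h => by
        have := congrArg natDegree h
        rw [show (X ^ 2 + 1 : R[X]) = X ^ 2 + C 1 by rw [C_1], natDegree_X_pow_add_C, natDegree_one] at this
        exact two_ne_zero this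
      have := natDegree_modByMonic_lt q hmon hne
      rw [show (X ^ 2 + 1 : R[X]) = X ^ 2 + C 1 by rw [C_1], natDegree_X_pow_add_C] at this
      rw [show (X ^ 2 + 1 : R[X]) = X ^ 2 + C 1 by rw [C_1]]
      omega
    conv_lhs => rw [Polynomial.eq_X_add_C_of_natDegree_le_one hd]
    simp [add_comm]
  have hTsq : ∀ z ∈ T, ∃ w ∈ T, w ^ 2 = z := fun z hz => by
    obtain ⟨a, b, rfl⟩ := hform z hz
    obtain ⟨r, hr0, hr⟩ := hsq (a ^ 2 + b ^ 2) (by positivity)
    have hra : |a| ≤ r := by
      by_contra h
      push Not at h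
      nlinarith [sq_abs a, sq_nonneg b]
    obtain ⟨c, hc0, hc⟩ := hsq ((r + a) / 2) (by have := abs_le.1 hra; linarith)
    obtain ⟨e, he0, he⟩ := hsq ((r - a) / 2) (by have := abs_le.1 hra; linarith)
    have hce : (2 * c * e) ^ 2 = b ^ 2 := by
      rw [mul_pow, mul_pow, hc, he]
      linear_combination hr
    obtain ⟨e', he', hb⟩ : ∃ e' : R, e' ^ 2 = e ^ 2 ∧ 2 * c * e' = b := by
      rcases sq_eq_sq_iff_eq_or_eq_neg.1 hce with h | h
      · exact ⟨e, rfl, h⟩
      · exact ⟨-e, by ring, by linear_combination -h⟩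
    refine ⟨algebraMap R Ω c + algebraMap R Ω e' * i,
      add_mem (T.algebraMap_mem c) (mul_mem (T.algebraMap_mem e') hiT), ?_⟩
    have ha : a = c ^ 2 - e' ^ 2 := by rw [hc, he', he]; ring
    rw [ha, ← hb, map_sub, map_mul, map_mul, map_ofNat, map_pow, map_pow]
    linear_combination (algebraMap R Ω e') ^ 2 * hi
  refine eq_top_iff.2 fun x _ => ?_
  let N := IntermediateField.normalClosure R (IntermediateField.adjoin R ({i, x} : Set Ω)) Ω
  haveI : FiniteDimensional R (IntermediateField.adjoin R ({i, x} : Set Ω)) :=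
    IntermediateField.finiteDimensional_adjoin fun z _ => Algebra.IsIntegral.isIntegral z
  have hN : IntermediateField.adjoin R ({i, x} : Set Ω) ≤ N := IntermediateField.le_normalClosure _
  haveI : IsGalois R N := ⟨⟩
  obtain ⟨G2⟩ : Nonempty (Sylow 2 Gal(N/R)) := inferInstance
  haveI := Fact.mk Nat.prime_two
  have hodd : IntermediateField.fixedField (G2 : Subgroup Gal(N/R)) = ⊥ := by
    let L := IntermediateField.fixedField (G2 : Subgroup Gal(N/R))
    have hLodd : Odd (Module.finrank R L) := by
      have h1 := Module.finrank_mul_finrank R L N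
      rw [IntermediateField.finrank_fixedField_eq_card, ← IsGalois.card_aut_eq_finrank R N,
        ← Subgroup.index_mul_card (G2 : Subgroup Gal(N/R))] at h1
      rw [Nat.eq_of_mul_eq_mul_right Nat.card_pos h1, ← Nat.not_even_iff_odd, even_iff_two_dvd]
      exact G2.not_dvd_index
    refine eq_bot_iff.2 fun z hz => ?_
    have hzint : IsIntegral R z := Algebra.IsIntegral.isIntegral z
    have hdvd : (minpoly R z).natDegree ∣ Module.finrank R L := by
      rw [← IntermediateField.adjoin.finrank hzint]
      exact IntermediateField.finrank_dvd_of_le_right (IntermediateField.adjoin_simple_le_iff.2 hz)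
    have h1 := hR.odd _ (minpoly.irreducible hzint) (hLodd.of_dvd_nat hdvd)
    obtain ⟨r, hr⟩ := minpoly.natDegree_eq_one_iff.1 h1
    exact IntermediateField.mem_bot.2 ⟨r, hr⟩
  have hp : IsPGroup 2 Gal(N/R) := by
    have htop : (G2 : Subgroup Gal(N/R)) = ⊤ := by
      rw [← IntermediateField.fixingSubgroup_fixedField (G2 : Subgroup Gal(N/R)), hodd, IntermediateField.fixingSubgroup_bot]
    have := G2.isPGroup'
    rw [htop] at this
    exact this.of_equiv Subgroup.topEquiv
  let i' : N := ⟨i, hN (IntermediateField.subset_adjoin R _ (Set.mem_insert _ _))⟩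
  let T' := IntermediateField.adjoin R ({i'} : Set N)
  have hmap : T'.map N.val = T := by
    rw [IntermediateField.adjoin_map, Set.image_singleton]
    rfl
  suffices hT' : T' = ⊤ by
    have hx : (⟨x, hN (IntermediateField.subset_adjoin R _ (Set.mem_insert_of_mem _ rfl))⟩ : N) ∈ T' :=
      hT' ▸ IntermediateField.mem_top
    show x ∈ T
    rw [← hmap]
    exact ⟨_, hx, rfl⟩
  by_contra hne
  let H := T'.fixingSubgroup
  have hfix : IntermediateField.fixedField H = T' := IsGalois.fixedField_fixingSubgroup T'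
  obtain ⟨j, hj⟩ := IsPGroup.iff_card.1 (hp.to_subgroup H)
  have hj0 : j ≠ 0 := fun h0 => hne (by
    rw [h0, pow_zero, Subgroup.card_eq_one] at hj
    rw [← hfix, hj, IntermediateField.fixedField_bot])
  obtain ⟨M', hM'⟩ := Sylow.exists_subgroup_card_pow_prime (G := H) 2 (n := j - 1)
    (hj.symm ▸ pow_dvd_pow 2 (Nat.sub_le j 1))
  let M := M'.map H.subtype
  have hM : Nat.card M = 2 ^ (j - 1) := by
    rw [Subgroup.card_map_of_injective H.subtype_injective, hM']
  let S := IntermediateField.fixedField M
  have hTS : T' ≤ S := hfix ▸ IntermediateField.fixedField_antitone (Subgroup.map_subtype_le M')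
  obtain ⟨y, hyS, hyT⟩ : ∃ y ∈ S, y ∉ T' := by
    refine SetLike.exists_of_lt (lt_of_le_of_ne hTS fun h => ?_)
    have : H = M := by
      show T'.fixingSubgroup = M
      rw [h, IntermediateField.fixingSubgroup_fixedField]
    rw [← this, hj] at hM
    have := Nat.pow_right_injective le_rfl hM
    omega
  haveI : CharZero N := charZero_of_injective_algebraMap (algebraMap R N).injective
  letI : Algebra T' S := (IntermediateField.inclusion hTS).toRingHom.toAlgebra
  haveI : IsScalarTower R T' S := IsScalarTower.of_algebraMap_eq' rfl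
  haveI : Module.Finite T' S := Module.Finite.of_restrictScalars_finite R _ _
  have hdeg : Module.finrank T' S = 2 := by
    have e1 := IntermediateField.finrank_fixedField_eq_card H
    have e2 := IntermediateField.finrank_fixedField_eq_card M
    rw [hfix, hj] at e1
    rw [hM] at e2
    have h1 := Module.finrank_mul_finrank R T' N
    have h2 := Module.finrank_mul_finrank R S N
    have h3 := Module.finrank_mul_finrank R T' S
    rw [e1, ← h2, e2, ← h3, show j = j - 1 + 1 by omega, Nat.add_sub_cancel, pow_succ] at h1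
    have hpos : 0 < Module.finrank R T' * 2 ^ (j - 1) := Nat.mul_pos Module.finrank_pos (by positivity)
    exact Nat.eq_of_mul_eq_mul_left hpos (by linarith)
  let y' : S := ⟨y, hyS⟩
  have hy : IsIntegral T' y' := Algebra.IsIntegral.isIntegral y'
  have hyd : (minpoly T' y').natDegree ≤ 2 := hdeg ▸ minpoly.natDegree_le y'
  have hy1 : (minpoly T' y').natDegree ≠ 1 := fun h1 => hyT (by
    obtain ⟨w, hw⟩ := minpoly.natDegree_eq_one_iff.1 h1
    have hwy : ((w : T') : N) = y := congrArg Subtype.val hw
    rw [← hwy]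
    exact w.2)
  have hy2 : (minpoly T' y').natDegree = 2 := by
    have := minpoly.natDegree_pos hy
    omega
  let c₁ : N := ((minpoly T' y').coeff 1 : N)
  let c₀ : N := ((minpoly T' y').coeff 0 : N)
  have heq : y ^ 2 + c₁ * y + c₀ = 0 := by
    have h := minpoly.aeval T' y'
    rw [Polynomial.aeval_eq_sum_range, hy2, Finset.sum_range_succ, Finset.sum_range_succ, Finset.sum_range_one,
      show (minpoly T' y').coeff 2 = 1 from hy2 ▸ (minpoly.monic hy).coeff_natDegree] at h
    have hh := congrArg (fun z : S => (z : N)) h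
    simp only [Algebra.smul_def, map_one, pow_zero, pow_one, one_mul, mul_one] at hh
    have hh' : ((minpoly T' y').coeff 0 : N) + ((minpoly T' y').coeff 1 : N) * y + y ^ 2 = 0 := hh
    linear_combination hh'
  have hmemT : (((y + c₁ / 2) ^ 2 : N) : Ω) ∈ T := by
    rw [← hmap]
    refine ⟨(y + c₁ / 2) ^ 2, ?_, rfl⟩
    show _ ∈ T'
    rw [show (y + c₁ / 2) ^ 2 = (c₁ / 2) ^ 2 - c₀ by linear_combination heq]
    exact sub_mem (pow_mem (div_mem ((minpoly T' y').coeff 1).2 (by exact_mod_cast IntermediateField.natCast_mem T' 2)) 2)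
      ((minpoly T' y').coeff 0).2
  obtain ⟨w, hwT, hw⟩ := hTsq _ hmemT
  rw [← hmap] at hwT
  obtain ⟨w', hw', rfl⟩ := hwT
  have hwy : w' ^ 2 = (y + c₁ / 2) ^ 2 := Subtype.ext hw
  have : y + c₁ / 2 ∈ T' := by
    rcases sq_eq_sq_iff_eq_or_eq_neg.1 hwy with h | h
    · exact h ▸ hw'
    · rw [show y + c₁ / 2 = -w' by rw [h, neg_neg]]
      exact neg_mem hw'
  refine hyT ?_
  rw [show y = y + c₁ / 2 - c₁ / 2 by ring]
  exact sub_mem this (div_mem ((minpoly T' y').coeff 1).2 (by exact_mod_cast IntermediateField.natCast_mem T' 2))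

/-- Vanishing of positive degree cohomology makes every nonzero element an `ℓ`-th power. -/
theorem exists_pow_eq_of_cd_zero (K : Type u) [Field K] {ℓ : ℕ} (hℓK : (ℓ : K) ≠ 0)
    (h : Serre.Cd K ℓ 0) (a : Kˣ) : ∃ v : K, v ^ ℓ = a := by
  let S := Spec (CommRingCat.of K)
  let e := (Scheme.ΓSpecIso (CommRingCat.of K))
  have hn : IsUnit (ℓ : Γ(S, ⊤)) := by
    have := (isUnit_iff_ne_zero.2 hℓK).map e.inv.hom
    rwa [map_natCast] at this
  let l : EtCoh.Gm S ⟶ EtCoh.Gm S := ℓ • 𝟙 (EtCoh.Gm S)
  haveI : Epi l := HenselLib.Kummer.epi_powMap ℓ hn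
  let T := ShortComplex.mk (kernel.ι l) l (kernel.condition l)
  have hT : T.ShortExact :=
    { exact := ShortComplex.exact_kernel l
      mono_f := inferInstanceAs (Mono (kernel.ι l))
      epi_g := inferInstanceAs (Epi l) }
  have h1 : Subsingleton (EtCoh.H S (kernel l) 1) := h _ (GalEt.killed_kernel _ ℓ) 1 one_pos
  let t : EtCoh.sect (EtCoh.Gm S) (EtCoh.top S) := HenselLib.Kummer.sec (Units.map e.inv.hom.toMonoidHom a)
  obtain ⟨g, hg⟩ := EtLimit.exists_secOf t
  obtain ⟨z, hz⟩ := Ext.covariant_sequence_exact₃ (EtCoh.const S ℤ) hT (Ext.mk₀ g) (zero_add 1)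
    (@Subsingleton.elim _ h1 _ _)
  obtain ⟨k, rfl⟩ := (Ext.mk₀_bijective (EtCoh.const S ℤ) _).2 z
  have hk : k ≫ l = g := (Ext.mk₀_bijective _ _).1 ((Ext.mk₀_comp_mk₀ k l).symm.trans hz)
  rw [← hk, show k ≫ l = ℓ • k by rw [Preadditive.comp_nsmul, Category.comp_id], TorsionColim.secOf_nsmul] at hg
  obtain ⟨v, hv⟩ := HenselLib.Kummer.sec_surjective (EtLimit.secOf k)
  rw [← hv, ← HenselLib.Kummer.sec_pow] at hg
  have hva := congrArg Units.val (HenselLib.Kummer.sec_injective hg)
  refine ⟨e.hom.hom (Units.val v : _), ?_⟩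
  rw [← map_pow]
  erw [← Units.val_pow_eq_pow_val, hva]
  exact (RingHom.congr_fun (congrArg CommRingCat.Hom.hom e.inv_hom_id) (a : K))

/-- Orderable fields have infinite 2-cohomological dimension. -/
theorem not_cd_two (K : Type u) [Field K] (hord : ∃ _ : LinearOrder K, IsStrictOrderedRing K) (d : ℕ) :
    ¬ Serre.Cd K 2 d := by
  intro hK
  let Ω := AlgebraicClosure K
  obtain ⟨F, hF, hmax⟩ := exists_maximal_real K Ω (real'_of_order hord)
  have hC := closed_of_maximal F hF hmax
  have h2 : (2 : F) ≠ 0 := fun h => by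
    obtain ⟨lo, ho⟩ := Semireal.exists_order hC.real
    letI := lo
    haveI := ho
    linarith
  haveI : IsAlgClosure F Ω := ⟨inferInstance, Algebra.IsAlgebraic.tower_top (K := K) F⟩
  have hFd : Serre.Cd F 2 d := by
    haveI : IsIntegralHom (H8Lim.algSpec K F) :=
      (IsIntegralHom.SpecMap_iff).2 (algebraMap_isIntegral_iff.2 inferInstance)
    exact hK.of_finite (H8Lim.algSpec K F)
  obtain ⟨i, hi⟩ := IsAlgClosed.exists_pow_nat_eq (-1 : Ω) two_pos
  have htop := finrank_two hC Ω i hi
  haveI : FiniteDimensional F Ω := by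
    haveI := IntermediateField.adjoin.finiteDimensional (K := F) (Algebra.IsIntegral.isIntegral i)
    exact Module.Finite.equiv ((IntermediateField.equivOfEq htop).trans IntermediateField.topEquiv).toLinearEquiv
  haveI : Algebra.IsSeparable F Ω := by
    haveI : CharZero F := by
      obtain ⟨lo, ho⟩ := Semireal.exists_order hC.real
      letI := lo
      haveI := ho
      exact IsStrictOrderedRing.toCharZero
    infer_instance
  have h0 : ∀ m, Serre.Cd F 2 m → Serre.Cd F 2 0 := fun m => by
    induction m with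
    | zero => exact id
    | succ m ih => exact fun h => ih (Serre.cd_of_cd_succ F Ω (Nat.zero_le m) (FieldBase.cdKilled_sepClosed Ω 2) h)
  obtain ⟨v, hv⟩ := exists_pow_eq_of_cd_zero F (ℓ := 2) (by exact_mod_cast h2) (h0 d hFd) (-1)
  refine hC.real ?_
  have : v * v = (-1 : F) := by rw [← sq]; simpa using hv
  exact this ▸ IsSumSq.mul_self v

end Groth.Agent.CdDev9.RealCd
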