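import Groth.Agent.CdDev9.Loc2
import Groth.Agent.CdDev9.Fibre
import Groth.Agent.CdDev9.Push
import Groth.Agent.GalEt.DivIntegral
import Groth.Agent.GalEt.SkyPoint
import Groth.Agent.SpecSeq.RightDerivedPlus
import Groth.Agent.S3073
import Groth.Agent.S0236
import Groth.Agent.Et18.KummerH1.Punctured
import Groth.Agent.Et18.CompCrit.Criterion

/-!
The residue step for the cohomological dimension of henselian discrete valuation rings:
if sheaves killed by an invertible prime `ℓ` have no cohomology above degree `d` on the fraction field,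
then `H^d` of the residue field with coefficients in `ℤ/ℓ` vanishes, and `d ≥ 1`.
-/

set_option autoImplicit false
set_option linter.all false
set_option backward.isDefEq.respectTransparency.types false
set_option backward.isDefEq.respectTransparency false
set_option synthInstance.maxHeartbeats 400000
set_option maxHeartbeats 1000000

universe u

open CategoryTheory CategoryTheory.Limits AlgebraicGeometry Opposite IsLocalRing
open Groth.Agent.Et18

noncomputable section

namespace Groth.Agent.CdDev9.Residue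

open Groth.Agent.GalEt Groth.Agent.Et18.CdField

section Abstract

variable {A B : Type*} [Category A] [Abelian A] [Category B] [Abelian B]

/-- A pushout along a monomorphism is a pullback. -/
theorem isPullback_pushout {G I G' : A} (ι : G ⟶ I) [Mono ι] (l : G ⟶ G') :
    IsPullback l ι (pushout.inr ι l) (pushout.inl ι l) := by
  have h := (IsPushout.of_hasPushout ι l)
  haveI : Mono h.shortComplex.f := by
    haveI : Mono (biprod.lift ι (-l) ≫ biprod.fst) := by rw [biprod.lift_fst]; infer_instance
    exact mono_of_mono (biprod.lift ι (-l)) biprod.fst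
  have hex := h.exact_shortComplex
  refine (IsPullback.of_isLimit' h.toCommSq (PullbackCone.IsLimit.mk _
    (fun s => hex.lift (biprod.lift s.fst (-s.snd)) ?_) (fun s => ?_) (fun s => ?_)
    fun s v hv hv' => ?_)).flip
  · show biprod.lift s.fst (-s.snd) ≫ biprod.desc (pushout.inl ι l) (pushout.inr ι l) = 0
    rw [biprod.lift_desc, Preadditive.neg_comp, s.condition, add_neg_cancel]
  · have e := hex.lift_f (biprod.lift s.fst (-s.snd)) (by
      show biprod.lift s.fst (-s.snd) ≫ biprod.desc (pushout.inl ι l) (pushout.inr ι l) = 0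
      rw [biprod.lift_desc, Preadditive.neg_comp, s.condition, add_neg_cancel])
    have e' := e =≫ biprod.fst
    simpa using e'
  · have e := hex.lift_f (biprod.lift s.fst (-s.snd)) (by
      show biprod.lift s.fst (-s.snd) ≫ biprod.desc (pushout.inl ι l) (pushout.inr ι l) = 0
      rw [biprod.lift_desc, Preadditive.neg_comp, s.condition, add_neg_cancel])
    have e' := e =≫ biprod.snd
    simpa using e'
  · rw [← cancel_mono ι]
    rw [hv]
    have e := hex.lift_f (biprod.lift s.fst (-s.snd)) (by
      show biprod.lift s.fst (-s.snd) ≫ biprod.desc (pushout.inl ι l) (pushout.inr ι l) = 0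
      rw [biprod.lift_desc, Preadditive.neg_comp, s.condition, add_neg_cancel])
    have e' := e =≫ biprod.fst
    simp at e'
    exact e'.symm

theorem sq_w (T : A ⥤ B) {G I : A} (ι : G ⟶ I) (l : G ⟶ G) :
    T.map l ≫ T.map (pushout.inr ι l) = T.map ι ≫ T.map (pushout.inl ι l) := by
  rw [← T.map_comp, ← T.map_comp, pushout.condition]

/-- Left exact functors and cokernels of a pushout along an injective embedding. -/
theorem isIso_cokernelMap [EnoughInjectives A] (T : A ⥤ B) [T.Additive] [PreservesFiniteLimits T]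
    {G I : A} (ι : G ⟶ I) [Mono ι] (l : G ⟶ G) (hG : IsZero ((T.rightDerived 1).obj G)) :
    IsIso (cokernel.map (T.map l) (T.map (pushout.inl ι l)) (T.map ι) (T.map (pushout.inr ι l)) (sq_w T ι l)) := by
  let ψ := cokernel.map (T.map l) (T.map (pushout.inl ι l)) (T.map ι) (T.map (pushout.inr ι l)) (sq_w T ι l)
  haveI : Mono ψ := Abelian.mono_cokernel_map_of_isPullback ((isPullback_pushout ι l).map T)
  haveI : Epi ψ := by
    have h := IsPushout.of_hasPushout ι l
    haveI : Mono h.shortComplex.f := by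
      haveI : Mono (biprod.lift ι (-l) ≫ biprod.fst) := by rw [biprod.lift_fst]; infer_instance
      exact mono_of_mono (biprod.lift ι (-l)) biprod.fst
    haveI := h.epi_shortComplex_g
    have hS : h.shortComplex.ShortExact := { exact := h.exact_shortComplex }
    haveI : Epi (T.map (biprod.desc (pushout.inl ι l) (pushout.inr ι l))) :=
      SpecSeq.epi_map_of_isZero_rightDerived_one hS hG
    refine Preadditive.epi_of_cancel_zero _ fun {Z} k hk => ?_
    have hk' : T.map (pushout.inr ι l) ≫ cokernel.π (T.map (pushout.inl ι l)) ≫ k = 0 := by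
      have : cokernel.π (T.map l) ≫ ψ ≫ k = 0 := by rw [hk, comp_zero]
      rw [← Category.assoc, cokernel.π_desc, Category.assoc] at this
      exact this
    rw [← cancel_epi (cokernel.π (T.map (pushout.inl ι l))), comp_zero,
      ← cancel_epi (T.map (biprod.desc (pushout.inl ι l) (pushout.inr ι l))), comp_zero,
      biprod.desc_eq, T.map_add, T.map_comp, T.map_comp, Preadditive.add_comp, Category.assoc, Category.assoc,
      cokernel.condition_assoc, zero_comp, comp_zero, zero_add, hk', comp_zero]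
  exact isIso_of_mono_of_epi ψ

end Abstract

section Tools

/-- The constant sheaf `ℤ/N` is the quotient of `ℤ`. -/
theorem nonempty_ZN_iso (Y : Scheme.{u}) (N : ℕ) :
    Nonempty (cokernel (N • 𝟙 (EtCoh.const Y ℤ)) ≅ EtCoh.const Y (ZMod N)) := by
  let Z := AddCommGrpCat.of (ULift.{u + 1} ℤ)
  let Q := AddCommGrpCat.of (ULift.{u + 1} (ZMod N))
  let q : Z ⟶ Q := AddCommGrpCat.ofHom
    { toFun := fun z => ULift.up (z.down : ZMod N)
      map_zero' := by ext; simp
      map_add' := fun a b => by ext; simp }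
  have hq : (N • 𝟙 Z) ≫ q = 0 := by
    rw [Preadditive.nsmul_comp, Category.id_comp]
    refine AddCommGrpCat.hom_ext (AddMonoidHom.ext fun z => ?_)
    apply ULift.down_injective
    show N • ((ULift.down z : ℤ) : ZMod N) = 0
    simp
  haveI : Epi q := (AddCommGrpCat.epi_iff_surjective q).2 fun a => by
    obtain ⟨z, hz⟩ := ZMod.intCast_surjective a.down
    exact ⟨ULift.up z, ULift.down_injective hz⟩
  have hex : (ShortComplex.mk _ _ hq).Exact := by
    refine (ShortComplex.ab_exact_iff _).2 fun z hz => ?_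
    have h1 : ((z : Z).down : ZMod N) = 0 := congrArg ULift.down hz
    obtain ⟨m, hm⟩ := (ZMod.intCast_zmod_eq_zero_iff_dvd _ _).1 h1
    refine ⟨ULift.up m, ?_⟩
    apply ULift.down_injective
    rw [hm]
    show ULift.down (N • (ULift.up m : ULift.{u + 1} ℤ)) = _
    simp
  haveI : (cst Y).Additive := inferInstance
  haveI : PreservesColimitsOfSize.{0, 0} (cst Y) := (constantSheafAdj Y.smallEtaleTopology AddCommGrpCat.{u + 1}
    (EtCore.topIsTerminal Y)).leftAdjoint_preservesColimits
  have hc := (CokernelCofork.mapIsColimit _ hex.gIsCokernel (cst Y))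
  refine ⟨cokernelIsoOfEq ?_ ≪≫ IsColimit.coconePointUniqueUpToIso (colimit.isColimit _) hc⟩
  rw [Functor.map_nsmul, CategoryTheory.Functor.map_id]

theorem not_isZero_ZN (Y : Scheme.{u}) [Nonempty Y] {N : ℕ} (hN : 1 < N) :
    ¬ IsZero (cokernel (N • 𝟙 (EtCoh.const Y ℤ))) := fun h => by
  obtain ⟨e⟩ := nonempty_ZN_iso Y N
  let y : Y := Classical.arbitrary _
  let Q := AddCommGrpCat.of (ULift.{u + 1} (ZMod N))
  have h1 : IsZero ((EtCoh.stalk (sepPoint Y y)).obj ((cst Y).obj Q)) :=
    (EtCoh.stalk (sepPoint Y y)).map_isZero (h.of_iso e.symm)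
  have h2 : IsZero Q := h1.of_iso (asIso (cstGerm (sepPoint Y y) Q))
  haveI : Fact (1 < N) := ⟨hN⟩
  haveI := AddCommGrpCat.subsingleton_of_isZero h2
  exact one_ne_zero (α := ZMod N) (congrArg ULift.down (Subsingleton.elim (ULift.up 1 : ULift.{u + 1} (ZMod N)) (ULift.up 0)))

/-- Cohomology of sheaves vanishing at the closed point of a henselian local scheme. -/
theorem subsingleton_H_off (R : Type u) [CommRing R] [HenselianLocalRing R] {U : Scheme.{u}}
    (i : U ⟶ Spec (CommRingCat.of R)) (hi : IsLocalRing.closedPoint R ∈ Set.range i)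
    {F : EtCoh.Ab (Spec (CommRingCat.of R))} (hF : IsZero ((EtCoh.pull i).obj F)) (q : ℕ) :
    Subsingleton (EtCoh.H (Spec (CommRingCat.of R)) F q) := by
  let ι₀ := Spec.map (CommRingCat.ofHom (IsLocalRing.residue R))
  have h0 : IsZero ((EtCoh.pull ι₀).obj F) := by
    refine ClosedPointSupport.isZero_pull_of_disjoint ι₀ (Set.disjoint_left.2 fun x hx hx' => ?_)
    obtain ⟨z, rfl⟩ := hx'
    have : ι₀ z = IsLocalRing.closedPoint R := by
      obtain rfl : z = IsLocalRing.closedPoint (IsLocalRing.ResidueField R) :=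
        Subsingleton.elim (α := PrimeSpectrum (IsLocalRing.ResidueField R)) _ _
      exact IsLocalRing.comap_closedPoint (IsLocalRing.residue R)
    exact ClosedPointSupport.supp_subset_of_isZero_pull i hF hx (this.symm ▸ hi)
  have hs := Sheaf.subsingleton_H_of_isZero h0 q
  exact (Descent0.bijective_Hpull F q).1.subsingleton

/-- Surjectivity in cohomology of morphisms invertible at the closed point. -/
theorem surjective_H_of_isIso_pull (R : Type u) [CommRing R] [HenselianLocalRing R] {U : Scheme.{u}}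
    (i : U ⟶ Spec (CommRingCat.of R)) (hi : IsLocalRing.closedPoint R ∈ Set.range i)
    {F F' : EtCoh.Ab (Spec (CommRingCat.of R))} (f : F ⟶ F') [IsIso ((EtCoh.pull i).map f)] (q : ℕ)
    (z : EtCoh.H (Spec (CommRingCat.of R)) F' q) :
    ∃ y : EtCoh.H (Spec (CommRingCat.of R)) F q, y.comp (Abelian.Ext.mk₀ f) (add_zero q) = z := by
  haveI : (EtCoh.pull i).Additive := inferInstance
  haveI : PreservesFiniteLimits (EtCoh.pull i) := inferInstance
  haveI : PreservesColimitsOfSize.{0, 0} (EtCoh.pull i) := (EtCoh.pullPushAdj i).leftAdjoint_preservesColimits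
  have hk : IsZero ((EtCoh.pull i).obj (kernel f)) :=
    (isZero_kernel_of_mono ((EtCoh.pull i).map f)).of_iso (PreservesKernel.iso (EtCoh.pull i) f)
  have hc : IsZero ((EtCoh.pull i).obj (cokernel f)) :=
    (isZero_cokernel_of_epi ((EtCoh.pull i).map f)).of_iso (PreservesCokernel.iso (EtCoh.pull i) f)
  let p := Abelian.factorThruImage f
  let m := Abelian.image.ι f
  have hm : (ShortComplex.mk m (cokernel.π f) (kernel.condition _)).ShortExact :=
    { exact := ShortComplex.exact_kernel _
      mono_f := inferInstanceAs (Mono (Abelian.image.ι f))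
      epi_g := inferInstanceAs (Epi (cokernel.π f)) }
  have hkp : kernel.ι f ≫ p = 0 := by
    rw [← cancel_mono m, Category.assoc, Abelian.image.fac, kernel.condition, zero_comp]
  have hp : (ShortComplex.mk (kernel.ι f) p hkp).ShortExact :=
    { exact := by
        refine ShortComplex.exact_of_f_is_kernel _ (KernelFork.IsLimit.ofι' (kernel.ι f) hkp fun {W} t ht =>
          ⟨kernel.lift f t ?_, kernel.lift_ι _ _ _⟩)
        have ht' : t ≫ p = 0 := ht
        rw [← Abelian.image.fac f, ← Category.assoc, ht', zero_comp]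
      mono_f := inferInstanceAs (Mono (kernel.ι f))
      epi_g := inferInstanceAs (Epi (Abelian.factorThruImage f)) }
  obtain ⟨w, hw⟩ := Abelian.Ext.covariant_sequence_exact₂ _ hm z
    (@Subsingleton.elim _ (subsingleton_H_off R i hi hc q) _ _)
  obtain ⟨y, hy⟩ := Abelian.Ext.covariant_sequence_exact₃ _ hp w rfl
    (@Subsingleton.elim _ (subsingleton_H_off R i hi hk (q + 1)) _ _)
  refine ⟨y, ?_⟩
  rw [← hw, ← hy, Abelian.Ext.comp_assoc_of_third_deg_zero, Abelian.Ext.mk₀_comp_mk₀]
  exact congrArg (fun k => y.comp (Abelian.Ext.mk₀ k) (add_zero q)) (Abelian.image.fac f).symm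

end Tools

variable (R : Type u) [CommRing R] [IsDomain R] [IsDiscreteValuationRing R]

abbrev X : Scheme.{u} := Spec (CommRingCat.of R)

theorem ringKrullDim_stalk (y : X R) :
    ringKrullDim ((X R).presheaf.stalk y) = (PrimeSpectrum.asIdeal y).height := by
  rw [ringKrullDim_eq_of_ringEquiv
    ((Spec.stalkIso (R := CommRingCat.of R) (x := y)).commRingCatIsoToRingEquiv),
    IsLocalization.AtPrime.ringKrullDim_eq_height (PrimeSpectrum.asIdeal y)
      (Localization.AtPrime (PrimeSpectrum.asIdeal y))]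

theorem eq_bot_or_closed (y : X R) : PrimeSpectrum.asIdeal y = ⊥ ∨ y = IsLocalRing.closedPoint R := by
  by_cases h : PrimeSpectrum.asIdeal y = ⊥
  · exact Or.inl h
  · exact Or.inr (PrimeSpectrum.ext (IsLocalRing.eq_maximalIdeal ((y.2).isMaximal h)))

theorem height_eq_one (x : Div.Ht1 (X R)) : x.1 = IsLocalRing.closedPoint R := by
  rcases eq_bot_or_closed R x.1 with h | h
  · exfalso
    have h1 := x.2
    rw [ringKrullDim_stalk, h, Ideal.height_bot] at h1
    exact absurd h1 (by simp)
  · exact h

theorem ringKrullDim_closed : ringKrullDim ((X R).presheaf.stalk (IsLocalRing.closedPoint R)) = 1 := by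
  rw [ringKrullDim_eq_of_ringEquiv
    ((Spec.stalkIso (R := CommRingCat.of R) (x := IsLocalRing.closedPoint R)).commRingCatIsoToRingEquiv)]
  show ringKrullDim (Localization.AtPrime (maximalIdeal R)) = 1
  rw [IsLocalization.AtPrime.ringKrullDim_eq_height (maximalIdeal R) (Localization.AtPrime (maximalIdeal R)),
    IsLocalRing.maximalIdeal_height_eq_ringKrullDim]
  exact IsPrincipalIdealRing.ringKrullDim_eq_one R (IsDiscreteValuationRing.not_isField R)

theorem locFact : Div.LocFact (X R) := by
  refine Div.locFact_of_regular fun y => ?_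
  haveI : IsRegularLocalRing (Localization.AtPrime (PrimeSpectrum.asIdeal y)) := by
    infer_instance
  exact IsRegularLocalRing.of_ringEquiv
    ((Spec.stalkIso (R := CommRingCat.of R) (x := y)).commRingCatIsoToRingEquiv).symm

/-- Quotients by `N` of the constant sheaf `ℤ`. -/
abbrev ZN (Y : Scheme.{u}) (N : ℕ) : EtCoh.Ab Y := cokernel (N • 𝟙 (EtCoh.const Y ℤ))

variable [HenselianLocalRing R]

/-- `R^q j_* C = 0` above degree zero for quotients of injective sheaves by killed sheaves. -/
theorem isZero_Rpush {ℓ : ℕ} (hℓ : ℓ.Prime) (hu : IsUnit (ℓ : R))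
    {M I C : EtCoh.Ab (Spec ((X R).presheaf.stalk (genericPoint (X R))))} [Injective I]
    (hM : ℓ • 𝟙 M = 0) {ι : M ⟶ I} {π : I ⟶ C} {w : ι ≫ π = 0} (hS : (ShortComplex.mk ι π w).ShortExact) (q : ℕ) :
    IsZero ((EtCoh.Rpush ((X R).fromSpecStalk (genericPoint (X R))) (q + 1)).obj C) := by
  let η := genericPoint (X R)
  let j := (X R).fromSpecStalk η
  refine ClosedPointSupport.isZero_of_supp_empty (Set.eq_empty_iff_forall_notMem.2 fun y hy => ?_)
  let A := (X R).presheaf.stalk y
  let S := HenselLib.LocalSH A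
  haveI hS' : Hensel.IsStrictHenselization A S := HenselLib.isStrictHenselization_localSH (R := A)
  haveI := hS'.henselian
  haveI : IsSepClosed (ResidueField S) := hS'.isSepClosure.sep_closed
  refine (mem_supp_iff _ (Hens2.geomPt (X R) y S) (EtStalkLib.geomPt_default (X R) y S)).1 hy ?_
  refine Transc.isZero_stalk_Rpush j y S ?_ hM hS q
  let φ : X R → ℕ := fun z => if PrimeSpectrum.asIdeal z = ⊥ then 2 else 0
  have h2 : CdDev9.Strict (X R) ℓ φ := by
    intro x z hxz hne R' _ _ _ _ _ Q hQ
    have hle : PrimeSpectrum.asIdeal x ≤ PrimeSpectrum.asIdeal z := (PrimeSpectrum.le_iff_specializes x z).2 hxz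
    have hx : PrimeSpectrum.asIdeal x = ⊥ := by
      rcases eq_bot_or_closed R x with h | h
      · exact h
      · exact (hne (PrimeSpectrum.ext (le_antisymm hle
          ((IsLocalRing.le_maximalIdeal (z : PrimeSpectrum R).2.ne_top).trans (by rw [h]; exact le_rfl))))).elim
    have hz : PrimeSpectrum.asIdeal z ≠ ⊥ := fun h => hne (PrimeSpectrum.ext (hx.trans h.symm))
    refine ⟨1, by simp [φ, hx, hz], ?_⟩
    let A' := (X R).presheaf.stalk z
    let e : A' ≃+* Localization.AtPrime (PrimeSpectrum.asIdeal z) :=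
      (Spec.stalkIso (R := CommRingCat.of R) (x := z)).commRingCatIsoToRingEquiv
    haveI : IsDomain (Localization.AtPrime (PrimeSpectrum.asIdeal z)) :=
      IsLocalization.isDomain_localization (PrimeSpectrum.asIdeal z).primeCompl_le_nonZeroDivisors
    haveI : IsDomain A' := e.toMulEquiv.isDomain
    haveI := Loc2.isDVR_atPrime (PrimeSpectrum.asIdeal z) hz (by
      refine (Ideal.height_mono (IsLocalRing.le_maximalIdeal (z : PrimeSpectrum R).2.ne_top)).trans ?_
      have := IsLocalRing.maximalIdeal_height_eq_ringKrullDim (R := R)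
      rw [IsPrincipalIdealRing.ringKrullDim_eq_one R (IsDiscreteValuationRing.not_isField R)] at this
      exact (WithBot.coe_injective (this.trans (by rfl : (1 : WithBot ℕ∞) = ((1 : ℕ∞) : WithBot ℕ∞)))).le)
    haveI : IsDiscreteValuationRing A' := IsDiscreteValuationRing.RingEquivClass.isDiscreteValuationRing e.symm
    obtain ⟨_, _⟩ := Loc2.isDVR_strict A' R'
    have hR' := (‹Hensel.IsStrictHenselization ((X R).presheaf.stalk z) R'›)
    haveI := hR'.henselian
    haveI : IsSepClosed (ResidueField R') := hR'.isSepClosure.sep_closed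
    haveI := CdDev9.weaklyEtale_strict A' R'
    haveI := hQ.1.1
    have hQ0 : Q = ⊥ := by
      obtain ⟨p₀, rfl⟩ : ∃ p₀ : Spec (CommRingCat.of A'), (X R).fromSpecStalk z p₀ = x := by
        have h : x ∈ Set.range ((X R).fromSpecStalk z) := by
          rw [Scheme.range_fromSpecStalk]
          exact hxz
        exact h
      rw [CycLib28.ker_specMap p₀ hxz] at hQ
      obtain ⟨-, hQc⟩ := (HenselLib.WEt.mem_minimalPrimes_map_iff _ _).1 hQ
      by_contra hQne
      have hQm : Q = maximalIdeal R' := IsLocalRing.eq_maximalIdeal (Ideal.IsPrime.isMaximal inferInstance hQne)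
      have hcm : (maximalIdeal R').comap (algebraMap A' R') = maximalIdeal A' :=
        ((IsLocalRing.local_hom_TFAE (algebraMap A' R')).out 0 4).mp (inferInstance : IsLocalHom (algebraMap A' R'))
      have hp : p₀ = IsLocalRing.closedPoint A' := PrimeSpectrum.ext (by
        rw [← hQc, hQm, hcm]; rfl)
      rw [hp] at hne
      exact hne Scheme.fromSpecStalk_closedPoint
    subst hQ0
    refine Transc.cohDimLEAt_of_cdKilled hℓ fun r hr G hG i hi => ?_
    let ε : FractionRing (R' ⧸ (⊥ : Ideal R')) ≃+* FractionRing R' :=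
      IsFractionRing.ringEquivOfRingEquiv (RingEquiv.quotientBot R')
    let π' : Spec (CommRingCat.of (FractionRing (R' ⧸ (⊥ : Ideal R')))) ⟶ Spec (CommRingCat.of (FractionRing R')) :=
      Spec.map ε.toCommRingCatIso.inv
    haveI : IsFinite π' := inferInstance
    haveI : NeZero r := ⟨hr.1.ne'⟩
    have hru : IsUnit (r : R') := by
      have h1 : IsUnit (r : R) := by
        obtain ⟨n, rfl⟩ : ∃ n, r = ℓ ^ n :=
          ⟨_, Nat.eq_prime_pow_of_unique_prime_dvd hr.1.ne' fun {d} hd hdvd => hr.2 d hd hdvd⟩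
        rw [Nat.cast_pow]
        exact hu.pow n
      have := h1.map ((algebraMap A' R').comp ((e.symm.toRingHom).comp
        (algebraMap R (Localization.AtPrime (PrimeSpectrum.asIdeal z)))))
      rwa [map_natCast] at this
    have hcd : CdKilled (Spec (CommRingCat.of (FractionRing R'))) r 1 := fun G' hG' i' hi' =>
      CdSHFrac.subsingleton_H R' (FractionRing R') r hru G' (KPiFinite.killedBy_of_nsmul_id hG') i' hi'
    exact hcd.of_finite π' G hG i hi
  intro F hF r hr
  let g := pullback.snd j (Hens2.specOf (X R) y S)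
  haveI : QuasiCompact j := inferInstance
  haveI : IsPreimmersion g := MorphismProperty.pullback_snd (P := @IsPreimmersion) _ _ inferInstance
  haveI := weaklyEtale_strict A S
  haveI := isNoetherianRing_strict A S
  have hover : ∀ z : ↥(pullback j (Hens2.specOf (X R) y S)), Hens2.specOf (X R) y S (g z) = η := fun z => by
    refine (congrArg (fun k : pullback j (Hens2.specOf (X R) y S) ⟶ X R => k z)
      (pullback.condition (f := j) (g := Hens2.specOf (X R) y S))).symm.trans ?_
    have h : j (pullback.fst j (Hens2.specOf (X R) y S) z) ∈ Set.range j := Set.mem_range_self _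
    rw [Scheme.range_fromSpecStalk] at h
    exact (Specializes.antisymm h (genericPoint_specializes _)).eq
  have hinjc : ∀ z w : ↥(pullback j (Hens2.specOf (X R) y S)),
      PrimeSpectrum.comap (algebraMap A S) (g z) = PrimeSpectrum.comap (algebraMap A S) (g w) := fun z w =>
    ((X R).fromSpecStalk y).isEmbedding.injective ((hover z).trans (hover w).symm)
  have hclosed : ∀ z : ↥(pullback j (Hens2.specOf (X R) y S)), IsClosed ({z} : Set _) := fun z => by
    refine isClosed_of_closure_subset fun w hw => ?_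
    have h := ((specializes_iff_mem_closure.2 hw).map g.continuous)
    refine g.isEmbedding.injective (PrimeSpectrum.ext ?_)
    exact (HenselLib.WEt.eq_of_le_of_comap_eq (A := A) ((PrimeSpectrum.le_iff_specializes _ _).2 h)
      (congrArg PrimeSpectrum.asIdeal (hinjc z w))).symm
  haveI : Finite ↥(pullback j (Hens2.specOf (X R) y S)) := by
    rcases isEmpty_or_nonempty ↥(pullback j (Hens2.specOf (X R) y S)) with hP | ⟨⟨z₀⟩⟩
    · infer_instance
    let p := (PrimeSpectrum.comap (algebraMap A S) (g z₀)).asIdeal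
    haveI := ((p.map (algebraMap A S)).finite_minimalPrimes_of_isNoetherianRing S).to_subtype
    refine Finite.of_injective (β := (p.map (algebraMap A S)).minimalPrimes)
      (fun z => ⟨(g z).asIdeal, (HenselLib.WEt.mem_minimalPrimes_map_iff p _).2
        ⟨(g z).2, congrArg PrimeSpectrum.asIdeal (hinjc z z₀)⟩⟩) fun z w h => ?_
    exact g.isEmbedding.injective (PrimeSpectrum.ext (congrArg Subtype.val h))
  haveI := Fintype.ofFinite ↥(pullback j (Hens2.specOf (X R) y S))
  have hFt : EtAcyc.IsLTorsion {ℓ} F := CompCrit.isLTorsion_of_nsmul_id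
    ⟨hℓ.pos, fun p hp hd => (Nat.prime_dvd_prime_iff_eq hp hℓ).1 hd⟩ hF
  refine GalEt.subsingleton_H_of_points Finset.univ (fun z _ => hclosed z) F
    (fun z _ => Finset.mem_coe.2 (Finset.mem_univ z)) r fun z _ => ?_
  let f : Spec ((pullback j (Hens2.specOf (X R) y S)).residueField z) ⟶
      Spec (CommRingCat.of (g z).asIdeal.ResidueField) :=
    Spec.map ((Scheme.Spec.residueFieldIso (CommRingCat.of S) (g z)).inv ≫ g.residueFieldMap z)
  haveI : IsIso (g.residueFieldMap z) := by
    have hs := g.stalkMap_surjective z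
    have hr : Function.Surjective (g.residueFieldMap z).hom := fun a => by
      obtain ⟨b, rfl⟩ := (pullback j (Hens2.specOf (X R) y S)).residue_surjective z a
      obtain ⟨c, rfl⟩ := hs b
      exact ⟨(Spec (CommRingCat.of S)).residue (g z) c,
        congrArg (fun k => k c) (Scheme.residue_residueFieldMap g z)⟩
    exact (ConcreteCategory.isIso_iff_bijective _).2 ⟨(g.residueFieldMap z).hom.injective, hr⟩
  haveI : IsFinite f := inferInstance
  have hy' : φ η ≤ φ y + (1 + 1) := by simp only [φ]; split_ifs <;> omega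
  exact CdL.of_finite f (cdL_fraction hℓ h2 η y S 1 hy' (g z) (hover z)) _
    (CdField.isLTorsion_pull' _ hFt) r hr

/-- `R¹ j_* 𝔾ₘ = 0`. -/
theorem isZero_Rpush_Gm :
    IsZero ((EtCoh.Rpush ((X R).fromSpecStalk (genericPoint (X R))) 1).obj
      (EtCoh.Gm (Spec ((X R).presheaf.stalk (genericPoint (X R)))))) := by
  let η := genericPoint (X R)
  let j := (X R).fromSpecStalk η
  refine isZero_Rpush_succ _ _ 0 fun V hV => ?_
  let W := (EtCoh.bc j).obj V
  haveI : IsAffine ((𝟭 Scheme.{u}).obj V.left) := hV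
  haveI : QuasiCompact (Et18.LocCoh.str W) := by
    haveI : CompactSpace ((𝟭 Scheme.{u}).obj V.left) := inferInstance
    haveI : QuasiCompact V.hom := by
      haveI : QuasiCompact (V.hom ≫ terminal.from (X R)) := inferInstance
      haveI : QuasiSeparated (terminal.from (X R)) := inferInstance
      exact QuasiCompact.of_comp V.hom (terminal.from (X R))
    exact MorphismProperty.pullback_snd (P := @QuasiCompact) V.hom j inferInstance
  haveI : EtShriek.JCont (Et18.LocCoh.str W) := jCont _
  refine @Equiv.subsingleton _ _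
    ((EtCoh.HF W.left 1).mapIso (restrAlongGmIso (Et18.LocCoh.str W))).addCommGroupIsoToAddEquiv.toEquiv ?_
  refine subsingleton_H_etale_of_points (K := ((X R).functionField : Type u)) (Et18.LocCoh.str W) _ 1
    fun L _ _ _ _ i _ _ _ => ?_
  exact @Equiv.subsingleton _ _
    ((EtCoh.HF (Spec (CommRingCat.of L)) 1).mapIso (pullGmIso i)).addCommGroupIsoToAddEquiv.toEquiv
    (subsingleton_H_one_Gm L)

/-- Fraction fields are function fields. -/
theorem nonempty_fractionRing_equiv (A : CommRingCat.{u}) [IsDomain A] :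
    Nonempty (FractionRing A ≃+* (Spec A).functionField) :=
  ⟨(FractionRing.algEquiv A (Spec A).functionField).toRingEquiv⟩

/-- The residue step. -/
theorem main {ℓ : ℕ} (hℓ : ℓ.Prime) (hu : IsUnit (ℓ : R)) {d : ℕ}
    (hK : CdKilled (Spec (CommRingCat.of (FractionRing R))) ℓ d) :
    1 ≤ d ∧ Subsingleton (EtCoh.H (Spec ((X R).residueField (IsLocalRing.closedPoint R)))
      (ZN (Spec ((X R).residueField (IsLocalRing.closedPoint R))) ℓ) d) := by
  classical
  let η := genericPoint (X R)
  let s : X R := IsLocalRing.closedPoint R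
  let j := (X R).fromSpecStalk η
  let SK := Spec ((X R).presheaf.stalk η)
  haveI : IsLocallyNoetherian (X R) := inferInstance
  haveI := locFact R
  letI : Unique (Div.Ht1 (X R)) :=
    { default := ⟨s, ringKrullDim_closed R⟩
      uniq := fun x => Subtype.ext (height_eq_one R x) }
  let x₀ : Div.Ht1 (X R) := default
  let c : Cofan fun x : Div.Ht1 (X R) => Div.D x :=
    Cofan.mk (Div.D x₀) fun x => eqToHom (congrArg Div.D (Subsingleton.elim x x₀))
  have hc : IsColimit c := mkCofanColimit _ (fun t => t.inj x₀) (fun t x => by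
      obtain rfl : x = x₀ := Subsingleton.elim _ _
      simp [c]) fun t m hm => by simpa [c] using hm x₀
  obtain ⟨-, ⟨eD⟩⟩ := Div.divisor_sequence c hc
  let ε := EtLim.GmPush j
  let D : EtCoh.Ab (X R) := Div.D x₀
  let τ : (EtCoh.push j).obj (EtCoh.Gm SK) ⟶ D := cokernel.π ε ≫ eD.hom
  have hετ : ε ≫ τ = 0 := by
    show ε ≫ cokernel.π ε ≫ eD.hom = 0
    rw [cokernel.condition_assoc, zero_comp]
  -- the Kummer sequence on the fraction field
  let G := EtCoh.Gm SK
  let l : G ⟶ G := ℓ • 𝟙 G
  let e₀ : (X R).presheaf.stalk η ≃+* (X R).functionField := RingEquiv.refl _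
  haveI : Epi l := HenselLib.Kummer.epi_powMap ℓ (by
    have h := hu.map ((Scheme.ΓSpecIso ((X R).presheaf.stalk η)).inv.hom.comp
      (((X R).presheaf.germ ⊤ η trivial).hom.comp (Scheme.ΓSpecIso (CommRingCat.of R)).inv.hom))
    rwa [map_natCast] at h)
  let m := kernel.ι l
  have hM : ℓ • 𝟙 (kernel l) = 0 := GalEt.killed_kernel _ ℓ
  let ι := Injective.ι G
  let pC := pushout.inl ι l
  let b := pushout.inr ι l
  have hmp : (m ≫ ι) ≫ pC = 0 := by
    rw [Category.assoc, pushout.condition, kernel.condition_assoc, zero_comp]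
  have hMIC : (ShortComplex.mk (m ≫ ι) pC hmp).ShortExact :=
    { exact := by
        refine ShortComplex.exact_of_g_is_cokernel _ (CokernelCofork.IsColimit.ofπ' pC hmp fun {Z} k hk => ?_)
        let k' : G ⟶ Z := Abelian.epiDesc l (ι ≫ k) (by rw [← Category.assoc]; exact hk)
        exact ⟨pushout.desc k k' (Abelian.comp_epiDesc l (ι ≫ k) _).symm, pushout.inl_desc _ _ _⟩
      mono_f := inferInstanceAs (Mono (m ≫ ι))
      epi_g := inferInstanceAs (Epi (pushout.inl ι l)) }
  -- cohomological dimension of the generic point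
  have hSK : CdKilled SK ℓ d := by
    haveI : IsDomain ↥(CommRingCat.of R) := ‹IsDomain R›
    obtain ⟨e'⟩ := nonempty_fractionRing_equiv (CommRingCat.of R)
    let e : FractionRing R ≃+* (Spec (CommRingCat.of R)).functionField := e' 
    let π : SK ⟶ Spec (CommRingCat.of (FractionRing R)) := Spec.map e.toCommRingCatIso.hom
    haveI : IsFinite π := inferInstance
    exact hK.of_finite π
  haveI : (EtCoh.push j).Additive := inferInstance
  haveI : PreservesFiniteLimits (EtCoh.push j) :=
    have : PreservesLimitsOfSize.{0, 0} (EtCoh.push j) := (EtCoh.pullPushAdj j).rightAdjoint_preservesLimits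
    PreservesLimitsOfSize.preservesFiniteLimits _
  haveI hψ := isIso_cokernelMap (EtCoh.push j) ι l (isZero_Rpush_Gm R)
  let QC := cokernel ((EtCoh.push j).map pC)
  let ψ : cokernel ((EtCoh.push j).map l) ⟶ QC :=
    cokernel.map _ _ ((EtCoh.push j).map ι) ((EtCoh.push j).map b) (sq_w _ ι l)
  -- the cokernel of multiplication by `ℓ`
  let lD : D ⟶ D := ℓ • 𝟙 D
  have hl : (EtCoh.push j).map l = ℓ • 𝟙 _ := by rw [Functor.map_nsmul, CategoryTheory.Functor.map_id]
  have hlπ : ∀ {W : EtCoh.Ab (X R)} (k : (EtCoh.push j).obj G ⟶ W), (EtCoh.push j).map l ≫ k = ℓ • k :=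
    fun k => by rw [hl, Preadditive.nsmul_comp, Category.id_comp]
  let ξ : cokernel ((EtCoh.push j).map l) ⟶ cokernel lD := cokernel.map _ _ τ τ (by
    rw [hl, Preadditive.nsmul_comp, Category.id_comp, Preadditive.comp_nsmul, Category.comp_id])
  haveI : IsIso ξ := by
    haveI : Epi (ℓ • 𝟙 (EtCoh.Gm (X R))) := HenselLib.Kummer.epi_powMap ℓ (by
      have := hu.map (Scheme.ΓSpecIso (CommRingCat.of R)).inv.hom
      rwa [map_natCast] at this)
    let π' := cokernel.π ((EtCoh.push j).map l)
    have h0 : ε ≫ π' = 0 := by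
      rw [← cancel_epi (ℓ • 𝟙 (EtCoh.Gm (X R))), comp_zero, Preadditive.nsmul_comp, Category.id_comp]
      calc ℓ • (ε ≫ π') = ε ≫ (EtCoh.push j).map l ≫ π' := by
            rw [hlπ, Preadditive.comp_nsmul]
        _ = 0 := by rw [cokernel.condition, comp_zero]
    let α : D ⟶ cokernel ((EtCoh.push j).map l) := eD.inv ≫ cokernel.desc ε π' h0
    have hτα : τ ≫ α = π' := by simp [τ, α]
    haveI : Epi τ := epi_comp _ _
    have hlα : lD ≫ α = 0 := by
      rw [← cancel_epi τ, comp_zero, Preadditive.nsmul_comp, Category.id_comp, Preadditive.comp_nsmul, hτα]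
      show ℓ • π' = 0
      exact (hlπ π').symm.trans (cokernel.condition _)
    refine ⟨cokernel.desc lD α hlα, ?_, ?_⟩
    · rw [← cancel_epi π', ← Category.assoc, cokernel.π_desc, Category.assoc, cokernel.π_desc, hτα, Category.comp_id]
    · rw [← cancel_epi (cokernel.π lD), cokernel.π_desc_assoc, Category.comp_id, ← cancel_epi τ, ← Category.assoc,
        hτα, cokernel.π_desc]
  -- a lift of the unit of the skyscraper
  let i := (X R).fromSpecResidueField s
  let S₀ := Spec ((X R).residueField s)
  let ZX := EtCoh.const (X R) ℤ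
  let u₀ : ZX ⟶ D := (EtCoh.pullPushAdj i).homEquiv _ _ (EtCore.pullConst i ℤ).hom
  haveI : IsClosedImmersion i := by
    refine IsClosedImmersion.of_isPreimmersion i ?_
    rw [Scheme.range_fromSpecResidueField]
    exact IsLocalRing.isClosed_singleton_closedPoint R
  haveI : Epi τ := epi_comp _ _
  obtain ⟨h, hh⟩ : ∃ h : ZX ⟶ (EtCoh.push j).obj G, h ≫ τ = u₀ := by
    haveI hP1 : Subsingleton (EtCoh.H (X R) (EtCoh.Gm (X R)) 1) :=
      (S0236.result (X R)).mpr (KummerH1.invertible_trivial R)
    haveI : Mono ε := (Div.divisor_sequence c hc).1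
    have hS : (ShortComplex.mk ε τ hετ).ShortExact :=
      { exact := ShortComplex.exact_of_g_is_cokernel _ (CokernelCofork.IsColimit.ofπ' τ hετ fun {Z} k hk =>
          ⟨eD.inv ≫ cokernel.desc ε k hk, by simp [τ]⟩)
        mono_f := inferInstanceAs (Mono ε)
        epi_g := inferInstanceAs (Epi τ) }
    obtain ⟨z, hz⟩ := Abelian.Ext.covariant_sequence_exact₃ ZX hS (Abelian.Ext.mk₀ u₀) (zero_add 1)
      (@Subsingleton.elim _ hP1 _ _)
    obtain ⟨h, rfl⟩ := (Abelian.Ext.mk₀_bijective ZX _).2 z
    exact ⟨h, (Abelian.Ext.mk₀_bijective ZX D).1 ((Abelian.Ext.mk₀_comp_mk₀ h τ).symm.trans hz)⟩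
  -- the induced map
  let φ₀ : ZX ⟶ (EtCoh.push j).obj (pushout ι l) := h ≫ (EtCoh.push j).map b
  let θ : cokernel lD ⟶ QC := inv ξ ≫ ψ
  have hfac : φ₀ ≫ cokernel.π ((EtCoh.push j).map pC) = u₀ ≫ cokernel.π lD ≫ θ := by
    have h1 : h ≫ cokernel.π ((EtCoh.push j).map l) ≫ ξ = u₀ ≫ cokernel.π lD := by
      rw [cokernel.π_desc, ← Category.assoc, hh]
    have h2 : h ≫ cokernel.π ((EtCoh.push j).map l) = u₀ ≫ cokernel.π lD ≫ inv ξ := by
      rw [← cancel_mono ξ, Category.assoc, Category.assoc, Category.assoc, IsIso.inv_hom_id, Category.comp_id, h1]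
    show (h ≫ _) ≫ _ = _
    have h3 : cokernel.π ((EtCoh.push j).map l) ≫ ψ = (EtCoh.push j).map b ≫ cokernel.π ((EtCoh.push j).map pC) :=
      cokernel.π_desc _ _ _
    rw [Category.assoc, ← h3, ← Category.assoc, h2]
    simp only [θ, Category.assoc]
  haveI : IsIso θ := inferInstanceAs (IsIso (inv ξ ≫ ψ))
  -- the unit after reduction modulo `ℓ`
  haveI := push_preservesHomology_of_integral i
  haveI : PreservesFiniteColimits (EtCoh.push i) := (EtCoh.push i).preservesFiniteColimits_of_preservesHomology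
  haveI : (EtCoh.push i).Additive := inferInstance
  haveI : (EtCoh.pull i).Additive := inferInstance
  haveI := isIso_counit_of_integral i
  let LX := cokernel (ℓ • 𝟙 ZX)
  let α₁ : LX ⟶ cokernel lD := cokernel.map _ _ u₀ u₀ (by
    rw [Preadditive.nsmul_comp, Category.id_comp, Preadditive.comp_nsmul, Category.comp_id])
  have hu₀ : IsIso ((EtCoh.pull i).map u₀) := by
    have e : (EtCoh.pull i).map u₀ ≫ (EtCoh.pullPushAdj i).counit.app (EtCoh.const S₀ ℤ) = (EtCore.pullConst i ℤ).hom :=
      ((EtCoh.pullPushAdj i).homEquiv_counit _ _ _).symm.trans (Equiv.symm_apply_apply _ _)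
    haveI : IsIso ((EtCoh.pull i).map u₀ ≫ (EtCoh.pullPushAdj i).counit.app (EtCoh.const S₀ ℤ)) := by
      rw [e]; infer_instance
    exact IsIso.of_isIso_comp_right _ ((EtCoh.pullPushAdj i).counit.app (EtCoh.const S₀ ℤ))
  haveI := hu₀
  haveI : PreservesColimitsOfSize.{0, 0} (EtCoh.pull i) := (EtCoh.pullPushAdj i).leftAdjoint_preservesColimits
  haveI : IsIso ((EtCoh.pull i).map α₁) := by
    let g := (EtCoh.pull i).map α₁
    let qX := (EtCoh.pull i).map (cokernel.π (ℓ • 𝟙 ZX))
    let qD := (EtCoh.pull i).map (cokernel.π lD)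
    have hg : qX ≫ g = (EtCoh.pull i).map u₀ ≫ qD := by
      rw [← Functor.map_comp, cokernel.π_desc, Functor.map_comp]
    haveI : Epi qX := inferInstance
    haveI : Epi qD := inferInstance
    have hz : (EtCoh.pull i).map lD ≫ inv ((EtCoh.pull i).map u₀) ≫ qX = 0 := by
      rw [← cancel_epi ((EtCoh.pull i).map u₀), comp_zero]
      rw [← Functor.map_comp_assoc, show u₀ ≫ lD = (ℓ • 𝟙 ZX) ≫ u₀ by
        rw [Preadditive.comp_nsmul, Category.comp_id, Preadditive.nsmul_comp, Category.id_comp],
        Functor.map_comp_assoc, IsIso.hom_inv_id_assoc, ← Functor.map_comp, cokernel.condition, Functor.map_zero]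
    let hD := CokernelCofork.mapIsColimit _ (cokernelIsCokernel lD) (EtCoh.pull i)
    obtain ⟨v, hv⟩ : { v // qD ≫ v = inv ((EtCoh.pull i).map u₀) ≫ qX } := CokernelCofork.IsColimit.desc' hD _ hz
    refine ⟨v, ?_, ?_⟩
    · rw [← cancel_epi qX, ← Category.assoc, hg, Category.assoc, hv, IsIso.hom_inv_id_assoc, Category.comp_id]
    · rw [← cancel_epi qD, ← Category.assoc, hv, Category.assoc, hg, IsIso.inv_hom_id_assoc, Category.comp_id]
  have hs : IsLocalRing.closedPoint R ∈ Set.range i := by
    rw [Scheme.range_fromSpecResidueField]; exact Set.mem_singleton _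
  -- zero-dimensional case
  have hd : 1 ≤ d := by
    by_contra hd
    have h1 : Subsingleton (EtCoh.H SK (kernel l) 1) := hSK _ hM 1 (by omega)
    let a := ((EtCoh.pullPushAdj j).homEquiv _ _).symm φ₀
    let c₀ := EtCore.pullConst j ℤ
    obtain ⟨z, hz⟩ := Abelian.Ext.covariant_sequence_exact₃ _ hMIC (Abelian.Ext.mk₀ (c₀.inv ≫ a)) (zero_add 1)
      (@Subsingleton.elim _ h1 _ _)
    obtain ⟨w, rfl⟩ := (Abelian.Ext.mk₀_bijective _ _).2 z
    have hw : w ≫ pC = c₀.inv ≫ a :=
      (Abelian.Ext.mk₀_bijective _ _).1 ((Abelian.Ext.mk₀_comp_mk₀ w pC).symm.trans hz)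
    have e : φ₀ = (EtCoh.pullPushAdj j).homEquiv _ _ (c₀.hom ≫ w) ≫ (EtCoh.push j).map pC := by
      rw [← Adjunction.homEquiv_naturality_right, Category.assoc, hw, Iso.hom_inv_id_assoc]
      exact (Equiv.apply_symm_apply _ _).symm
    have e0 : u₀ ≫ cokernel.π lD = 0 := by
      rw [← cancel_mono θ, Category.assoc, ← hfac, e, Category.assoc, cokernel.condition, comp_zero, zero_comp]
    have hzD : (EtCoh.pull i).map (cokernel.π lD) = 0 := by
      rw [← cancel_epi ((EtCoh.pull i).map u₀), ← Functor.map_comp, e0, Functor.map_zero, comp_zero]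
    have hD0 : IsZero ((EtCoh.pull i).obj (cokernel lD)) := by
      haveI : Epi ((EtCoh.pull i).map (cokernel.π lD)) := inferInstance
      exact IsZero.of_epi_eq_zero _ hzD
    have hX0 : IsZero ((EtCoh.pull i).obj LX) := hD0.of_iso (asIso ((EtCoh.pull i).map α₁))
    refine not_isZero_ZN S₀ hℓ.one_lt (hX0.of_iso ?_)
    exact cokernel.mapIso _ _ (EtCore.pullConst i ℤ).symm (EtCore.pullConst i ℤ).symm (by
      rw [Functor.map_nsmul, CategoryTheory.Functor.map_id, Preadditive.nsmul_comp, Category.id_comp,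
        Preadditive.comp_nsmul, Category.comp_id]) ≪≫ (PreservesCokernel.iso (EtCoh.pull i) (ℓ • 𝟙 ZX)).symm
  refine ⟨hd, ?_⟩
  obtain ⟨n, rfl⟩ : ∃ n, d = n + 1 := ⟨d - 1, by omega⟩
  -- cohomology of the direct image
  haveI : (EtCoh.pull j).PreservesMonomorphisms := inferInstance
  haveI : (EtCoh.push j).PreservesInjectiveObjects :=
    Functor.preservesInjectiveObjects_of_adjunction_of_preservesMonomorphisms (EtCoh.pullPushAdj j)
  have hTC : Subsingleton (EtCoh.H (X R) ((EtCoh.push j).obj (pushout ι l)) (n + 1)) := by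
    have hC : Subsingleton (EtCoh.H SK (pushout ι l) (n + 1)) :=
      CdCurve24.subsingleton_right hMIC (CdCurve24.subsingleton_H_injective (Injective.under G) n)
        (hSK _ hM (n + 1 + 1) (by omega))
    let e := SiteCoh.extAdjEquiv (EtCoh.pullPushAdj j) (F := pushout ι l)
      (isZero_Rpush R hℓ hu hM hMIC) ZX (n + 1)
    let c₀ := EtCore.pullConst j ℤ
    have h2 : Subsingleton (Abelian.Ext ((EtCoh.pull j).obj ZX) (pushout ι l) (n + 1)) := by
      refine ⟨fun a b => ?_⟩
      have h0 : (Abelian.Ext.mk₀ c₀.inv).comp a (zero_add _) = (Abelian.Ext.mk₀ c₀.inv).comp b (zero_add _) :=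
        @Subsingleton.elim _ hC _ _
      have h1 := congrArg (fun w => (Abelian.Ext.mk₀ c₀.hom).comp w (zero_add (n + 1))) h0
      simpa only [Abelian.Ext.mk₀_comp_mk₀_assoc, Iso.hom_inv_id, Abelian.Ext.mk₀_id_comp] using h1
    exact e.toEquiv.subsingleton_congr.2 h2
  -- the map lifts
  haveI : Injective ((EtCoh.push j).obj (Injective.under G)) :=
    Functor.PreservesInjectiveObjects.injective_obj inferInstance
  haveI : Mono (ℓ • 𝟙 ZX) := by
    let Z := AddCommGrpCat.of (ULift.{u + 1} ℤ)
    haveI : Mono (ℓ • 𝟙 Z) := (AddCommGrpCat.mono_iff_injective _).2 fun a b hab => by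
      apply ULift.down_injective
      have h := congrArg ULift.down hab
      change ℓ • a.down = ℓ • b.down at h
      simpa [hℓ.ne_zero] using h
    haveI : (cst (X R)).Additive := inferInstance
    have e : (cst (X R)).map (ℓ • 𝟙 Z) = ℓ • 𝟙 ((cst (X R)).obj Z) := by
      rw [Functor.map_nsmul, CategoryTheory.Functor.map_id]
    show Mono (ℓ • 𝟙 ((cst (X R)).obj Z))
    rw [← e]
    infer_instance
  let t := Injective.factorThru (h ≫ (EtCoh.push j).map ι) (ℓ • 𝟙 ZX)
  have ht : (ℓ • 𝟙 ZX) ≫ t = h ≫ (EtCoh.push j).map ι := Injective.comp_factorThru _ _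
  have hβ : (ℓ • 𝟙 ZX) ≫ (φ₀ - t ≫ (EtCoh.push j).map pC) = 0 := by
    rw [Preadditive.comp_sub, sub_eq_zero]
    calc (ℓ • 𝟙 ZX) ≫ φ₀ = h ≫ (EtCoh.push j).map l ≫ (EtCoh.push j).map b := by
          rw [hlπ, Preadditive.comp_nsmul, Preadditive.nsmul_comp, Category.id_comp]
      _ = h ≫ (EtCoh.push j).map ι ≫ (EtCoh.push j).map pC := by rw [sq_w]
      _ = (ℓ • 𝟙 ZX) ≫ t ≫ (EtCoh.push j).map pC := by rw [← Category.assoc, ← ht, Category.assoc]
  let β : LX ⟶ (EtCoh.push j).obj (pushout ι l) := cokernel.desc _ _ hβ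
  have hβα : β ≫ cokernel.π ((EtCoh.push j).map pC) = α₁ ≫ θ := by
    rw [← cancel_epi (cokernel.π (ℓ • 𝟙 ZX)), ← Category.assoc, cokernel.π_desc, Preadditive.sub_comp,
      hfac, Category.assoc t, cokernel.condition, comp_zero, sub_zero, cokernel.π_desc_assoc, Category.assoc]
  have hQD : Subsingleton (EtCoh.H (X R) (cokernel lD) (n + 1)) := by
    refine GalEt.subsingleton_of_forall_eq_zero fun z => ?_
    obtain ⟨y, rfl⟩ := surjective_H_of_isIso_pull R i hs α₁ (n + 1) z
    have e : α₁ = β ≫ cokernel.π ((EtCoh.push j).map pC) ≫ inv θ := by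
      rw [← Category.assoc, hβα, Category.assoc, IsIso.hom_inv_id, Category.comp_id]
    rw [e, ← Abelian.Ext.mk₀_comp_mk₀, ← Abelian.Ext.comp_assoc_of_second_deg_zero,
      show y.comp (Abelian.Ext.mk₀ β) (add_zero (n + 1)) = 0 from @Subsingleton.elim _ hTC _ _, Abelian.Ext.zero_comp]
  refine (CdField.subsingleton_H_push_iff i _ (n + 1)).1 (subsingleton_H_of_iso ?_ (n + 1) hQD)
  exact cokernelIsoOfEq (by rw [Functor.map_nsmul, CategoryTheory.Functor.map_id]; rfl) ≪≫
    (PreservesCokernel.iso (EtCoh.push i) (ℓ • 𝟙 (EtCoh.const S₀ ℤ))).symm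

end Groth.Agent.CdDev9.Residue
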