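import Groth.Agent.GalEt.Cyclic
import Groth.Agent.Et18.TorsionColim

/-!
Finiteness of the cohomological dimension along cyclic extensions embedding in larger cyclic extensions.
-/

set_option autoImplicit false
set_option linter.all false
set_option backward.isDefEq.respectTransparency.types false
set_option backward.isDefEq.respectTransparency false
set_option backward.defeqAttrib.useBackward true
set_option synthInstance.maxHeartbeats 400000
set_option maxHeartbeats 1000000

universe u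

open CategoryTheory CategoryTheory.Limits CategoryTheory.Abelian AlgebraicGeometry Opposite
open Groth.Agent.Et18 Groth.Agent.Et18.CdField
open Groth.Agent.GalEt

noncomputable section

namespace Groth.Agent.CdDev9.Serre

/-- Dimension shift along an injective middle term. -/
theorem subsingleton_H_shift {X : Scheme.{u}} {S : ShortComplex (EtCoh.Ab X)} (hS : S.ShortExact)
    [Injective S.X₂] (i : ℕ) (h : Subsingleton (EtCoh.H X S.X₁ (i + 2))) :
    Subsingleton (EtCoh.H X S.X₃ (i + 1)) := by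
  refine GalEt.subsingleton_of_forall_eq_zero fun x => ?_
  obtain ⟨y, hy⟩ := Ext.covariant_sequence_exact₃ _ hS x (rfl : i + 1 + 1 = i + 2)
    (@Subsingleton.elim _ h _ _)
  rw [← hy, Ext.eq_zero_of_injective y, Ext.zero_comp]

variable (K : Type u) [Field K] (L : Type u) [Field L] [Algebra K L] [Module.Finite K L] [IsGalois K L]

/-- Pulled back dimension shift. -/
theorem subsingleton_pull_shift {S : ShortComplex (EtCoh.Ab (Spec (CommRingCat.of K)))} (hS : S.ShortExact)
    [Injective S.X₂] (i : ℕ)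
    (h : Subsingleton (EtCoh.H (Spec (CommRingCat.of L)) ((EtCoh.pull (mor K L)).obj S.X₁) (i + 2))) :
    Subsingleton (EtCoh.H (Spec (CommRingCat.of L)) ((EtCoh.pull (mor K L)).obj S.X₃) (i + 1)) := by
  haveI := etale_mor K L
  let π := mor K L
  haveI : EtShriek.JCont π := jCont π
  have := push_preservesHomology_of_integral π
  haveI : PreservesFiniteColimits (EtCoh.push π) :=
    (EtCoh.push π).preservesFiniteColimits_of_preservesHomology
  haveI : PreservesFiniteLimits (EtCoh.push π) :=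
    (EtCoh.push π).preservesFiniteLimits_of_preservesHomology
  haveI : (EtCoh.pull π).PreservesInjectiveObjects :=
    Functor.preservesInjectiveObjects_of_adjunction_of_preservesMonomorphisms (pushPullAdj π)
  have hp := hS.map_of_exact (EtCoh.pull π)
  haveI : Injective ((S.map (EtCoh.pull π)).X₂) :=
    inferInstanceAs (Injective ((EtCoh.pull π).obj S.X₂))
  exact subsingleton_H_shift hp i h

/-- Sections over `L` lift when the first cohomology over `L` vanishes. -/
theorem exists_lift_sect {S : ShortComplex (EtCoh.Ab (Spec (CommRingCat.of K)))} (hS : S.ShortExact)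
    (h : Subsingleton (EtCoh.H (Spec (CommRingCat.of L)) ((EtCoh.pull (mor K L)).obj S.X₁) 1))
    (v : EtCoh.sect S.X₃ (UObj K L)) : ∃ y, S.g.hom.app (op (UObj K L)) y = v := by
  haveI := etale_mor K L
  let π := mor K L
  haveI : EtShriek.JCont π := jCont π
  have hp := hS.map_of_exact (EtCoh.pull π)
  let eU : (EtShriek.compEtale π).obj (EtCoh.top (Spec (CommRingCat.of L))) ≅ UObj K L :=
    MorphismProperty.Over.isoMk (Iso.refl _)
      ((Category.id_comp _).trans (Category.id_comp _).symm)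
  let α := fun G => (pullRestrIso π).app G
  obtain ⟨l, hl⟩ := EtLimit.exists_secOf (F := (EtShriek.restrAlong π).obj S.X₃)
    (S.X₃.obj.map eU.hom.op v)
  obtain ⟨z, hz⟩ := Ext.covariant_sequence_exact₃ _ hp (Ext.mk₀ (l ≫ (α S.X₃).inv)) (zero_add 1)
    (@Subsingleton.elim _ h _ _)
  obtain ⟨z, rfl⟩ := (Ext.mk₀_bijective _ _).2 z
  rw [Ext.mk₀_comp_mk₀] at hz
  have hz' : z ≫ (EtCoh.pull π).map S.g = l ≫ (α S.X₃).inv := (Ext.mk₀_bijective _ _).1 hz
  have hl' : (z ≫ (α S.X₂).hom) ≫ (EtShriek.restrAlong π).map S.g = l := by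
    rw [Category.assoc]
    erw [← (pullRestrIso π).hom.naturality S.g]
    rw [← Category.assoc, hz', Category.assoc]
    exact (congrArg (fun w => l ≫ w) (α S.X₃).inv_hom_id).trans (Category.comp_id l)
  have h2 := congrArg EtLimit.secOf hl'
  rw [TorsionColim.secOf_comp, hl] at h2
  refine ⟨S.X₂.obj.map eU.inv.op (EtLimit.secOf (z ≫ (α S.X₂).hom)), ?_⟩
  rw [NatTrans.naturality_apply]
  refine (congrArg (S.X₃.obj.map eU.inv.op) h2).trans ?_
  rw [← Functor.map_comp_apply, ← op_comp, eU.inv_hom_id, op_id, Functor.map_id_apply]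

variable (M : Type u) [Field M] [Algebra K M] [Module.Finite K M] [IsGalois K M] [Algebra L M] [IsScalarTower K L M]

/-- Restriction commutes with the Galois actions. -/
theorem map_tower_act {G : EtCoh.Ab (Spec (CommRingCat.of K))} (τ : M ≃ₐ[K] M) (t : EtCoh.sect G (UObj K L)) :
    G.obj.map (towerHom K L M).op (G.obj.map (act K L (AlgEquiv.restrictNormalHom L τ)).op t) =
      G.obj.map (act K M τ).op (G.obj.map (towerHom K L M).op t) := by
  rw [← Functor.map_comp_apply, ← Functor.map_comp_apply, ← op_comp, ← op_comp]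
  refine congrArg (fun f => G.obj.map f t) (congrArg Quiver.Hom.op ?_)
  apply MorphismProperty.Over.Hom.ext
  show Spec.map _ ≫ Spec.map _ = Spec.map _ ≫ Spec.map _
  rw [← Spec.map_comp, ← Spec.map_comp]
  refine congrArg Spec.map (CommRingCat.hom_ext (RingHom.ext fun c => ?_))
  exact AlgEquiv.restrictNormal_commutes τ L c

/-- Restriction of global sections. -/
theorem map_tower_toTop {G : EtCoh.Ab (Spec (CommRingCat.of K))}
    (s : EtCoh.sect G (EtCoh.top (Spec (CommRingCat.of K)))) :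
    G.obj.map (towerHom K L M).op (G.obj.map (toTop K L).op s) = G.obj.map (toTop K M).op s :=
  (Functor.map_comp_apply G.obj (toTop K L).op (towerHom K L M).op s).symm.trans
    (congrArg (fun f => G.obj.map f s)
      (congrArg Quiver.Hom.op ((EtCore.topIsTerminal _).hom_ext (towerHom K L M ≫ toTop K L) (toTop K M))))

/-- The basic step: periodicity is killed by the degree. -/
theorem eq_zero_three (s : M ≃ₐ[K] M) (hs : ∀ τ, τ ∈ Subgroup.zpowers s) (c : ℕ)
    (hc : Nat.card (M ≃ₐ[K] M) = c * Nat.card (L ≃ₐ[K] L))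
    (G : EtCoh.Ab (Spec (CommRingCat.of K)))
    (h1 : ∀ x : EtCoh.H (Spec (CommRingCat.of K)) G 1, c • x = 0)
    (h2 : Subsingleton (EtCoh.H (Spec (CommRingCat.of L)) ((EtCoh.pull (mor K L)).obj G) 2))
    (h3 : Subsingleton (EtCoh.H (Spec (CommRingCat.of L)) ((EtCoh.pull (mor K L)).obj G) 3)) :
    Subsingleton (EtCoh.H (Spec (CommRingCat.of K)) G 3) := by
  classical
  refine GalEt.subsingleton_of_forall_eq_zero fun x => ?_
  let S0 := SiteCoh.injEmbed G
  have hS0 := SiteCoh.injEmbed_shortExact G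
  haveI : Injective S0.X₂ := inferInstanceAs (Injective (Injective.under G))
  let S1 := SiteCoh.injEmbed S0.X₃
  have hS1 := SiteCoh.injEmbed_shortExact S0.X₃
  haveI : Injective S1.X₂ := inferInstanceAs (Injective (Injective.under S0.X₃))
  let S2 := SiteCoh.injEmbed S1.X₃
  have hS2 := SiteCoh.injEmbed_shortExact S1.X₃
  haveI : Injective S2.X₂ := inferInstanceAs (Injective (Injective.under S1.X₃))
  haveI := hS0.mono_f
  haveI := hS1.mono_f
  haveI := hS2.mono_f
  have hL1 : Subsingleton (EtCoh.H (Spec (CommRingCat.of L)) ((EtCoh.pull (mor K L)).obj S0.X₃) 1) :=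
    subsingleton_pull_shift K L hS0 0 h2
  have hL2 : Subsingleton (EtCoh.H (Spec (CommRingCat.of L)) ((EtCoh.pull (mor K L)).obj S1.X₃) 1) :=
    subsingleton_pull_shift K L hS1 0 (subsingleton_pull_shift K L hS0 1 h3)
  obtain ⟨θ, rfl⟩ := Ext.covariant_sequence_exact₁ _ hS0 x (Ext.eq_zero_of_injective _) (rfl : 2 + 1 = 3)
  obtain ⟨θ, rfl⟩ := Ext.covariant_sequence_exact₁ _ hS1 θ (Ext.eq_zero_of_injective _) (rfl : 1 + 1 = 2)
  obtain ⟨θ, rfl⟩ := Ext.covariant_sequence_exact₁ _ hS2 θ (Ext.eq_zero_of_injective _) (rfl : 0 + 1 = 1)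
  obtain ⟨e, rfl⟩ := (Ext.mk₀_bijective _ _).2 θ
  suffices hlift : ∃ y₀, S2.g.hom.app (op (EtCoh.top (Spec (CommRingCat.of K)))) y₀ = EtLimit.secOf e by
    obtain ⟨y₀, hy₀⟩ := hlift
    obtain ⟨l, hl⟩ := EtLimit.exists_secOf y₀
    have hls : l ≫ S2.g = e := EtLimit.secOf_injective (by rw [TorsionColim.secOf_comp, hl, hy₀])
    have hzero : (Ext.mk₀ e).comp hS2.extClass (zero_add 1) = 0 := by
      rw [← hls, ← Ext.mk₀_comp_mk₀, Ext.comp_assoc_of_second_deg_zero, hS2.comp_extClass, Ext.comp_zero]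
    rw [hzero, Ext.zero_comp, Ext.zero_comp]
  let U := UObj K L
  let V := UObj K M
  let φ := AlgEquiv.restrictNormalHom (F := K) (K₁ := M) L
  let σ := φ s
  letI := galModule K L S2.X₂
  letI := galModule K L S1.X₃
  letI := galModule K L S1.X₂
  letI := galModule K M S2.X₂
  letI := galModule K M S1.X₂
  letI := galModule K M S0.X₂
  obtain ⟨y, hy⟩ := exists_lift_sect K L hS2 hL2 (S2.X₃.obj.map (toTop K L).op (EtLimit.secOf e))
  obtain ⟨v, hv⟩ := exists_eq_app hS2 U (S2.X₂.obj.map (act K L σ).op y - y) (by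
    rw [map_sub, NatTrans.naturality_apply, hy, res_invariant, sub_self])
  obtain ⟨z, hz⟩ := exists_lift_sect K L hS1 hL1 v
  obtain ⟨z₀, hz₀⟩ := exists_descent K L S1.X₂ (∑ τ : L ≃ₐ[K] L, τ • z) fun τ => by
    show τ • (∑ υ : L ≃ₐ[K] L, υ • z) = _
    rw [Finset.smul_sum]
    simp only [smul_smul]
    exact Fintype.sum_bijective (τ * ·) (Group.mulLeft_bijective τ) _ _ fun _ => rfl
  have hnat2 : ∀ (τ : L ≃ₐ[K] L) (w : EtCoh.sect S1.X₃ U),
      S2.f.hom.app (op U) (τ • w) = τ • S2.f.hom.app (op U) w :=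
    fun τ w => NatTrans.naturality_apply S2.f.hom _ w
  obtain ⟨u, hu⟩ := exists_eq_app hS1 (EtCoh.top (Spec (CommRingCat.of K))) z₀ (by
    refine sect_ext K L S1.X₃ _ _ ?_
    rw [map_zero, ← NatTrans.naturality_apply, hz₀, map_sum]
    refine app_inj S2.f U ?_
    rw [map_zero, map_sum]
    have e1 : ∀ τ : L ≃ₐ[K] L, S2.f.hom.app (op U) (S1.g.hom.app (op U) (τ • z)) =
        (τ * σ) • y - τ • y := fun τ => by
      rw [show S1.g.hom.app (op U) (τ • z) = τ • S1.g.hom.app (op U) z from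
        NatTrans.naturality_apply S1.g.hom _ z, hz, hnat2, hv, smul_sub, mul_smul]
      rfl
    refine (Finset.sum_congr rfl fun τ _ => e1 τ).trans ?_
    rw [Finset.sum_sub_distrib, sub_eq_zero]
    exact Fintype.sum_bijective (· * σ) (Group.mulRight_bijective σ) _ _ fun _ => rfl)
  obtain ⟨lu, hlu⟩ := EtLimit.exists_secOf u
  have hcu : (Ext.mk₀ (c • lu)).comp hS0.extClass (zero_add 1) = 0 := by
    have e0 : (Ext.mk₀ (c • lu) : Ext.{u + 1} _ _ 0) = c • Ext.mk₀ lu :=
      map_nsmul (Ext.addEquiv₀ (X := EtCoh.const (Spec (CommRingCat.of K)) ℤ) (Y := S0.X₃)).symm.toAddMonoidHom _ _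
    rw [e0]
    exact (map_nsmul ((Ext.bilinearComp _ _ _ 0 1 1 (zero_add 1)).flip hS0.extClass) c _).trans
      (h1 _)
  obtain ⟨lw, hlw⟩ := Ext.covariant_sequence_exact₃ _ hS0 _ (zero_add 1) hcu
  obtain ⟨lw, rfl⟩ := (Ext.mk₀_bijective _ _).2 lw
  rw [Ext.mk₀_comp_mk₀] at hlw
  let w := EtLimit.secOf lw
  have hw : S0.g.hom.app (op (EtCoh.top (Spec (CommRingCat.of K)))) w = c • u := by
    rw [← hlu, ← TorsionColim.secOf_nsmul, ← (Ext.mk₀_bijective _ _).1 hlw, TorsionColim.secOf_comp]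
  obtain ⟨w', hw'⟩ := exists_norm_injective K M S0.X₂ (S0.X₂.obj.map (toTop K M).op w)
    (fun τ => res_invariant K M w τ)
  let r : ∀ (F : EtCoh.Ab (Spec (CommRingCat.of K))), EtCoh.sect F U →+ EtCoh.sect F V :=
    fun F => (F.obj.map (towerHom K L M).op).hom
  have hr : ∀ (F : EtCoh.Ab (Spec (CommRingCat.of K))) (τ : M ≃ₐ[K] M) (t : EtCoh.sect F U),
      r F (F.obj.map (act K L (φ τ)).op t) = F.obj.map (act K M τ).op (r F t) :=
    fun F τ t => map_tower_act K L M τ t
  let q := S1.f.hom.app (op V) (S0.g.hom.app (op V) w')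
  let z' := r S1.X₂ z - q
  have hNz : ∑ τ : M ≃ₐ[K] M, τ • z' = 0 := by
    have hsum : ∀ f : (L ≃ₐ[K] L) → EtCoh.sect S1.X₂ V, ∑ τ : M ≃ₐ[K] M, f (φ τ) = c • ∑ σ' : L ≃ₐ[K] L, f σ' := fun f => by
      have hsurj : Function.Surjective φ := AlgEquiv.restrictNormalHom_surjective M
      have hfib : ∀ σ' : L ≃ₐ[K] L, (Finset.univ.filter fun τ => φ τ = σ').card = c := fun σ' => by
        have e : ∀ σ'' : L ≃ₐ[K] L, (Finset.univ.filter fun τ => φ τ = σ'').card =
            (Finset.univ.filter fun τ => φ τ = σ').card := fun σ'' =>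
          MonoidHom.card_fiber_eq_of_mem_range φ (MonoidHom.mem_range.2 (hsurj σ'')) (MonoidHom.mem_range.2 (hsurj σ'))
        have e2 := Finset.card_eq_sum_card_fiberwise (f := φ) (s := (Finset.univ : Finset (M ≃ₐ[K] M)))
          (t := (Finset.univ : Finset (L ≃ₐ[K] L))) (fun _ _ => Finset.mem_univ _)
        simp only [e, Finset.sum_const, smul_eq_mul] at e2
        rw [Nat.card_eq_fintype_card, Nat.card_eq_fintype_card, ← Finset.card_univ, ← Finset.card_univ, e2,
          mul_comm c] at hc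
        exact Nat.eq_of_mul_eq_mul_left (Finset.card_pos.2 ⟨1, Finset.mem_univ _⟩) hc
      rw [← Finset.sum_fiberwise' Finset.univ φ f, Finset.smul_sum]
      refine Finset.sum_congr rfl fun σ' _ => ?_
      rw [Finset.sum_const, hfib]
    have e1 : ∀ τ : M ≃ₐ[K] M, τ • z' = r S1.X₂ (φ τ • z) -
        S1.f.hom.app (op V) (S0.g.hom.app (op V) (τ • w')) := fun τ => by
      rw [smul_sub]
      refine congrArg₂ (· - ·) (hr S1.X₂ τ z).symm ?_
      show S1.X₂.obj.map (act K M τ).op q = _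
      show _ = S1.f.hom.app (op V) (S0.g.hom.app (op V) (S0.X₂.obj.map (act K M τ).op w'))
      rw [NatTrans.naturality_apply, NatTrans.naturality_apply]
    have hwsum : ∑ τ : M ≃ₐ[K] M, τ • w' = S0.X₂.obj.map (toTop K M).op w := hw'
    simp only [e1, Finset.sum_sub_distrib]
    rw [hsum (fun σ' => r S1.X₂ (σ' • z)), ← map_sum, ← map_sum, ← map_sum, hwsum, ← hz₀, ← hu,
      NatTrans.naturality_apply, hw, NatTrans.naturality_apply, map_nsmul, map_nsmul,
      sub_eq_zero]
    exact congrArg (c • ·) (map_tower_toTop K L M _)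
  obtain ⟨A, hA, hAs⟩ := exists_crossed s hs z' hNz
  obtain ⟨v', hv'⟩ := exists_coboundary_injective K M S1.X₂ A hA
  let y' := r S2.X₂ y - S2.f.hom.app (op V) (S1.g.hom.app (op V) v')
  have hfix : s • y' = y' := by
    refine sub_eq_zero.1 ?_
    have e1 : s • y' - y' = r S2.X₂ (S2.X₂.obj.map (act K L σ).op y - y) -
        S2.f.hom.app (op V) (S1.g.hom.app (op V) (S1.X₂.obj.map (act K M s).op v' - v')) := by
      show S2.X₂.obj.map (act K M s).op y' - y' = _
      simp only [y', map_sub]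
      rw [NatTrans.naturality_apply, NatTrans.naturality_apply]
      erw [hr S2.X₂ s y]
      abel
    rw [e1, hv' s, hAs, ← hv, ← hz]
    show r S2.X₂ _ - S2.f.hom.app (op V) (S1.g.hom.app (op V) (r S1.X₂ z - q)) = 0
    rw [map_sub, show S1.g.hom.app (op V) q = 0 from app_zero_of_comp _ _, sub_zero, sub_eq_zero]
    show S2.X₂.obj.map _ _ = S2.f.hom.app (op V) (S1.g.hom.app (op V) (S1.X₂.obj.map _ z))
    rw [NatTrans.naturality_apply, NatTrans.naturality_apply]
  obtain ⟨y₀, hy₀⟩ := exists_descent K M S2.X₂ y' fun τ =>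
    (Subgroup.zpowers_le (H := MulAction.stabilizer (M ≃ₐ[K] M) y')).2 hfix (hs τ)
  refine ⟨y₀, sect_ext K M S2.X₃ _ _ ?_⟩
  rw [← NatTrans.naturality_apply, hy₀]
  show S2.g.hom.app (op V) (r S2.X₂ y - _) = _
  rw [map_sub, app_zero_of_comp, sub_zero]
  show S2.g.hom.app (op V) (S2.X₂.obj.map _ y) = _
  rw [NatTrans.naturality_apply, hy, map_tower_toTop]

/-- Shifted form. -/
theorem subsingleton_H_of_lift (s : M ≃ₐ[K] M) (hs : ∀ τ, τ ∈ Subgroup.zpowers s) (c : ℕ)
    (hc : Nat.card (M ≃ₐ[K] M) = c * Nat.card (L ≃ₐ[K] L)) :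
    ∀ (n : ℕ) (G : EtCoh.Ab (Spec (CommRingCat.of K))),
      (∀ x : EtCoh.H (Spec (CommRingCat.of K)) G (n + 1), c • x = 0) →
      Subsingleton (EtCoh.H (Spec (CommRingCat.of L)) ((EtCoh.pull (mor K L)).obj G) (n + 2)) →
      Subsingleton (EtCoh.H (Spec (CommRingCat.of L)) ((EtCoh.pull (mor K L)).obj G) (n + 3)) →
      Subsingleton (EtCoh.H (Spec (CommRingCat.of K)) G (n + 3)) := by
  intro n
  induction n with
  | zero => exact fun G h1 h2 h3 => eq_zero_three K L M s hs c hc G h1 h2 h3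
  | succ n ih =>
    intro G h1 h2 h3
    let S := SiteCoh.injEmbed G
    have hS := SiteCoh.injEmbed_shortExact G
    haveI : Injective S.X₂ := inferInstanceAs (Injective (Injective.under G))
    have h1' : ∀ x : EtCoh.H (Spec (CommRingCat.of K)) S.X₃ (n + 1), c • x = 0 := fun x => by
      have hx : (c • x).comp hS.extClass (rfl : n + 1 + 1 = n + 2) = 0 :=
        (map_nsmul ((Ext.bilinearComp _ _ _ (n + 1) 1 (n + 2) rfl).flip hS.extClass) c x).trans (h1 _)
      obtain ⟨y, hy⟩ := Ext.covariant_sequence_exact₃ _ hS (c • x) rfl hx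
      rw [← hy, Ext.eq_zero_of_injective y, Ext.zero_comp]
    have h := ih S.X₃ h1' (subsingleton_pull_shift K L hS (n + 1) h2) (subsingleton_pull_shift K L hS (n + 2) h3)
    refine GalEt.subsingleton_of_forall_eq_zero fun x => ?_
    obtain ⟨θ, rfl⟩ := Ext.covariant_sequence_exact₁ _ hS x (Ext.eq_zero_of_injective _) (rfl : n + 3 + 1 = n + 1 + 3)
    rw [@Subsingleton.elim _ h θ 0, Ext.zero_comp]

end Groth.Agent.CdDev9.Serre
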