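import Groth.Agent.Et18.H0Lift.Spread
import Groth.Agent.Et18.H0Lift.Supports
import Groth.Agent.Et18.ConsColim
import Groth.Agent.S19255

/-!
A global section of the inverse image at the generic point extends over a neighbourhood.
-/

set_option autoImplicit false
set_option linter.all false
set_option backward.isDefEq.respectTransparency.types false
set_option backward.isDefEq.respectTransparency false
set_option backward.defeqAttrib.useBackward true
set_option synthInstance.maxHeartbeats 400000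
set_option maxHeartbeats 1000000

universe u

open CategoryTheory CategoryTheory.Limits AlgebraicGeometry Opposite TopologicalSpace
open Groth.Agent.Et18

noncomputable section

namespace Groth.Agent.CdDev9

open Groth.Agent.Et18.H0Lift

variable {Z : Scheme.{u}}

theorem exists_germHom (F : EtCoh.Ab Z) (W : Z.Etale) (x : W.left) :
    ∃ (A : AddCommGrpCat.{u + 1}) (φ : EtCoh.sect F W →+ A), ∀ t : EtCoh.sect F W,
      x ∉ EtShriek.sectSupp F W t ↔ φ t = 0 := by
  obtain ⟨v, hv⟩ := exists_fiber_point (algPoint Z (W.hom x)) W x (algPoint_default Z _).symm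
  let g := (Scheme.pointSmallEtale (algPoint Z (W.hom x))).toPresheafFiber W v F.obj
  refine ⟨_, g.hom, fun t => ?_⟩
  have h := gm_eq_zero_iff F (algPoint Z (W.hom x)) W v t
  rw [hv] at h
  exact h.symm

theorem not_mem_sectSupp_sub (F : EtCoh.Ab Z) {W : Z.Etale} (s t : EtCoh.sect F W) (x : W.left)
    (hs : x ∉ EtShriek.sectSupp F W s) (ht : x ∉ EtShriek.sectSupp F W t) :
    x ∉ EtShriek.sectSupp F W (s - t) := by
  obtain ⟨A, φ, hφ⟩ := exists_germHom F W x
  rw [hφ] at hs ht ⊢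
  rw [map_sub, hs, ht, sub_zero]

theorem not_mem_sectSupp_nsmul (F : EtCoh.Ab Z) {W : Z.Etale} (n : ℕ) (s : EtCoh.sect F W) (x : W.left)
    (hs : x ∉ EtShriek.sectSupp F W s) : x ∉ EtShriek.sectSupp F W (n • s) := by
  obtain ⟨A, φ, hφ⟩ := exists_germHom F W x
  rw [hφ] at hs ⊢
  rw [map_nsmul, hs, nsmul_zero]

theorem not_mem_sectSupp_zero (F : EtCoh.Ab Z) {W : Z.Etale} (x : W.left) :
    x ∉ EtShriek.sectSupp F W 0 := fun h => h W (𝟙 W) ⟨x, rfl⟩ (map_zero _)

theorem uAt_map {T : Scheme.{u}} (j : T ⟶ Z) (F : EtCoh.Ab Z) {V W : Z.Etale} (k : W ⟶ V) (t : EtCoh.sect F V) :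
    uAt j F W (F.obj.map k.op t) = ((EtCoh.pull j).obj F).obj.map ((EtCoh.bc j).map k).op (uAt j F V t) :=
  ConcreteCategory.congr_hom (((EtCoh.pullPushAdj j).unit.app F).hom.naturality k.op) t

theorem uAt_nsmul {T : Scheme.{u}} (j : T ⟶ Z) (F : EtCoh.Ab Z) (W : Z.Etale) (n : ℕ) (t : EtCoh.sect F W) :
    uAt j F W (n • t) = n • uAt j F W t :=
  map_nsmul (((EtCoh.pullPushAdj j).unit.app F).hom.app (op W)).hom n t

theorem uAt_sub {T : Scheme.{u}} (j : T ⟶ Z) (F : EtCoh.Ab Z) (W : Z.Etale) (s t : EtCoh.sect F W) :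
    uAt j F W (s - t) = uAt j F W s - uAt j F W t :=
  map_sub (((EtCoh.pullPushAdj j).unit.app F).hom.app (op W)).hom s t

theorem prV_map {T : Scheme.{u}} (j : T ⟶ Z) {V W : Z.Etale} (k : W ⟶ V) (x : ((EtCoh.bc j).obj W).left) :
    EtShriek.prV j V (((EtCoh.bc j).map k).left x) = k.left (EtShriek.prV j W x) := by
  exact congrArg (fun f : ((EtCoh.bc j).obj W).left ⟶ V.left => f x) (pullback.lift_fst _ _ _)

theorem hom_prV {T : Scheme.{u}} (j : T ⟶ Z) (W : Z.Etale) (x : ((EtCoh.bc j).obj W).left) :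
    W.hom (EtShriek.prV j W x) = j (((EtCoh.bc j).obj W).hom x) := by
  exact congrArg (fun f : ((EtCoh.bc j).obj W).left ⟶ Z => f x) pullback.condition

theorem point_eq_of_unique {T : Scheme.{u}} (j : T ⟶ Z) [IsPreimmersion j] (W : Z.Etale) (w : W.left) (η : Z)
    (hrange : Set.range j = {η}) (huniq : ∀ x : W.left, W.hom x = η → x = w)
    (x y : ((EtCoh.bc j).obj W).left) : x = y := by
  haveI : IsPreimmersion (EtShriek.prV j W) := MorphismProperty.pullback_fst _ _ ‹IsPreimmersion j›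
  refine (EtShriek.prV j W).isEmbedding.injective ?_
  have key : ∀ z : ((EtCoh.bc j).obj W).left, EtShriek.prV j W z = w := fun z => huniq _ (by
    rw [hom_prV]
    exact Set.mem_singleton_iff.1 (hrange ▸ Set.mem_range_self _))
  rw [key x, key y]

theorem overlap_diff {T : Scheme.{u}} (j : T ⟶ Z) [IsPreimmersion j] (F : EtCoh.Ab Z)
    (σ : EtCoh.sect ((EtCoh.pull j).obj F) (EtCoh.top T)) {η : Z} (hrange : Set.range j = {η})
    {W : Z.Etale} (w : W.left) (huniq : ∀ x : W.left, W.hom x = η → x = w) (t : EtCoh.sect F W)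
    (ht : ∀ b, b ∉ EtShriek.sectSupp ((EtCoh.pull j).obj F) _ (diffAt j F σ W t))
    {R : Z.Etale} (p q : R ⟶ W) (r : R.left) (hr : R.hom r = η) :
    r ∉ EtShriek.sectSupp F R (F.obj.map p.op t - F.obj.map q.op t) := by
  let M := (EtCoh.pull j).obj F
  let B := (EtCoh.bc j).obj R
  obtain ⟨y, hy⟩ : η ∈ Set.range j := hrange ▸ rfl
  obtain ⟨r', hr', -⟩ := Scheme.Pullback.exists_preimage_pullback (f := R.hom) (g := j) r y (hr.trans hy.symm)
  have key : ∀ a : R ⟶ W, r' ∉ EtShriek.sectSupp M B (diffAt j F σ R (F.obj.map a.op t)) := fun a => by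
    have e : diffAt j F σ R (F.obj.map a.op t) = M.obj.map ((EtCoh.bc j).map a).op (diffAt j F σ W t) := by
      show uAt j F R _ - _ = M.obj.map _ (uAt j F W t - _)
      rw [map_sub, uAt_map, ← ConcreteCategory.comp_apply, ← Functor.map_comp, ← op_comp,
        IsTerminal.hom_ext (EtCore.topIsTerminal T) ((EtCoh.bc j).map a ≫ (EtCore.topIsTerminal T).from _)
          ((EtCore.topIsTerminal T).from _)]
    rw [e, mem_sectSupp_map]
    exact ht _
  intro hmem
  have hm : r' ∈ EtShriek.sectSupp M B (uAt j F R (F.obj.map p.op t - F.obj.map q.op t)) := by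
    rw [mem_sectSupp_unit, show EtShriek.prV j R r' = r from hr']
    exact hmem
  refine absurd hm ?_
  rw [uAt_sub, ← sub_sub_sub_cancel_right _ _ (M.obj.map ((EtCore.topIsTerminal T).from B).op σ)]
  exact not_mem_sectSupp_sub M _ _ _ (key p) (key q)

theorem exists_local_single [IsNoetherian Z] {η : Z} (hη : ∀ x : Z, η ⤳ x) {T : Scheme.{u}} (j : T ⟶ Z)
    [IsPreimmersion j] (hrange : Set.range j = {η}) (F : EtCoh.Ab Z)
    (σ : EtCoh.sect ((EtCoh.pull j).obj F) (EtCoh.top T)) :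
    ∃ (W : Z.Etale) (w : W.left) (t : EtCoh.sect F W), CompactSpace W.left ∧ W.hom w = η ∧
      (∀ x : W.left, W.hom x = η → x = w) ∧
      ∀ b, b ∉ EtShriek.sectSupp ((EtCoh.pull j).obj F) _ (diffAt j F σ W t) := by
  classical
  obtain ⟨y, hy⟩ : η ∈ Set.range j := hrange ▸ rfl
  obtain ⟨V, t, b, hb, hbs⟩ := exists_local_at j F σ y
  haveI : Etale V.hom := V.prop
  let v := EtShriek.prV j V b
  have hv : V.hom v = η := by rw [hom_prV, hb, hy]
  haveI : IsLocallyNoetherian V.left := @LocallyOfFiniteType.isLocallyNoetherian _ Z V.hom _ (inferInstanceAs (IsLocallyNoetherian Z))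
  obtain ⟨A, hA, hvA, -⟩ := exists_isAffineOpen_mem_and_subset (X := V.left) (x := v) (U := ⊤) trivial
  haveI : IsAffine A.toScheme := hA
  haveI : IsNoetherian A.toScheme := { }
  haveI : QuasiCompact (A.ι ≫ V.hom) := by
    haveI : QuasiCompact ((A.ι ≫ V.hom) ≫ terminal.from Z) := by
      rw [terminal.hom_ext ((A.ι ≫ V.hom) ≫ terminal.from Z) (terminal.from A.toScheme)]
      infer_instance
    haveI : QuasiSeparated (terminal.from Z) := (quasiSeparatedSpace_iff_quasiSeparated _).mp inferInstance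
    exact QuasiCompact.of_comp _ (terminal.from Z)
  let Φ : Set V.left := A.ι '' ((A.ι ≫ V.hom) ⁻¹' {η})
  have hΦ : Φ.Finite := ((A.ι ≫ V.hom).finite_preimage_singleton η).image _
  have hC : IsClosed (⋃ x ∈ Φ \ {v}, closure ({x} : Set V.left)) :=
    (hΦ.subset Set.diff_subset).isClosed_biUnion fun _ _ => isClosed_closure
  let O : V.left.Opens := A ⊓ ⟨_, hC.isOpen_compl⟩
  have hvO : v ∈ O := by
    refine ⟨hvA, fun hmem => ?_⟩
    obtain ⟨x, hx, hxv⟩ := Set.mem_iUnion₂.1 hmem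
    obtain ⟨a, ha, rfl⟩ := hx.1
    have hd := V.hom.isDiscrete_preimage_singleton η
    haveI := isDiscrete_iff_discreteTopology.mp hd
    have h' : (⟨A.ι a, ha⟩ : V.hom ⁻¹' {η}) ⤳ ⟨v, hv⟩ :=
      (subtype_specializes_iff _ _).mpr (specializes_iff_mem_closure.2 hxv)
    exact hx.2 (congrArg Subtype.val h'.eq)
  let W : Z.Etale := Scheme.Etale.mk (O.ι ≫ V.hom)
  let k : W ⟶ V := MorphismProperty.Over.homMk O.ι rfl
  have huniq : ∀ x : W.left, W.hom x = η → x = (⟨v, hvO⟩ : O.toScheme) := fun x hx => by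
    apply Subtype.ext
    by_contra hne
    exact x.2.2 (Set.mem_iUnion₂.2 ⟨x.1, ⟨⟨⟨x.1, x.2.1⟩, hx, rfl⟩, hne⟩, subset_closure rfl⟩)
  have hcpt : CompactSpace W.left := by
    refine isCompact_iff_compactSpace.1 (show IsCompact (O : Set V.left) from ?_)
    have h := (NoetherianSpace.isCompact ((A.ι ⁻¹ᵁ O : A.toScheme.Opens) : Set A.toScheme)).image A.ι.continuous
    have e : A.ι '' ((A.ι ⁻¹ᵁ O : A.toScheme.Opens) : Set A.toScheme) = (O : Set V.left) := by
      show A.ι '' (A.ι ⁻¹' O) = _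
      rw [Set.image_preimage_eq_inter_range, Scheme.Opens.range_ι]
      exact Set.inter_eq_left.2 fun x hx => hx.1
    rwa [e] at h
  refine ⟨W, (⟨v, hvO⟩ : O.toScheme), F.obj.map k.op t, hcpt, hv, huniq, fun b' => ?_⟩
  have e : diffAt j F σ W (F.obj.map k.op t) = ((EtCoh.pull j).obj F).obj.map ((EtCoh.bc j).map k).op (diffAt j F σ V t) := by
    show uAt j F W _ - _ = ((EtCoh.pull j).obj F).obj.map _ (uAt j F V t - _)
    rw [map_sub, uAt_map, ← ConcreteCategory.comp_apply, ← Functor.map_comp, ← op_comp,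
      IsTerminal.hom_ext (EtCore.topIsTerminal T) ((EtCoh.bc j).map k ≫ (EtCore.topIsTerminal T).from _)
        ((EtCore.topIsTerminal T).from _)]
  rw [e, mem_sectSupp_map]
  have hpt : ((EtCoh.bc j).map k).left b' = b := by
    haveI : IsPreimmersion (EtShriek.prV j V) := MorphismProperty.pullback_fst _ _ ‹IsPreimmersion j›
    refine (EtShriek.prV j V).isEmbedding.injective ?_
    rw [prV_map, huniq (EtShriek.prV j W b') (by
      rw [hom_prV]; exact Set.mem_singleton_iff.1 (hrange ▸ Set.mem_range_self _))]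
    rfl
  rw [hpt]
  exact hbs

/-- A nonzero section at the generic point killed by `ℓ` gives a section over an affine neighbourhood
killed by `ℓ` with nonzero germ. -/
theorem exists_sectData_generic [IsNoetherian Z] {η : Z} (hη : ∀ x : Z, η ⤳ x) {T : Scheme.{u}} (j : T ⟶ Z)
    [IsPreimmersion j] (hrange : Set.range j = {η}) (F : EtCoh.Ab Z) (ℓ : ℕ) (hℓ : 0 < ℓ)
    (σ : EtCoh.sect ((EtCoh.pull j).obj F) (EtCoh.top T)) (hσ : σ ≠ 0) (hσℓ : ℓ • σ = 0) :
    ∃ (d : SectData (fun n => n = ℓ) F) (w : (Scheme.pointSmallEtale (sepPoint Z η)).fiber.obj d.W),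
      IsOpenImmersion d.W.hom ∧
        (Scheme.pointSmallEtale (sepPoint Z η)).toPresheafFiber d.W w F.obj d.s ≠ 0 := by
  classical
  let M := (EtCoh.pull j).obj F
  obtain ⟨W, w, t, hW, hw, huniq, ht⟩ := exists_local_single hη j hrange F σ
  haveI : Etale W.hom := W.prop
  haveI : IsLocallyNoetherian W.left := @LocallyOfFiniteType.isLocallyNoetherian _ Z W.hom _ (inferInstanceAs (IsLocallyNoetherian Z))
  haveI := hW
  obtain ⟨y, hy⟩ : η ∈ Set.range j := hrange ▸ rfl
  obtain ⟨b, hb, -⟩ := Scheme.Pullback.exists_preimage_pullback (f := W.hom) (g := j) w y (hw.trans hy.symm)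
  have hb' : EtShriek.prV j W b = w := hb
  let σ' := M.obj.map ((EtCore.topIsTerminal T).from ((EtCoh.bc j).obj W)).op σ
  have hbσ : b ∈ EtShriek.sectSupp M _ σ' := by
    rw [mem_sectSupp_map]
    obtain ⟨p, hp⟩ := Set.nonempty_iff_ne_empty.2 fun h => hσ (eq_zero_of_sectSupp_eq_empty M _ σ h)
    have hpy : ((EtCore.topIsTerminal T).from ((EtCoh.bc j).obj W)).left b = p := by
      refine j.isEmbedding.injective ?_
      have key : ∀ z, j z = η := fun z => Set.mem_singleton_iff.1 (hrange ▸ Set.mem_range_self z)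
      exact (key _).trans (key p).symm
    rwa [hpy]
  have hwt : w ∈ EtShriek.sectSupp F W t := by
    rw [← hb', ← mem_sectSupp_unit]
    by_contra hn
    have h := not_mem_sectSupp_sub M (W := (EtCoh.bc j).obj W) _ _ b hn (ht b)
    rw [show uAt j F W t - diffAt j F σ W t = σ' from sub_sub_cancel _ _] at h
    exact h hbσ
  have hwℓ : w ∉ EtShriek.sectSupp F W (ℓ • t) := by
    rw [← hb', ← mem_sectSupp_unit]
    have e : uAt j F W (ℓ • t) = ℓ • diffAt j F σ W t := by
      show _ = ℓ • (uAt j F W t - σ')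
      rw [uAt_nsmul, smul_sub, ← map_nsmul, hσℓ, map_zero, sub_zero]
    rw [e]
    exact not_mem_sectSupp_nsmul M (W := (EtCoh.bc j).obj W) ℓ _ b (ht b)
  let top : W ⟶ EtCoh.top Z := (EtCore.topIsTerminal Z).from W
  let P := pairObj top top
  haveI : QuasiSeparatedSpace (EtCoh.top Z).left := inferInstanceAs (QuasiSeparatedSpace Z)
  haveI : CompactSpace P.left := compactSpace_pairObj top top
  haveI : Etale P.hom := P.prop
  haveI : IsLocallyNoetherian P.left := @LocallyOfFiniteType.isLocallyNoetherian _ Z P.hom _ (inferInstanceAs (IsLocallyNoetherian Z))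
  haveI : IsNoetherian P.left := { }
  let S := EtShriek.sectSupp F P (F.obj.map (pairFst top top).op t - F.obj.map (pairSnd top top).op t)
  obtain ⟨G, hG, hGS, hGgen⟩ := S19255.exists_finite_generic (isClosed_sectSupp (F := F) P
    (F.obj.map (pairFst top top).op t - F.obj.map (pairSnd top top).op t))
  let C : Set Z := ⋃ g ∈ G, closure {P.hom g}
  have hC : IsClosed C := hG.isClosed_biUnion fun _ _ => isClosed_closure
  have hηC : η ∉ C := fun hmem => by
    obtain ⟨g, hg, hgη⟩ := Set.mem_iUnion₂.1 hmem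
    refine overlap_diff j F σ hrange w huniq t ht (pairFst top top) (pairSnd top top) g ?_ (hGS hg)
    exact ((specializes_iff_mem_closure.2 hgη).antisymm (hη _)).eq
  let O : W.left.Opens := ⟨(EtShriek.sectSupp F W (ℓ • t))ᶜ ∩ W.hom ⁻¹' Cᶜ,
    (isClosed_sectSupp (F := F) W (ℓ • t)).isOpen_compl.inter (hC.isOpen_compl.preimage W.hom.continuous)⟩
  have hwO : w ∈ O := ⟨hwℓ, by show W.hom w ∉ C; rw [hw]; exact hηC⟩
  have hrO : IsOpen (Set.range (O.ι ≫ W.hom)) := (O.ι ≫ W.hom).isOpenMap.isOpen_range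
  obtain ⟨U, hU, hηU, hUle⟩ := exists_isAffineOpen_mem_and_subset (X := Z) (x := η)
    (U := ⟨_, hrO⟩) ⟨⟨w, hwO⟩, hw⟩
  let Ue : Z.Etale := Scheme.Etale.mk U.ι
  let Q : W.left.Opens := O ⊓ W.hom ⁻¹ᵁ U
  let W' : Z.Etale := Scheme.Etale.mk (Q.ι ≫ W.hom)
  let k : W' ⟶ W := MorphismProperty.Over.homMk Q.ι rfl
  let l : Q.toScheme ⟶ U.toScheme := IsOpenImmersion.lift U.ι (Q.ι ≫ W.hom) (by
    rw [Scheme.Opens.range_ι]
    rintro _ ⟨q, rfl⟩
    exact q.2.2)
  let a : W' ⟶ Ue := MorphismProperty.Over.homMk l (IsOpenImmersion.lift_fac _ _ _)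
  have hcov : ∀ x : Ue.left, x ∈ Set.range a.left := fun x => by
    obtain ⟨q, hq⟩ := hUle x.2
    refine ⟨(⟨q.1, q.2, by show W.hom q.1 ∈ U; exact (show W.hom q.1 = x.1 from hq) ▸ x.2⟩ : Q.toScheme), ?_⟩
    refine U.ι.isOpenEmbedding.injective ?_
    exact (congrArg (fun f : Q.toScheme ⟶ Z => f _) (IsOpenImmersion.lift_fac U.ι (Q.ι ≫ W.hom) _)).trans hq
  obtain ⟨s, hs⟩ := exists_glue_cover (F := F) Ue (fun _ : PUnit.{u + 2} => W') (fun _ => a)
    (fun x => ⟨⟨⟩, hcov x⟩) (fun _ => F.obj.map k.op t) (fun _ _ R gk gl he r => by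
      obtain ⟨m, hm1, hm2⟩ := exists_pair_lift top top (gk ≫ k) (gl ≫ k)
        ((EtCore.topIsTerminal Z).hom_ext _ _)
      have e1 : F.obj.map gk.op (F.obj.map k.op t) = F.obj.map m.op (F.obj.map (pairFst top top).op t) := by
        rw [← ConcreteCategory.comp_apply, ← ConcreteCategory.comp_apply, ← Functor.map_comp, ← Functor.map_comp,
          ← op_comp, ← op_comp, hm1]
      have e2 : F.obj.map gl.op (F.obj.map k.op t) = F.obj.map m.op (F.obj.map (pairSnd top top).op t) := by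
        rw [← ConcreteCategory.comp_apply, ← ConcreteCategory.comp_apply, ← Functor.map_comp, ← Functor.map_comp,
          ← op_comp, ← op_comp, hm2]
      rw [e1, e2, ← map_sub, mem_sectSupp_map]
      intro hmem
      obtain ⟨g, hg, hgr⟩ := hGgen _ hmem
      have h1 : P.hom (m.left r) ∈ C := Set.mem_iUnion₂.2
        ⟨g, hg, specializes_iff_mem_closure.1 (hgr.map P.hom.continuous)⟩
      have h2 : P.hom (m.left r) = W.hom ((gk ≫ k).left r) := by
        rw [← hm1]
        show _ = W.hom ((m.left ≫ (pairFst top top).left) r)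
        rw [Scheme.Hom.comp_apply]
        rfl
      rw [h2] at h1
      exact (gk.left r).2.1.2 h1)
  have hk : ℓ • s = 0 := by
    refine sect_ext_of_cover F Ue (fun _ : PUnit.{u + 2} => W') (fun _ => a) (fun x => ⟨⟨⟩, hcov x⟩) _ _ fun i => ?_
    rw [map_nsmul, hs i, map_zero, ← map_nsmul]
    refine eq_zero_of_sectSupp_eq_empty F W' _ (Set.eq_empty_iff_forall_notMem.2 fun q hq => ?_)
    rw [mem_sectSupp_map] at hq
    exact q.2.1.1 hq
  let d : SectData (fun n => n = ℓ) F := ⟨Ue, hU, ℓ, hℓ, rfl, s, hk⟩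
  obtain ⟨v, hv⟩ := exists_fiber_point (sepPoint Z η) Ue (⟨η, hηU⟩ : U.toScheme) (sepPoint_default Z η).symm
  refine ⟨d, v, inferInstanceAs (IsOpenImmersion U.ι), fun h0 => ?_⟩
  have hmem : (⟨η, hηU⟩ : U.toScheme) ∉ EtShriek.sectSupp F Ue s := by
    rw [← hv]
    exact (gm_eq_zero_iff F _ Ue v s).1 h0
  have hwQ : (w : W.left) ∈ Q := ⟨hwO, by show W.hom w ∈ U; rw [hw]; exact hηU⟩
  have haw : a.left (⟨w, hwQ⟩ : Q.toScheme) = (⟨η, hηU⟩ : U.toScheme) := by
    refine U.ι.isOpenEmbedding.injective ?_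
    exact (congrArg (fun f : Q.toScheme ⟶ Z => f _) (IsOpenImmersion.lift_fac U.ι (Q.ι ≫ W.hom) _)).trans hw
  rw [← haw, ← mem_sectSupp_map, hs ⟨⟩, mem_sectSupp_map] at hmem
  exact hmem hwt

end Groth.Agent.CdDev9
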