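import Groth.Agent.CdDev9.LowerBound
import Groth.Agent.VarietyLib.LocalDimPt

/-!
Cohomological dimension and dimension of strict henselizations.
-/

set_option autoImplicit false
set_option linter.all false
set_option backward.isDefEq.respectTransparency.types false
set_option backward.isDefEq.respectTransparency false
set_option synthInstance.maxHeartbeats 400000
set_option maxHeartbeats 1000000

universe u

open CategoryTheory CategoryTheory.Limits AlgebraicGeometry Opposite IsLocalRing
open Groth.Agent.Et18

noncomputable section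

namespace Groth.Agent.CdDev9.StrictDim

open Groth.Agent.GalEt

/-- Strict henselization preserves the dimension. -/
theorem ringKrullDim_strict (A R : Type u) [CommRing A] [IsLocalRing A] [CommRing R] [IsLocalRing R]
    [Algebra A R] [IsLocalHom (algebraMap A R)] [Hensel.IsStrictHenselization A R] :
    ringKrullDim R = ringKrullDim A := by
  haveI := weaklyEtale_strict A R
  refine le_antisymm (Order.krullDim_le_of_strictMono (PrimeSpectrum.comap (algebraMap A R)) fun P Q h => ?_) ?_
  · refine lt_of_le_of_ne (Ideal.comap_mono h.le) fun e => h.ne (PrimeSpectrum.ext ?_)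
    exact HenselLib.WEt.eq_of_le_of_comap_eq (A := A) h.le (congrArg PrimeSpectrum.asIdeal e)
  · haveI : Module.Flat A R := inferInstance
    haveI : Module.FaithfullyFlat A R := Module.FaithfullyFlat.of_flat_of_isLocalHom
    refine iSup_le fun l => ?_
    obtain ⟨P, hP⟩ := PrimeSpectrum.comap_surjective_of_faithfullyFlat (B := R) l.last
    haveI : P.asIdeal.LiesOver l.last.asIdeal := ⟨(congrArg PrimeSpectrum.asIdeal hP).symm⟩
    obtain ⟨L, hL, -⟩ := Ideal.exists_ltSeries_of_hasGoingDown l P.asIdeal
    rw [← hL]
    exact Order.LTSeries.length_le_krullDim L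

/-- A lower bound for the dimension from the fields of rational functions. -/
theorem dim_le_of_minimalPrimes (R : Type u) [CommRing R] [IsNoetherianRing R] [HenselianLocalRing R]
    [IsSepClosed (ResidueField R)] {ℓ : ℕ} (hℓ : ℓ.Prime) (hu : IsUnit (ℓ : R)) (d : ℕ)
    (h : ∀ P ∈ minimalPrimes R, Dix.CohDimLEAt (Spec (CommRingCat.of (FractionRing (R ⧸ P)))) ℓ d) :
    ringKrullDim R ≤ d := by
  refine iSup_le fun l => ?_
  by_contra hl
  have hl' : d + 1 ≤ l.length := by
    by_contra h'
    exact hl (by exact_mod_cast (show l.length ≤ d by omega))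
  obtain ⟨P, hP, hPle⟩ := Ideal.exists_minimalPrimes_le (I := (⊥ : Ideal R)) (J := l.head.asIdeal) bot_le
  haveI := hP.1.1
  have hdim : ((d + 1 : ℕ) : WithBot ℕ∞) ≤ ringKrullDim (R ⧸ P) := by
    rw [ringKrullDim_quotient]
    have hmem : ∀ i : Fin (l.length + 1), l i ∈ PrimeSpectrum.zeroLocus (P : Set R) := fun i => by
      rw [PrimeSpectrum.mem_zeroLocus, SetLike.coe_subset_coe]
      exact hPle.trans (l.head_le i)
    let c' : LTSeries (PrimeSpectrum.zeroLocus (P : Set R)) :=
      { length := l.length
        toFun := fun i => ⟨l i, hmem i⟩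
        step := fun i => l.step i }
    exact le_trans (by exact_mod_cast hl') (Order.LTSeries.length_le_krullDim c')
  let A' := R ⧸ P
  haveI : IsLocalRing A' := IsLocalRing.of_surjective' (Ideal.Quotient.mk P) Ideal.Quotient.mk_surjective
  haveI : HenselianLocalRing A' := HopfQuot.UnitComp.henselianLocalRing_of_finite (R := R) A'
  haveI : IsLocalHom (Ideal.Quotient.mk P) := IsLocalHom.of_surjective _ Ideal.Quotient.mk_surjective
  let φ : ResidueField R →+* ResidueField A' := IsLocalRing.ResidueField.map (Ideal.Quotient.mk P)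
  have hφ : Function.Surjective φ := fun z => by
    obtain ⟨a, rfl⟩ := residue_surjective z
    obtain ⟨a, rfl⟩ := Ideal.Quotient.mk_surjective a
    exact ⟨residue R a, rfl⟩
  haveI : IsSepClosed (ResidueField A') :=
    CdDev9.isSepClosed_ringEquiv (RingEquiv.ofBijective φ ⟨φ.injective, hφ⟩)
  have huA : IsUnit (ℓ : A') := by
    have := hu.map (Ideal.Quotient.mk P)
    rwa [map_natCast] at this
  have := LowerBound.dim_le hℓ (d + 1) A' huA hdim d (h P hP)
  omega

/-- Specializations and the dimension of local rings. -/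
theorem ptDim_le_add {k : Type u} [Field k] {X : Scheme.{u}} (f : X ⟶ Spec (CommRingCat.of k))
    [LocallyOfFiniteType f] {x y : X} (h : x ⤳ y) :
    (DimLib.ptDim f x : WithBot ℕ∞) ≤ ringKrullDim (X.presheaf.stalk y) + (DimLib.ptDim f y : WithBot ℕ∞) := by
  rw [← VarietyLib.localDim_eq_stalk_add_ptDim f y]
  refine le_iInf fun U => ?_
  have hx : x ∈ U.1 := h.mem_open U.1.isOpen U.2
  let V : X.Opens := U.1
  refine le_trans ?_ (DimLib.ptDim_le_topologicalKrullDim (V.ι ≫ f) ⟨x, hx⟩)
  rw [DimLib.ptDim_comp_preimmersion f V.ι ⟨x, hx⟩]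
  exact le_rfl

end Groth.Agent.CdDev9.StrictDim
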