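import Groth.Agent.CdDev9.SpreadSection
import Groth.Agent.CdCurve24.Basic
import Groth.Agent.GalEt.PVanish
import Groth.Agent.SiteCmp16.Derived
import Groth.Agent.Et18.Recollement
import Groth.Agent.Et18.StrataApps
import Groth.Agent.CdDev9.Push

/-!
Vanishing on an integral scheme for sheaves whose generic stalk is unipotent, from vanishing for `ℤ/ℓ`.
-/

set_option autoImplicit false
set_option linter.all false
set_option backward.isDefEq.respectTransparency.types false
set_option backward.isDefEq.respectTransparency false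
set_option backward.defeqAttrib.useBackward true
set_option synthInstance.maxHeartbeats 400000
set_option maxHeartbeats 1000000

universe u

open CategoryTheory CategoryTheory.Limits CategoryTheory.Abelian AlgebraicGeometry Opposite TopologicalSpace
open Groth.Agent.Et18 Groth.Agent.Et18.CdField

noncomputable section

namespace Groth.Agent.CdDev9

open Groth.Agent.CdCurve24 Groth.Agent.GalEt

/-- A constructible set missing the generic point has closure missing it. -/
theorem notMem_closure_of_constructible {X : Type*} [TopologicalSpace X] {η : X} (hη : ∀ x : X, η ⤳ x) {C : Set X}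
    (hC : Topology.IsConstructible C) (h : η ∉ C) : η ∉ closure C := by
  have key : (η ∈ C ∧ ∃ O, IsOpen O ∧ η ∈ O ∧ O ⊆ C) ∨ (η ∉ C ∧ ∃ O, IsOpen O ∧ η ∈ O ∧ O ⊆ Cᶜ) := by
    clear h
    induction hC using Topology.IsConstructible.empty_union_induction with
    | open_retrocompact U hU hUc =>
      rcases U.eq_empty_or_nonempty with rfl | ⟨x, hx⟩
      · exact Or.inr ⟨id, Set.univ, isOpen_univ, trivial, by simp⟩
      · exact Or.inl ⟨(hη x).mem_open hU hx, U, hU, (hη x).mem_open hU hx, subset_rfl⟩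
    | union s hs t ht hs' ht' =>
      by_cases hs0 : η ∈ s
      · obtain ⟨-, O, hO, hO', hOs⟩ := hs'.resolve_right fun h' => h'.1 hs0
        exact Or.inl ⟨Or.inl hs0, O, hO, hO', hOs.trans Set.subset_union_left⟩
      · by_cases ht0 : η ∈ t
        · obtain ⟨-, O, hO, hO', hOt⟩ := ht'.resolve_right fun h' => h'.1 ht0
          exact Or.inl ⟨Or.inr ht0, O, hO, hO', hOt.trans Set.subset_union_right⟩
        · obtain ⟨-, O, hO, hO', hOs⟩ := hs'.resolve_left fun h' => hs0 h'.1
          obtain ⟨-, P, hP, hP', hPt⟩ := ht'.resolve_left fun h' => ht0 h'.1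
          exact Or.inr ⟨fun h' => h'.elim hs0 ht0, O ∩ P, hO.inter hP, ⟨hO', hP'⟩,
            fun x hx h' => h'.elim (hOs hx.1) (hPt hx.2)⟩
    | compl s hs hs' =>
      by_cases hs0 : η ∈ s
      · obtain ⟨-, O, hO, hO', hOs⟩ := hs'.resolve_right fun h' => h'.1 hs0
        exact Or.inr ⟨fun h' => h' hs0, O, hO, hO', by rwa [compl_compl]⟩
      · obtain ⟨-, O, hO, hO', hOs⟩ := hs'.resolve_left fun h' => hs0 h'.1
        exact Or.inl ⟨hs0, O, hO, hO', hOs⟩
  obtain ⟨-, O, hO, hO', hOC⟩ := key.resolve_left fun h' => h h'.1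
  intro hcl
  obtain ⟨x, hx, hx'⟩ := mem_closure_iff.1 hcl O hO hO'
  exact hOC hx hx'

theorem notMem_closure_supp {Z : Scheme.{u}} [IsNoetherian Z] {η : Z} (hη : ∀ x : Z, η ⤳ x) {G : EtCoh.Ab Z}
    (hG : EtPBC.IsConstructible G) (h : η ∉ EtPBC.supp G) : η ∉ closure (EtPBC.supp G) :=
  notMem_closure_of_constructible hη
    (isLocallyConstructible_supp hG).isConstructible h

/-- Vanishing above `n` of sheaves not meeting the generic point. -/
def Low (Z : Scheme.{u}) (η : Z) (ℓ n : ℕ) : Prop :=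
  ∀ G : EtCoh.Ab Z, EtAcyc.IsLTorsion {ℓ} G → η ∉ closure (EtPBC.supp G) →
    ∀ q, n ≤ q → Subsingleton (EtCoh.H Z G q)

theorem isConstructible_of_mono_epi {Z : Scheme.{u}} {A B : EtCoh.Ab Z} (v : A ⟶ B)
    (hA : EtPBC.IsConstructible A) (hB : EtPBC.IsConstructible B) :
    EtPBC.IsConstructible (kernel v) ∧ EtPBC.IsConstructible (cokernel v) :=
  isConstructible_kernel_cokernel v hA hB

/-- Facts on `j_! ℤ/ℓ` for an open immersion. -/
theorem open_const_facts {Z : Scheme.{u}} [IsNoetherian Z] {η : Z} {ℓ n : ℕ} (hℓ : ℓ.Prime) (hlow : Low Z η ℓ n)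
    (hconst : ∀ q, n < q → Subsingleton (EtCoh.H Z (EtCoh.const Z (ZMod ℓ)) q))
    (W : Z.Etale) [IsOpenImmersion W.hom] (hηW : η ∈ Set.range W.hom) :
    EtAcyc.IsLTorsion {ℓ} (EtPBC.extZeroConst W (ZMod ℓ)) ∧
      (∀ q, n < q → Subsingleton (EtCoh.H Z (EtPBC.extZeroConst W (ZMod ℓ)) q)) ∧
      (Finite ((EtCoh.stalk (sepPoint Z η)).obj (EtPBC.extZeroConst W (ZMod ℓ))) ∧
        Nat.card ((EtCoh.stalk (sepPoint Z η)).obj (EtPBC.extZeroConst W (ZMod ℓ))) ∣ ℓ) := by
  haveI : NeZero ℓ := ⟨hℓ.ne_zero⟩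
  let jj : W.left ⟶ Z := W.hom
  haveI : IsOpenImmersion jj := ‹IsOpenImmersion W.hom›
  haveI : EtShriek.JCont jj := jCont jj
  haveI : EtShriek.JCont W.hom := jCont W.hom
  let F := EtCoh.const Z (ZMod ℓ)
  let e : (EtShriek.restrAlong jj).obj F ≅ EtCoh.const W.left (ZMod ℓ) :=
    ((pullRestrIso jj).app F).symm ≪≫ EtCore.pullConst jj (ZMod ℓ)
  obtain ⟨e₀⟩ := nonempty_extZeroConst_iso W (ZMod ℓ)
  let E : EtPBC.extZeroConst W (ZMod ℓ) ≅ (EtShriek.extZero jj).obj ((EtShriek.restrAlong jj).obj F) :=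
    e₀ ≪≫ (EtShriek.extZero jj).mapIso e.symm
  let I := Scheme.IdealSheafData.vanishingIdeal
    (⟨(Set.range jj)ᶜ, jj.isOpenEmbedding.isOpen_range.isClosed_compl⟩ : TopologicalSpace.Closeds Z)
  have hZU : Set.range jj = (Set.range I.subschemeι)ᶜ := by
    rw [I.range_subschemeι]
    exact (compl_compl _).symm
  obtain ⟨w, hS⟩ := shortExact_recollement (i := I.subschemeι) hZU F
  haveI := hS.mono_f
  let ι : EtPBC.extZeroConst W (ZMod ℓ) ⟶ F := E.hom ≫ (EtShriek.extZeroAdj jj).counit.app F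
  haveI : Mono ι := mono_comp _ _
  have hFt : EtAcyc.IsLTorsion {ℓ} F := GalEt.isLTorsion_zmod Z hℓ
  refine ⟨isLTorsion_of_mono ι hFt, fun q hq => ?_, ?_⟩
  · obtain ⟨p, rfl⟩ : ∃ p, q = p + 1 := ⟨q - 1, by omega⟩
    refine CdDev9.subsingleton_H_of_iso E.symm (p + 1) ?_
    refine subsingleton_left hS (hlow _ ?_ ?_ p (by omega)) (hconst _ hq)
    · haveI := hS.epi_g
      exact Et18.isLTorsion_of_epi _ (ShortComplex.mk _ _ w).g hFt
    · intro hmem
      have hsub := closure_minimal (ClosedPointSupport.supp_subset_of_isZero_pull jj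
        (isZero_pull_push_compl hZU ((EtCoh.pull I.subschemeι).obj F))) jj.isOpenEmbedding.isOpen_range.isClosed_compl
      exact hsub hmem hηW
  · let ξ := sepPoint Z η
    let A := AddCommGrpCat.of (ULift.{u + 1} (ZMod ℓ))
    have hinj : Function.Injective ((EtCoh.stalk ξ).map ι) :=
      (AddCommGrpCat.mono_iff_injective _).1 inferInstance
    have hbij := cstGerm_bijective ξ A
    haveI : Finite ((EtCoh.stalk ξ).obj F) := Finite.of_surjective (cstGerm ξ A) hbij.2
    have hcard : Nat.card ((EtCoh.stalk ξ).obj F) = ℓ :=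
      (Nat.card_congr (Equiv.ofBijective (cstGerm ξ A) hbij)).symm.trans
        ((Nat.card_congr Equiv.ulift).trans (Nat.card_zmod ℓ))
    exact ⟨Finite.of_injective _ hinj,
      (AddSubgroup.card_dvd_of_injective ((EtCoh.stalk ξ).map ι).hom hinj).trans (dvd_of_eq hcard)⟩

theorem vanish_of_good {Z : Scheme.{u}} [IsNoetherian Z] {η : Z} (hη : ∀ x : Z, η ⤳ x) {ℓ n : ℕ} (hℓ : ℓ.Prime)
    (hlow : Low Z η ℓ n) (hconst : ∀ q, n < q → Subsingleton (EtCoh.H Z (EtCoh.const Z (ZMod ℓ)) q))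
    (L : Type u) [Field L] (j : Spec (CommRingCat.of L) ⟶ Z) [IsPreimmersion j] (hrange : Set.range j = {η})
    (M : Type u) [Field M] [Algebra L M] [Module.Finite L M] [IsGalois L M] (hM : IsPGroup ℓ (M ≃ₐ[L] M))
    (G : EtCoh.Ab Z) (hGc : EtPBC.IsConstructible G) (hGt : EtAcyc.IsLTorsion {ℓ} G)
    (hG : Good L M ((EtCoh.pull j).obj G) ℓ) (q : ℕ) (hq : n < q) :
    Subsingleton (EtCoh.H Z G q) := by
  haveI := finite_stalk_of_isConstructible hGc (sepPoint Z η)
  generalize hN : Nat.card ((EtCoh.stalk (sepPoint Z η)).obj G) = N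
  induction N using Nat.strong_induction_on generalizing G with
  | _ N ih =>
  subst hN
  by_cases hz : η ∈ EtPBC.supp G
  swap
  · exact hlow G hGt (notMem_closure_supp hη hGc hz) q hq.le
  haveI : Nontrivial ((EtCoh.stalk (xi L M)).obj ((EtCoh.pull j).obj G)) := by
    rw [← not_subsingleton_iff_nontrivial]
    intro h
    refine (mem_supp_iff G (xi L M ≫ j) ?_).1 hz
      ((@AddCommGrpCat.isZero_of_subsingleton _ h).of_iso ((stalkPullIso j (xi L M)).app G).symm)
    exact Set.mem_singleton_iff.1 (hrange ▸ ⟨xi L M default, rfl⟩)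
  obtain ⟨σ, hσℓ, hσ⟩ := GalEt.exists_section L M hℓ hM hG
  have hσ0 : σ ≠ 0 := fun h => hσ (by rw [h, map_zero, map_zero])
  obtain ⟨⟨W, hW, ℓ', hℓ', rfl, s, hs⟩, w, hopen, hgerm⟩ :=
    exists_sectData_generic hη j hrange G ℓ hℓ.pos σ hσ0 hσℓ
  let d : SectData (fun m => m = ℓ') G := ⟨W, hW, ℓ', hℓ', rfl, s, hs⟩
  haveI : IsOpenImmersion W.hom := hopen
  haveI : NeZero ℓ' := ⟨hℓ.ne_zero⟩
  have hηW : η ∈ Set.range W.hom := ⟨fiberPt w, (hom_fiberPt w).trans (sepPoint_default Z η)⟩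
  obtain ⟨hEt, hEv, hEf, hEd⟩ := open_const_facts hℓ hlow hconst W hηW
  let ξ := sepPoint Z η
  let E := EtPBC.extZeroConst W (ZMod ℓ')
  have hEc : EtPBC.IsConstructible E := isConstructible_extZeroConst W hW _
  let ψ : E ⟶ G := d.hom
  obtain ⟨z, hzs⟩ := mem_range_stalk_sectData d (ξ := ξ) w
  have hKc := (isConstructible_kernel_cokernel ψ hEc hGc).1
  have hCc := (isConstructible_kernel_cokernel ψ hEc hGc).2
  have hψinj : Function.Injective ((EtCoh.stalk ξ).map ψ) := by
    refine (injective_iff_map_eq_zero ((EtCoh.stalk ξ).map ψ).hom).2 fun z₁ hz₁ => ?_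
    by_contra hne
    haveI := hEf
    have hz₁' : addOrderOf z₁ = ℓ' := by
      refine (hℓ.eq_one_or_self_of_dvd _ (addOrderOf_dvd_natCard z₁ |>.trans hEd)).resolve_left ?_
      exact fun h => hne (AddMonoid.addOrderOf_eq_one_iff.1 h)
    have hcard : Nat.card ((EtCoh.stalk ξ).obj E) = ℓ' :=
      Nat.dvd_antisymm hEd (hz₁' ▸ addOrderOf_dvd_natCard z₁)
    haveI : Fact ℓ'.Prime := ⟨hℓ⟩
    obtain ⟨k, hk⟩ := AddSubgroup.mem_zmultiples_iff.1 (mem_zmultiples_of_prime_card hcard hne : z ∈ _)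
    apply hgerm
    refine hzs.symm.trans ?_
    rw [← hk, map_zsmul, show (EtCoh.stalk ξ).map ψ z₁ = 0 from hz₁, smul_zero]
  have hKs : η ∉ EtPBC.supp (kernel ψ) := fun hmem => by
    refine (mem_supp_iff _ ξ (sepPoint_default Z η)).1 hmem ?_
    haveI : Mono ((EtCoh.stalk ξ).map ψ) := (AddCommGrpCat.mono_iff_injective _).2 hψinj
    exact IsZero.of_iso (isZero_kernel_of_mono _) (PreservesKernel.iso _ ψ)
  have hKlow := hlow _ (isLTorsion_of_mono (kernel.ι ψ) hEt) (notMem_closure_supp hη hKc hKs)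
  have hC : Subsingleton (EtCoh.H Z (cokernel ψ) q) := by
    haveI : Epi ((EtCoh.pull j).map (cokernel.π ψ)) := inferInstance
    haveI := finite_stalk_of_isConstructible hCc ξ
    have hsurj : Function.Surjective ((EtCoh.stalk ξ).map (cokernel.π ψ)) :=
      (AddCommGrpCat.epi_iff_surjective _).1 inferInstance
    refine ih _ (lt_of_le_of_ne (Nat.card_le_card_of_surjective _ hsurj) fun he => ?_) (cokernel ψ) hCc
      (Et18.isLTorsion_of_epi _ (cokernel.π ψ) hGt) (hG.of_epi L M ((EtCoh.pull j).map (cokernel.π ψ))) inferInstance rfl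
    have hbij := hsurj.bijective_of_nat_card_le he.symm.le
    apply hgerm
    refine hbij.1 (Eq.trans ?_ (map_zero _).symm)
    rw [← hzs, ← ConcreteCategory.comp_apply, ← Functor.map_comp, cokernel.condition, Functor.map_zero]
    rfl
  have hI : Subsingleton (EtCoh.H Z (Abelian.image ψ) q) :=
    subsingleton_right (SiteCmp16.imSeq_shortExact ψ) (hEv q hq) (hKlow (q + 1) (by omega))
  have hS₂ : (ShortComplex.mk (Abelian.image.ι ψ) (cokernel.π ψ) (kernel.condition _)).ShortExact :=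
    { exact := ShortComplex.exact_kernel _
      mono_f := inferInstanceAs (Mono (Abelian.image.ι ψ))
      epi_g := inferInstanceAs (Epi (cokernel.π ψ)) }
  exact CdField.subsingleton_of_shortExact hS₂ hI hC

end Groth.Agent.CdDev9
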